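/- Tower NSFT, USE1: row S1923 from the toolkit `TK`, the geometric theorem `GTc` and the K-facts. -/
import Cfsg.Agent.H24.NSpec2
import Cfsg.Agent.H82.Known
import Cfsg.Agent.H9.GenExtra

set_option autoImplicit false
set_option linter.unusedSectionVars false

open Cfsg hiding pRank
open Subgroup H46 H24.NS
open H14 (CP layerOf)
open H98 (SubN)

namespace H36.NSU

universe u
variable {G : Type u} [Group G] [Finite G] {r m : ℕ} {A E J K S : Subgroup G} {θ : G → Subgroup G}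
  {a b c s t : G}

/-- the projection as a homomorphism -/
noncomputable def prHom (tk : TKP.{u}) (K H : Subgroup G) (hz : Zc K = ⊥) (hH : H ≤ K ⊔ Cent K) :
    H →* K :=
  MonoidHom.mk' (fun x => ⟨pr K x, (tk.pr_spec (hH x.2)).1⟩)
    fun x y => Subtype.ext (tk.pr_mul hz (hH x.2) (hH y.2))

theorem prHom_ker (tk : TKP.{u}) {H : Subgroup G} (hz : Zc K = ⊥) (hH : H ≤ K ⊔ Cent K) (x : H) :
    x ∈ (prHom tk K H hz hH).ker ↔ (x : G) ∈ Cent K := by
  constructor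
  · intro h
    have h1 : pr K x = 1 := congrArg Subtype.val h
    have h2 := (tk.pr_spec (hH x.2)).2
    rwa [h1, inv_one, one_mul] at h2
  · intro h
    exact Subtype.ext (tk.pr_eq hz K.one_mem (by simpa using h))

theorem cent_of_pr (tk : TKP.{u}) (hE : SS E) (hK : CP K E) (hJ : J ≤ E) (hs : IsSimpleGroup J)
    (hn : ¬ J ≤ Cent K) (hc : Nat.card K ≤ Nat.card J) (ht : t ∈ Nrm K) (htJ : t ∈ Cent J) :
    t ∈ Cent K := by
  obtain ⟨-, -, hz, -, hle⟩ := tk.simple hE hK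
  have hH : J ≤ K ⊔ Cent K := hJ.trans hle
  have hinj : Function.Injective (prHom tk K J hz hH) := by
    rw [← MonoidHom.ker_eq_bot_iff]
    refine (hs.eq_bot_or_eq_top_of_normal _ inferInstance).resolve_right fun h => hn fun x hx => ?_
    exact (prHom_ker tk hz hH ⟨x, hx⟩).1 (h ▸ mem_top _)
  have hsurj := (hinj.bijective_of_nat_card_le hc).2
  refine mem_cent.2 fun k hk => ?_
  obtain ⟨j, hj⟩ := hsurj ⟨k, hk⟩
  have e1 : pr K j = k := congrArg Subtype.val hj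
  have e2 := tk.pr_cj t hz (hH j.2)
  rw [cj_of_mem_nrm ht, ← mem_cent.1 htJ j j.2, mul_inv_cancel_right, e1] at e2
  conv_lhs => rw [e2]
  group

theorem kgroup_of_ss (tk : TKP.{u}) (hE : SS E)
    (h : ∀ K, CP K E → ∃ (Y : Subgroup G) (f : K →* Y), Function.Injective f ∧ IsKGroup Y) :
    IsKGroup E := by
  intro H N _ hs hc
  set H' : Subgroup G := H.map E.subtype with hH'
  have hle : H' ≤ E := map_subtype_le _
  set f : H' →* H ⧸ N := (QuotientGroup.mk' N).comp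
    (H.equivMapOfInjective E.subtype E.subtype_injective).symm.toMonoidHom with hf
  have hfs : Function.Surjective f :=
    (QuotientGroup.mk'_surjective N).comp (MulEquiv.surjective _)
  by_cases hex : ∃ K, CP K E ∧ ∀ x : H', (x : G) ∈ Cent K → f x = 1
  · obtain ⟨K, hK, hx⟩ := hex
    obtain ⟨-, -, hz, -, hl⟩ := tk.simple hE hK
    obtain ⟨Y, g, hg, hY⟩ := h K hK
    set φ : H' →* Y := g.comp (prHom tk K H' hz (hle.trans hl)) with hφ
    have hk : φ.rangeRestrict.ker ≤ f.ker := fun x hx' => by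
      rw [MonoidHom.ker_rangeRestrict] at hx'
      have : prHom tk K H' hz (hle.trans hl) x = 1 := hg (hx'.trans (map_one g).symm)
      exact hx x ((prHom_ker tk hz _ x).1 this)
    refine H82.known_of_surjective hY φ.range
      (φ.rangeRestrict.liftOfSurjective φ.rangeRestrict_surjective ⟨f, hk⟩) (fun q => ?_) hs hc
    obtain ⟨x, rfl⟩ := hfs q
    exact ⟨φ.rangeRestrict x, MonoidHom.liftOfRightInverse_comp_apply _ _ _ _ _⟩
  · exfalso
    push Not at hex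
    obtain ⟨M, ⟨hMn, hMt⟩, hmin⟩ := (wellFounded_lt (α := Subgroup H')).has_min
      {M : Subgroup H' | M.Normal ∧ M.map f = ⊤} ⟨⊤, inferInstance, map_top_of_surjective f hfs⟩
    have hq : ⁅(⊤ : Subgroup (H ⧸ N)), (⊤ : Subgroup (H ⧸ N))⁆ = ⊤ := by
      refine (hs.eq_bot_or_eq_top_of_normal _ inferInstance).resolve_left fun e => hc ?_
      refine ⟨⟨fun x y => ?_⟩⟩
      exact mem_cent.1 (commutator_eq_bot_iff.1 e (mem_top y)) x (mem_top x)
    have key : ∀ K, CP K E → M ≤ (Cent K).subgroupOf H' := by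
      intro K hK
      obtain ⟨-, -, -, hn, -⟩ := tk.simple hE hK
      have hDn : ((Cent K).subgroupOf H').Normal :=
        normal_subgroupOf_of_le_normalizer (nrm_cent (hle.trans hn.2))
      have hD : ((Cent K).subgroupOf H').map f = ⊤ := by
        refine (hs.eq_bot_or_eq_top_of_normal _ (hDn.map f hfs)).resolve_left fun e => ?_
        obtain ⟨x, hx, hx1⟩ := hex K hK
        exact hx1 (mem_bot.1 (e ▸ mem_map_of_mem f hx))
      have h1 : (M ⊓ (Cent K).subgroupOf H').map f = ⊤ := by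
        rw [eq_top_iff, ← hq]
        conv_lhs => rw [← hMt]; arg 2; rw [hMt, ← hD]
        rw [← map_commutator]
        exact map_mono (commutator_le_inf _ _)
      by_contra hlt
      exact hmin _ ⟨inferInstance, h1⟩ (lt_of_le_of_ne inf_le_left fun e => hlt (inf_eq_left.1 e))
    have hM : M = ⊥ := eq_bot_iff.2 fun x hx =>
      mem_bot.2 (Subtype.ext (tk.ext hE (hle x.2) fun K hK => key K hK hx))
    rw [hM, Subgroup.map_bot] at hMt
    exact bot_ne_top hMt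

theorem le_of_relIndex_dvd {H X T : Subgroup G} (hr : r.Prime) (h1 : H ≤ X) (h2 : X ≤ T)
    (hd : H.relIndex T ∣ r) (hn : ¬ X ≤ H) : T ≤ X := by
  have e := relIndex_mul_relIndex H X T h1 h2
  have h3 : H.relIndex X ≠ 1 := fun h => hn (relIndex_eq_one.1 h)
  rcases (Nat.dvd_prime hr).1 hd with h | h
  · rw [h] at e; exact (h3 (Nat.eq_one_of_mul_eq_one_right e)).elim
  · rw [h] at e
    have h4 : H.relIndex X = r := ((Nat.dvd_prime hr).1 (Dvd.intro _ e)).resolve_left h3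
    rw [h4] at e
    exact relIndex_eq_one.1 (Nat.eq_of_mul_eq_mul_left hr.pos (e.trans (mul_one r).symm))

theorem zp_inf (hr : r.Prime) (hA : IsElementaryAbelian r A) (ha : a ∈ A) {H : Subgroup G}
    (hn : a ∉ H) : zpowers a ⊓ H = ⊥ := by
  have h1 : a ≠ 1 := fun e => hn (e ▸ H.one_mem)
  have hc := H15.elem_card_zpowers hr hA ha h1
  have hd : Nat.card ↥(zpowers a ⊓ H) ∣ r := hc ▸ card_dvd_of_le inf_le_left
  rcases (Nat.dvd_prime hr).1 hd with h | h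
  · exact card_eq_one.1 h
  · have := eq_of_le_of_card_ge (inf_le_left : zpowers a ⊓ H ≤ zpowers a) (by rw [h, hc])
    exact (hn ((inf_eq_left.1 this) (mem_zpowers a))).elim

theorem zp_symm (hr : r.Prime) (hA : IsElementaryAbelian r A) (ha : a ∈ A) (hb : b ∈ zpowers a)
    (h1 : b ≠ 1) : a ∈ zpowers b := by
  by_contra hn
  have := zp_inf hr hA ha hn
  exact h1 (mem_bot.1 (this ▸ mem_inf.2 ⟨hb, mem_zpowers b⟩))

/-- the standing hypotheses -/
structure Su (r : ℕ) (A : Subgroup G) (θ : G → Subgroup G) : Prop where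
  tk : TK.{u}
  prime : r.Prime
  elem : IsElementaryAbelian r A
  rank : r ^ 3 ≤ Nat.card A
  cent : ∀ a ∈ A, a ≠ 1 → θ a ≤ Cent1 a
  ctx : ∀ a ∈ A, a ≠ 1 → layerOf (θ a) ≠ ⊥ → Ctx r A (layerOf (θ a))
  orb : ∀ a ∈ A, a ≠ 1 → ∀ K, CP K (layerOf (θ a)) → orb A K = layerOf (θ a)
  cA : ∀ a ∈ A, a ≠ 1 → layerOf (θ a) ≠ ⊥ → A ⊓ Cent (layerOf (θ a)) = zpowers a
  bal : ∀ a ∈ A, ∀ b ∈ A, a ≠ 1 → b ≠ 1 → θ a ⊓ Cent1 b ≤ θ b
  balE : ∀ a ∈ A, ∀ b ∈ A, a ≠ 1 → b ≠ 1 → layerOf (layerOf (θ a) ⊓ Cent1 b) ≤ layerOf (θ b)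

/-- the stabiliser of the components -/
def TT (A : Subgroup G) (θ : G → Subgroup G) (a : G) : Subgroup G :=
  A ⊓ ⨅ K : {K // CP K (layerOf (θ a))}, Nrm K.1

/-- `a` is a point whose components have order `m` -/
structure Fu (m : ℕ) (A : Subgroup G) (θ : G → Subgroup G) (a : G) : Prop where
  mem : a ∈ A
  ne : a ≠ 1
  live : layerOf (θ a) ≠ ⊥
  card : ∀ K, CP K (layerOf (θ a)) → Nat.card K = m

theorem exists_cp (hE : SS E) (h : E ≠ ⊥) : ∃ K, CP K E := by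
  by_contra hn
  push Not at hn
  exact h (le_bot_iff.1 (hE.layer ▸ H14.layerOf_le fun K hK => (hn K hK).elim))

theorem live_of (hK : CP K E) : E ≠ ⊥ := fun e => hK.ne_bot (le_bot_iff.1 (e ▸ hK.le))

namespace Su

theorem trans (h : Su r A θ) (ha : a ∈ A) (h1 : a ≠ 1) {K' : Subgroup G}
    (hK : CP K (layerOf (θ a))) (hK' : CP K' (layerOf (θ a))) : ∃ x ∈ A, K' = cj x K := by
  refine ((h.tk.orb_ctx (h.ctx a ha h1 (live_of hK)) hK).2.2.1 K').1 ?_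
  rwa [h.orb a ha h1 K hK]

theorem T_eq (h : Su r A θ) (ha : a ∈ A) (h1 : a ≠ 1) (hK : CP K (layerOf (θ a))) :
    TT A θ a = A ⊓ Nrm K := by
  refine le_antisymm (inf_le_inf_left _ (iInf_le_of_le ⟨K, hK⟩ le_rfl)) (le_inf inf_le_left (le_iInf ?_))
  rintro ⟨K', hK'⟩
  obtain ⟨x, hx, rfl⟩ := h.trans ha h1 hK hK'
  rw [← (h.tk.index (h.ctx a ha h1 (live_of hK)) hK).2.2 x hx]
  exact inf_le_right

theorem cK (h : Su r A θ) (ha : a ∈ A) (h1 : a ≠ 1) (hK : CP K (layerOf (θ a))) :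
    A ⊓ Cent K = zpowers a := by
  rw [(h.tk.index (h.ctx a ha h1 (live_of hK)) hK).2.1, h.orb a ha h1 K hK, h.cA a ha h1 (live_of hK)]

theorem zp_le_T (h : Su r A θ) (ha : a ∈ A) (h1 : a ≠ 1) (hl : layerOf (θ a) ≠ ⊥) :
    zpowers a ≤ TT A θ a := by
  obtain ⟨K, hK⟩ := exists_cp (h.ctx a ha h1 hl).ss hl
  rw [h.T_eq ha h1 hK, ← h.cK ha h1 hK]
  exact inf_le_inf_left _ (cent_le_nrm K)

theorem idx (h : Su r A θ) (ha : a ∈ A) (h1 : a ≠ 1) (hl : layerOf (θ a) ≠ ⊥) :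
    (zpowers a).relIndex (TT A θ a) ∣ r := by
  obtain ⟨K, hK⟩ := exists_cp (h.ctx a ha h1 hl).ss hl
  rw [h.T_eq ha h1 hK, ← h.cK ha h1 hK]
  exact (h.tk.index (h.ctx a ha h1 hl) hK).1

theorem T_eq_sup (h : Su r A θ) (ha : a ∈ A) (h1 : a ≠ 1) (hl : layerOf (θ a) ≠ ⊥)
    (hs : s ∈ TT A θ a) (hn : s ∉ zpowers a) : TT A θ a = zpowers a ⊔ zpowers s := by
  have h2 : zpowers a ⊔ zpowers s ≤ TT A θ a := sup_le (h.zp_le_T ha h1 hl) (zpowers_le.2 hs)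
  exact le_antisymm (le_of_relIndex_dvd h.prime le_sup_left h2 (h.idx ha h1 hl)
    fun e => hn (e (mem_sup_right (mem_zpowers s)))) h2

theorem exists_notMem_T (h : Su r A θ) (ha : a ∈ A) (h1 : a ≠ 1) (hl : layerOf (θ a) ≠ ⊥) :
    ∃ b ∈ A, b ∉ TT A θ a := by
  by_contra hn
  push Not at hn
  have e : TT A θ a = A := le_antisymm inf_le_left hn
  have h2 := h.idx ha h1 hl
  rw [e] at h2
  have h3 := card_mul_relIndex (zpowers_le.2 ha)
  rw [H15.elem_card_zpowers h.prime h.elem ha h1] at h3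
  have h4 := Nat.le_of_dvd h.prime.pos h2
  have h5 := h.rank
  have h6 := h.prime.one_lt
  have h7 : r * (zpowers a).relIndex A ≤ r * r := Nat.mul_le_mul_left r h4
  have h8 : r * r < r ^ 3 := by nlinarith [Nat.mul_pos h.prime.pos h.prime.pos]
  omega

theorem theta_eq (h : Su r A θ) (ha : a ∈ A) (hb : b ∈ zpowers a) (hb1 : b ≠ 1) : θ a = θ b := by
  have hbA : b ∈ A := zpowers_le.2 ha hb
  have h1 : a ≠ 1 := fun e => hb1 (by rwa [e, zpowers_one_eq_bot, mem_bot] at hb)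
  have hab := zp_symm h.prime h.elem ha hb hb1
  refine le_antisymm (le_trans ?_ (h.bal a ha b hbA h1 hb1)) (le_trans ?_ (h.bal b hbA a ha hb1 h1))
  · exact le_inf le_rfl ((h.cent a ha h1).trans (cent1_le_of_mem_zpowers hb))
  · exact le_inf le_rfl ((h.cent b hbA hb1).trans (cent1_le_of_mem_zpowers hab))

theorem E_cent (h : Su r A θ) (ha : a ∈ A) (h1 : a ≠ 1) : layerOf (θ a) ≤ Cent1 a :=
  (H14.layerOf_le_self _).trans (h.cent a ha h1)

/-- full action of `B`: the fixed points are simple of the order of `K` -/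
theorem fx_full (h : Su r A θ) {B : Subgroup G} (hc : Ctx r B E) (hK : CP K E) (hf : Full B K) :
    IsSimpleGroup (fx B K) ∧ Nat.card (fx B K) = Nat.card K ∧ CP (fx B K) (E ⊓ Cent B) := by
  obtain ⟨-, -, -, -, h5, h6⟩ := h.tk.fx_mn hc hK
  have e := h6 hf
  obtain ⟨h7, h8⟩ := h5.resolve_left fun x => x.2.2 hf
  rw [e] at h7 h8
  refine ⟨h7, (h.tk.card_fx hc hK).2.1 hf, (h.tk.cp_inf_cent hc).2.2 ⟨K, hK, fun hs => h8 ?_, e.symm⟩⟩
  exact ⟨⟨IsSimpleGroup.comm_iff_isSolvable.2 hs⟩⟩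

theorem full_zp (h : Su r A θ) (ha : a ∈ A) (h1 : a ≠ 1) (hK : CP K (layerOf (θ a))) (hb : b ∈ A)
    (hn : b ∉ TT A θ a) : Full (zpowers b) K := by
  have : b ∉ Nrm K := fun e => hn (by rw [h.T_eq ha h1 hK]; exact ⟨hb, e⟩)
  unfold Full
  rw [zp_inf h.prime h.elem hb this]
  exact bot_le

theorem inf_le (h : Su r A θ) (ha : a ∈ A) (h1 : a ≠ 1) (hl : layerOf (θ a) ≠ ⊥) (hb : b ∈ A)
    (hn : b ∉ TT A θ a) : layerOf (θ a) ⊓ Cent1 b ≤ layerOf (θ b) := by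
  have hb1 : b ≠ 1 := fun e => hn (e ▸ one_mem _)
  have hc := h.tk.restrict (h.ctx a ha h1 hl) (zpowers_le.2 hb)
  refine le_trans ?_ (h.balE a ha b hb h1 hb1)
  rw [← cent_zpowers]
  conv_lhs => rw [h.tk.inf_cent hc]
  exact iSup_le fun K => (h.fx_full hc K.2 (h.full_zp ha h1 K.2 hb hn)).2.2.le_layerOf

/-- a simple subgroup of maximal order in `E b` -/
theorem of_big (h : Su r A θ) (hm : ∀ a ∈ A, a ≠ 1 → ∀ K, CP K (layerOf (θ a)) → Nat.card K ≤ m)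
    (hb : b ∈ A) (hb1 : b ≠ 1) (hJ : J ≤ layerOf (θ b)) (hs : IsSimpleGroup J) (hc : Nat.card J = m) :
    Fu m A θ b ∧ ∀ t ∈ TT A θ b, t ∈ Cent J → t ∈ zpowers b := by
  have hl : layerOf (θ b) ≠ ⊥ := fun e => by
    have : J = ⊥ := le_bot_iff.1 (e ▸ hJ)
    exact (J.nontrivial_iff_ne_bot.1 hs.toNontrivial) this
  have hss := (h.ctx b hb hb1 hl).ss
  obtain ⟨K, hK, h2, h3⟩ := h.tk.card_le hss hJ hs
  have h4 := hm b hb hb1 K hK
  refine ⟨⟨hb, hb1, hl, fun K' hK' => ?_⟩, fun t ht htJ => ?_⟩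
  · obtain ⟨x, -, rfl⟩ := h.trans hb hb1 hK hK'
    rw [card_cj]; omega
  · rw [h.T_eq hb hb1 hK] at ht
    rw [← h.cK hb hb1 hK]
    exact ⟨ht.1, cent_of_pr h.tk.p hss hK hJ hs h2 (by omega) ht.2 htJ⟩

theorem full_of_notMem (h : Su r A θ)
    (hm : ∀ a ∈ A, a ≠ 1 → ∀ K, CP K (layerOf (θ a)) → Nat.card K ≤ m)
    (ha : Fu m A θ a) (hb : b ∈ A) (hn : b ∉ TT A θ a) : Fu m A θ b ∧ a ∉ TT A θ b := by
  have hb1 : b ≠ 1 := fun e => hn (e ▸ one_mem _)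
  obtain ⟨K, hK⟩ := exists_cp (h.ctx a ha.mem ha.ne ha.live).ss ha.live
  have hc := h.tk.restrict (h.ctx a ha.mem ha.ne ha.live) (zpowers_le.2 hb)
  obtain ⟨h1, h2, h3⟩ := h.fx_full hc hK (h.full_zp ha.mem ha.ne hK hb hn)
  have h4 := h3.le
  rw [cent_zpowers] at h4
  obtain ⟨h5, h6⟩ := h.of_big hm hb hb1 (h4.trans (h.inf_le ha.mem ha.ne ha.live hb hn)) h1
    (h2.trans (ha.card K hK))
  refine ⟨h5, fun hT => hn (h.zp_le_T ha.mem ha.ne ha.live (zp_symm h.prime h.elem hb ?_ ha.ne))⟩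
  exact h6 a hT (le_cent1_iff.1 ((h4.trans inf_le_left).trans (h.E_cent ha.mem ha.ne)))

theorem fu_of_zp (h : Su r A θ) (ha : Fu m A θ a) (hb : b ∈ zpowers a) (hb1 : b ≠ 1) :
    Fu m A θ b ∧ TT A θ b = TT A θ a := by
  have e := h.theta_eq ha.mem hb hb1
  exact ⟨⟨zpowers_le.2 ha.mem hb, hb1, e ▸ ha.live, e ▸ ha.card⟩, by unfold TT; rw [e]⟩

theorem caseI (h : Su r A θ) (hm : ∀ a ∈ A, a ≠ 1 → ∀ K, CP K (layerOf (θ a)) → Nat.card K ≤ m)
    (ha : Fu m A θ a) (hT : TT A θ a ≤ zpowers a) (hb : b ∈ A) (hb1 : b ≠ 1) :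
    Fu m A θ b ∧ TT A θ b = zpowers b := by
  by_cases hba : b ∈ zpowers a
  · obtain ⟨h1, h2⟩ := h.fu_of_zp ha hba hb1
    refine ⟨h1, le_antisymm ?_ (h.zp_le_T hb hb1 h1.live)⟩
    rw [h2]
    exact hT.trans (zpowers_le.2 (zp_symm h.prime h.elem ha.mem hba hb1))
  · have hn : b ∉ TT A θ a := fun e => hba (hT e)
    have hc := h.ctx a ha.mem ha.ne ha.live
    obtain ⟨K, hK⟩ := exists_cp hc.ss ha.live
    have hf : Full A K := by
      unfold Full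
      rw [← h.T_eq ha.mem ha.ne hK]
      refine hT.trans ?_
      rw [← h.cK ha.mem ha.ne hK]
      exact inf_le_right
    obtain ⟨h1, h2, h3⟩ := h.fx_full hc hK hf
    have h4 : fx A K ≤ layerOf (θ a) ⊓ Cent1 b := h3.le.trans (inf_le_inf_left _ (cent_le_cent1 hb))
    obtain ⟨h5, h6⟩ := h.of_big hm hb hb1 (h4.trans (h.inf_le ha.mem ha.ne ha.live hb hn)) h1
      (h2.trans (ha.card K hK))
    exact ⟨h5, le_antisymm (fun t ht => h6 t ht (le_cent_symm (h3.le.trans inf_le_right) ht.1))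
      (h.zp_le_T hb hb1 h5.live)⟩

theorem exists_s (h : Su r A θ) (hm : ∀ a ∈ A, a ≠ 1 → ∀ K, CP K (layerOf (θ a)) → Nat.card K ≤ m)
    (ha : Fu m A θ a) (hb : b ∈ A) (hn : b ∉ TT A θ a) (ht : t ∈ TT A θ a) (hta : t ∉ zpowers a) :
    ∃ s ∈ TT A θ a, s ∈ TT A θ b ∧ s ∉ zpowers a := by
  obtain ⟨hbf, hab⟩ := h.full_of_notMem hm ha hb hn
  obtain ⟨K, hK⟩ := exists_cp (h.ctx a ha.mem ha.ne ha.live).ss ha.live
  have hc := h.tk.restrict (h.ctx a ha.mem ha.ne ha.live) (zpowers_le.2 hb)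
  obtain ⟨h1, -, h3⟩ := h.fx_full hc hK (h.full_zp ha.mem ha.ne hK hb hn)
  have e : layerOf (θ a) ⊓ Cent (zpowers b) = layerOf (θ b) ⊓ Cent (zpowers a) := by
    rw [cent_zpowers, cent_zpowers]
    exact le_antisymm
      (le_inf (h.inf_le ha.mem ha.ne ha.live hb hn) (inf_le_left.trans (h.E_cent ha.mem ha.ne)))
      (le_inf (h.inf_le hb hbf.ne hbf.live ha.mem hab) (inf_le_left.trans (h.E_cent hb hbf.ne)))
  have hcb := h.ctx b hb hbf.ne hbf.live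
  have hc' := h.tk.restrict hcb (zpowers_le.2 ha.mem)
  rw [e] at h3
  obtain ⟨K', hK', -, e'⟩ := (h.tk.cp_inf_cent hc').2.1 h3
  have htA : t ∈ A := ht.1
  have htK : t ∈ Nrm K := by rw [h.T_eq ha.mem ha.ne hK] at ht; exact ht.2
  have htb : t ∈ Cent (zpowers b) := H15.elem_le_cent h.elem (zpowers_le.2 hb) htA
  have h4 : t ∈ Nrm (H24.NS.orb (zpowers b) K) := by
    rw [mem_nrm_iff_cj]
    unfold H24.NS.orb
    rw [cj, Subgroup.map_iSup]
    refine iSup_congr fun x => ?_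
    show cj t (cj (x : G) K) = cj (x : G) K
    rw [← cj_mul, ← mem_cent.1 htb x x.2, cj_mul, cj_of_mem_nrm htK]
  have h5 : t ∈ Nrm (fx (zpowers b) K) :=
    nrm_inf (A := zpowers t) (zpowers_le.2 h4) (nrm_of_le (zpowers_le.2 htb)) (mem_zpowers t)
  have h6 : fx (zpowers b) K ≤ H24.NS.orb (zpowers a) K' := by
    rw [e']; exact inf_le_left.trans inf_le_left
  have h7 := h.tk.nrm_orb hc' hK' (hcb.nrm htA) h3.ne_bot h6
    (nrm_of_le_cent (le_cent_symm (h3.le.trans inf_le_right))) h5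
  obtain ⟨-, -, h8, -⟩ := h.tk.orb_ctx hc' hK'
  have h9 : CP K' (H24.NS.orb (zpowers a) K') := (h8 K').2 ⟨1, one_mem _, (cj_one K').symm⟩
  obtain ⟨x, hx, ex⟩ := (h8 _).1 (h9.cj_of_mem_normalizer h7)
  have hxT : x ∈ TT A θ a := h.zp_le_T ha.mem ha.ne ha.live hx
  refine ⟨x⁻¹ * t, mul_mem (inv_mem hxT) ht, ?_, fun hz => hta ?_⟩
  · rw [h.T_eq hb hbf.ne hK']
    have hxA : x ∈ A := hxT.1
    refine mem_inf.2 ⟨mul_mem (inv_mem hxA) htA, mem_nrm_iff_cj.2 ?_⟩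
    have ex' : cj t K' = cj x K' := ex
    rw [cj_mul, ex', cj_inv_cj]
  · simpa using mul_mem hx hz

theorem exists_S (h : Su r A θ) (hm : ∀ a ∈ A, a ≠ 1 → ∀ K, CP K (layerOf (θ a)) → Nat.card K ≤ m)
    (ha : Fu m A θ a) : ∃ S, S ≤ A ∧ Nat.card S ∣ r ∧
      ∀ c ∈ A, c ∉ S → Fu m A θ c ∧ TT A θ c = zpowers c ⊔ S := by
  by_cases hT : TT A θ a ≤ zpowers a
  · refine ⟨⊥, bot_le, by rw [card_bot]; exact one_dvd _, fun c hc hn => ?_⟩
    rw [sup_bot_eq]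
    exact h.caseI hm ha hT hc fun e => hn (mem_bot.2 e)
  obtain ⟨t, ht, hta⟩ := SetLike.not_le_iff_exists.1 hT
  obtain ⟨b, hb, hn⟩ := h.exists_notMem_T ha.mem ha.ne ha.live
  obtain ⟨hbf, hab⟩ := h.full_of_notMem hm ha hb hn
  obtain ⟨s, hsa, hsb, hsz⟩ := h.exists_s hm ha hb hn ht hta
  have hsA : s ∈ A := hsa.1
  have hs1 : s ≠ 1 := fun e => hsz (e ▸ one_mem _)
  have hszb : s ∉ zpowers b := fun e =>
    hn (zpowers_le.2 hsa (zp_symm h.prime h.elem hb e hs1))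
  have nf : ∀ c ∈ A, ¬ Fu m A θ c → ∀ d, Fu m A θ d → c ∈ TT A θ d := fun c hc hf d hd => by
    by_contra hcd
    exact hf (h.full_of_notMem hm hd hc hcd).1
  have hsym : ∀ c d, Fu m A θ c → Fu m A θ d → c ∈ TT A θ d → d ∈ TT A θ c := fun c d hc hd hcd => by
    by_contra hdc
    exact (h.full_of_notMem hm hc hd.mem hdc).2 hcd
  have hsn : ¬ Fu m A θ s := fun hs => by
    have h1 := hsym s a hs ha hsa
    have h2 := hsym s b hs hbf hsb
    have h3 : a ∉ zpowers s := fun e => hsz (zp_symm h.prime h.elem hsA e ha.ne)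
    rw [h.T_eq_sup hsA hs1 hs.live h1 h3] at h2
    exact hn (sup_le (zpowers_le.2 hsa) (h.zp_le_T ha.mem ha.ne ha.live) h2)
  refine ⟨zpowers s, zpowers_le.2 hsA, (H15.elem_card_zpowers h.prime h.elem hsA hs1).dvd,
    fun c hc hcs => ?_⟩
  have hc1 : c ≠ 1 := fun e => hcs (e ▸ one_mem _)
  have hcf : Fu m A θ c := by
    by_contra hf
    have h1 := nf c hc hf a ha
    have h2 := nf c hc hf b hbf
    have hTa := h.T_eq_sup ha.mem ha.ne ha.live hsa hsz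
    have h3 : (zpowers s).relIndex (TT A θ a) ∣ r := by
      rw [hTa, sup_comm, relIndex_sup_of_nrm ((zpowers_le.2 ha.mem).trans
        (nrm_of_le_cent (H15.elem_le_cent h.elem (zpowers_le.2 hsA))))]
      rw [← H15.elem_card_zpowers h.prime h.elem ha.mem ha.ne]
      exact relIndex_dvd_card _ _
    have h4 := le_of_relIndex_dvd h.prime le_sup_left
      (sup_le (zpowers_le.2 hsa) (zpowers_le.2 h1)) h3 fun e => hcs (e (mem_sup_right (mem_zpowers c)))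
    exact hab (sup_le (zpowers_le.2 hsb) (zpowers_le.2 h2)
      (h4 (h.zp_le_T ha.mem ha.ne ha.live (mem_zpowers a))))
  exact ⟨hcf, h.T_eq_sup hc hc1 hcf.live (nf s hsA hsn c hcf)
    fun e => hcs (zp_symm h.prime h.elem hc e hs1)⟩

theorem concl (h : Su r A θ) (gt : GTc.{u}) {W : Subgroup G} (hW1 : W ≠ ⊥)
    (hle : ∀ a ∈ A, a ≠ 1 → θ a ≤ W)
    (hkg : ∀ a ∈ A, a ≠ 1 → layerOf (θ a) ≠ ⊥ → IsKGroup (layerOf (θ a)))
    (hW : W = ⨆ a : {a : G // a ∈ A ∧ a ≠ 1}, layerOf (θ a.1)) :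
    (∃ m, ASimple r m A W) ∧ IsKGroup W ∧ ∀ a ∈ A, a ≠ 1 → W ⊓ Cent1 a = θ a := by
  have := Fact.mk h.prime
  have hne : ∃ x : G × Subgroup G, x.1 ∈ A ∧ x.1 ≠ 1 ∧ CP x.2 (layerOf (θ x.1)) := by
    by_contra hn
    refine hW1 (le_bot_iff.1 (hW ▸ iSup_le fun a => le_bot_iff.2 ?_))
    by_contra hl
    obtain ⟨K, hK⟩ := exists_cp (h.ctx a.1 a.2.1 a.2.2 hl).ss hl
    exact hn ⟨(a.1, K), a.2.1, a.2.2, hK⟩
  obtain ⟨⟨a0, K0⟩, ⟨ha0, ha1, hK0⟩, hmax⟩ := Set.exists_max_image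
    {x : G × Subgroup G | x.1 ∈ A ∧ x.1 ≠ 1 ∧ CP x.2 (layerOf (θ x.1))} (fun x => Nat.card x.2)
    (Set.toFinite _) hne
  have hm : ∀ a ∈ A, a ≠ 1 → ∀ K, CP K (layerOf (θ a)) → Nat.card K ≤ Nat.card K0 :=
    fun a ha h1 K hK => hmax (a, K) ⟨ha, h1, hK⟩
  have hf0 : Fu (Nat.card K0) A θ a0 := ⟨ha0, ha1, live_of hK0, fun K hK => by
    obtain ⟨x, -, rfl⟩ := h.trans ha0 ha1 hK0 hK
    exact card_cj _ _⟩
  obtain ⟨S, hSA, hSc, hS⟩ := h.exists_S hm hf0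
  obtain ⟨g1, g2, g3⟩ := gt r (Nat.card K0) G A S (fun a => layerOf (θ a)) h.rank hSA hSc
    (fun a ha hn => by
      obtain ⟨h1, h2⟩ := hS a ha hn
      exact ⟨⟨h.ctx a ha h1.ne h1.live, h1.live, fun K K' hK hK' => h.trans ha h1.ne hK hK', h1.card⟩,
        h.E_cent ha h1.ne, (h.cA a ha h1.ne h1.live).le, fun K hK => by rw [← h.T_eq ha h1.ne hK, h2]⟩)
    (fun a ha hn b hb hbn hab => by
      obtain ⟨h1, h2⟩ := hS a ha hn
      by_cases hT : b ∈ TT A θ a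
      · rw [h2] at hT
        obtain ⟨x, hx, y, hy, e⟩ := (mem_sup_of_nrm (K := zpowers a) (H := S)
          (hSA.trans (nrm_of_le_cent (H15.elem_le_cent h.elem (zpowers_le.2 ha))))).1 hT
        have hy1 : y = 1 := by
          refine mem_bot.1 (hab ▸ mem_inf.2 ⟨?_, hy⟩)
          rw [show y = x⁻¹ * b by rw [e]; group]
          exact mul_mem (mem_sup_left (inv_mem hx)) (mem_sup_right (mem_zpowers b))
        rw [hy1, mul_one] at e
        rw [← h.theta_eq ha (e ▸ hx) (hS b hb hbn).1.ne]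
        exact inf_le_left
      · exact h.inf_le ha h1.ne h1.live hb hT)
    (fun a ha hn b hb hbn => by
      refine le_trans (inf_le_inf_right _ (H14.layerOf_le_self _)) ?_
      exact (h.bal a ha b hb (hS a ha hn).1.ne (hS b hb hbn).1.ne).trans
        (le_nrm_self.trans (H14.normalizer_le_normalizer_layerOf _))) _ rfl
  obtain ⟨B, hB1, hB2⟩ := H9.exists_compl_of_elementary h.elem hSA
  have hBA : B ≤ A := hB2 ▸ le_sup_right
  have hBS : ∀ b ∈ B, b ≠ 1 → b ∉ S := fun b hb h1 hs => h1 (mem_bot.1 (hB1 ▸ mem_inf.2 ⟨hs, hb⟩))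
  have hBc : r ^ 2 ≤ Nat.card B := by
    have h1 := card_mul_relIndex hBA
    have h2 : B.relIndex A ≤ r := by
      rw [← hB2, sup_comm, relIndex_sup_of_nrm (hSA.trans (nrm_of_le_cent (H15.elem_le_cent h.elem hBA)))]
      exact Nat.le_of_dvd h.prime.pos ((relIndex_dvd_card _ _).trans hSc)
    have h3 := h.rank
    have h4 : r ^ 2 * r ≤ Nat.card B * r := by
      calc r ^ 2 * r = r ^ 3 := by ring
        _ ≤ Nat.card B * B.relIndex A := h1 ▸ h3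
        _ ≤ Nat.card B * r := Nat.mul_le_mul_left _ h2
    exact Nat.le_of_mul_le_mul_right h4 h.prime.pos
  have e : W = ⨆ a : {a : G // a ∈ A ∧ a ∉ S}, layerOf (θ a.1) := by
    rw [hW]
    refine le_antisymm (iSup_le fun a => ?_)
      (iSup_le fun a => le_iSup_of_le ⟨a.1, a.2.1, (hS a.1 a.2.1 a.2.2).1.ne⟩ le_rfl)
    by_cases hl : layerOf (θ a.1) = ⊥
    · rw [hl]; exact bot_le
    refine h.tk.gen_layer (h.tk.restrict (h.ctx a.1 a.2.1 a.2.2 hl) hBA) hBc fun b hb h1 => ?_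
    exact (h.balE a.1 a.2.1 b (hBA hb) a.2.2 h1).trans (le_iSup_of_le ⟨b, hBA hb, hBS b hb h1⟩ le_rfl)
  rw [← e] at g1 g2 g3
  have hth : ∀ a ∈ A, a ∉ S → W ⊓ Cent1 a ≤ θ a := fun a ha hn =>
    (g2 a ha hn).le.trans (H14.layerOf_le_self _)
  refine ⟨⟨_, g1⟩, kgroup_of_ss h.tk.p g1.ctx.ss fun K hK => ?_, fun a ha h1 => ?_⟩
  · obtain ⟨a, ha, hn, K', hK', ⟨f⟩⟩ := g3 K hK
    exact ⟨_, (inclusion hK'.le).comp f.toMonoidHom, (inclusion_injective hK'.le).comp f.injective,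
      hkg a ha (hS a ha hn).1.ne (live_of hK')⟩
  · refine le_antisymm ?_ (le_inf (hle a ha h1) (h.cent a ha h1))
    refine H15.le_of_cent1 h.prime (H15.elem_of_le h.elem hBA) hBc
      (hBA.trans (nrm_inf g1.ctx.nrm (nrm_cent1 (H15.elem_le_cent1 h.elem ha)))) g1.ctx.pi.inf_left
      fun b hb hb1 => le_trans ?_ (h.bal b (hBA hb) a ha hb1 h1)
    exact le_inf (le_trans (inf_le_inf_right _ inf_le_left) (hth b (hBA hb) (hBS b hb hb1)))
      (inf_le_left.trans inf_le_right)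

end Su

theorem asimple_normal (tk : TKP.{u}) {W N : Subgroup G} (h : ASimple r m A W) (hN : N ⊴ W)
    (hA : A ≤ Nrm N) : N = ⊥ ∨ N = W := by
  by_cases hex : ∃ K, CP K W ∧ K ≤ N
  · obtain ⟨K, hK, hKN⟩ := hex
    refine Or.inr (le_antisymm hN.1 (h.ctx.ss.layer ▸ H14.layerOf_le fun K' hK' => ?_))
    obtain ⟨x, hx, rfl⟩ := h.trans K K' hK hK'
    rw [← cj_of_mem_nrm (hA hx)]
    exact cj_mono x hKN
  · refine Or.inl (eq_bot_iff.2 fun x hx => mem_bot.2 (tk.ext h.ctx.ss (hN.1 hx) fun K hK => ?_))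
    rcases hK.le_or_of_normalizes hN.1 (hK.le.trans hN.2) with h1 | h1
    · exact (hex ⟨K, hK, h1⟩).elim
    · exact commutator_eq_bot_iff'.1 h1 hx

theorem s1923_of (tk : TK.{u}) (gt : GTc.{u}) (kf : AllKF.{u})
    {X : Type u} [Group X] [Finite X] {r : ℕ} [Fact r.Prime] (A G : Subgroup X) (hG : G ≠ ⊥)
    (hA : Cfsg.IsElementaryAbelian r A) (hrank : r ^ 3 ≤ Nat.card A)
    (θ : X → Subgroup X)
    (hθ : ∀ a ∈ A, a ≠ 1 → θ a ≤ G ⊓ Subgroup.centralizer ({a} : Set X) ∧ A ≤ Subgroup.normalizer ((θ a : Subgroup X) : Set X) ∧ (Nat.card ↥(θ a)).Coprime r)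
    (hE : ∀ a ∈ A, a ≠ 1 → Cfsg.layer ↥(θ a) ≠ ⊥ →
      ¬ IsMulCommutative ↥((Cfsg.layer ↥(θ a)).map (θ a).subtype) ∧
      (∀ N : Subgroup X, N ≤ (Cfsg.layer ↥(θ a)).map (θ a).subtype → (N.subgroupOf ((Cfsg.layer ↥(θ a)).map (θ a).subtype)).Normal →
         A ≤ Subgroup.normalizer (N : Set X) → N = ⊥ ∨ N = (Cfsg.layer ↥(θ a)).map (θ a).subtype) ∧
      Cfsg.IsKGroup ↥((Cfsg.layer ↥(θ a)).map (θ a).subtype) ∧
      Cfsg.fittingSubgroup ↥(θ a) = ⊥ ∧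
      A ⊓ Subgroup.centralizer (((Cfsg.layer ↥(θ a)).map (θ a).subtype : Subgroup X) : Set X) = Subgroup.zpowers a)
    (hbal : ∀ a ∈ A, ∀ b ∈ A, a ≠ 1 → b ≠ 1 →
      θ a ⊓ Subgroup.centralizer ({b} : Set X) ≤ θ b ∧
      (Cfsg.layer ↥((Cfsg.layer ↥(θ a)).map (θ a).subtype ⊓ Subgroup.centralizer ({b} : Set X))).map
          ((Cfsg.layer ↥(θ a)).map (θ a).subtype ⊓ Subgroup.centralizer ({b} : Set X)).subtype ≤ (Cfsg.layer ↥(θ b)).map (θ b).subtype)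
    (hgen : G = ⨆ a : {a : X // a ∈ A ∧ a ≠ 1}, (Cfsg.layer ↥(θ a.1)).map (θ a.1).subtype) :
    (Nat.card G).Coprime r ∧ ¬ IsMulCommutative ↥G ∧
    (∀ N : Subgroup X, N ≤ G → (N.subgroupOf G).Normal → A ≤ Subgroup.normalizer (N : Set X) → N = ⊥ ∨ N = G) ∧
    Cfsg.IsKGroup ↥G ∧ ∀ a ∈ A, a ≠ 1 → G ⊓ Subgroup.centralizer ({a} : Set X) = θ a := by
  have hr : r.Prime := Fact.out
  have hE' := fun a ha h1 (hl : layerOf (θ a) ≠ ⊥) =>
    hE a ha h1 fun e => hl (H14.layerOf_eq_bot_iff.2 e)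
  have hsim : ∀ a ∈ A, a ≠ 1 → layerOf (θ a) ≠ ⊥ → ∀ N, N ⊴ layerOf (θ a) → A ≤ Nrm N →
      N = ⊥ ∨ N = layerOf (θ a) := fun a ha h1 hl N hN hn =>
    (hE' a ha h1 hl).2.1 N hN.1 (normal_subgroupOf_of_le_normalizer hN.2) hn
  have hctx : ∀ a ∈ A, a ≠ 1 → layerOf (θ a) ≠ ⊥ → Ctx r A (layerOf (θ a)) := by
    intro a ha h1 hl
    have hn : A ≤ Nrm (layerOf (θ a)) :=
      (hθ a ha h1).2.1.trans (H14.normalizer_le_normalizer_layerOf _)
    have hpi : IsPi {r}ᶜ (layerOf (θ a)) :=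
      ((isPi_compl_singleton_iff_coprime hr).2 (hθ a ha h1).2.2).of_le (H14.layerOf_le_self _)
    have hss : SS (layerOf (θ a)) := by
      refine ⟨le_antisymm (H14.layerOf_le_self _) (H14.layerOf_le fun K hK =>
        (hK.of_le hK.le_layerOf (H14.layerOf_le_self _)).le_layerOf), ?_⟩
      refine (hsim a ha h1 hl _ ⟨inf_le_left, nrm_zc le_nrm_self⟩ (nrm_zc hn)).resolve_right fun e => ?_
      exact (hE' a ha h1 hl).1 (comm_iff_le_cent.2 (e.symm.le.trans inf_le_right))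
    refine ⟨hr, hA, hpi, hn, hss, fun K hK => ?_⟩
    obtain ⟨hs, hc, -⟩ := tk.p.simple hss hK
    refine kf K hc (H82.known_of_surjective (hE' a ha h1 hl).2.2.1 (K.subgroupOf _)
      (subgroupOfEquivOfLe hK.le).toMonoidHom (MulEquiv.surjective _) hs hc) r hr ?_
    exact (isPi_compl_singleton hr).1 (hpi.of_le hK.le)
  have hS : Su r A θ :=
    { tk := tk
      prime := hr
      elem := hA
      rank := hrank
      cent := fun a ha h1 => (hθ a ha h1).1.trans inf_le_right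
      ctx := hctx
      orb := fun a ha h1 K hK => by
        obtain ⟨g1, g2, g3, -⟩ := tk.orb_ctx (hctx a ha h1 (live_of hK)) hK
        exact (hsim a ha h1 (live_of hK) _ g2 g1.nrm).resolve_left
          (live_of ((g3 K).2 ⟨1, one_mem _, (cj_one K).symm⟩))
      cA := fun a ha h1 hl => (hE' a ha h1 hl).2.2.2.2
      bal := fun a ha b hb h1 h2 => (hbal a ha b hb h1 h2).1
      balE := fun a ha b hb h1 h2 => (hbal a ha b hb h1 h2).2 }
  obtain ⟨⟨m, g1⟩, g2, g3⟩ := hS.concl gt hG (fun a ha h1 => (hθ a ha h1).1.trans inf_le_left)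
    (fun a ha h1 hl => (hE' a ha h1 hl).2.2.1) hgen
  refine ⟨(isPi_compl_singleton_iff_coprime hr).1 g1.ctx.pi, fun hc => hG ?_, fun N hN hn hA' =>
    asimple_normal tk.p g1 ⟨hN, (normal_subgroupOf_iff_le_normalizer hN).1 hn⟩ hA', g2, g3⟩
  rw [← g1.ctx.ss.zc]
  exact (inf_eq_left.2 (comm_iff_le_cent.1 hc)).symm

end H36.NSU
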