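import Cfsg.Agent.H28.TESpec2

/-! S1308, tower TE: the subgroup `E O(Q)`. -/

set_option autoImplicit false

namespace H36.TE1BB

open Cfsg Subgroup H14 H98 H1.Gold H28.TE
open scoped commutatorElement

universe u

theorem conj_OZ {G : Type u} [Group G] {R : Subgroup G} {n e : G} (hn : H98.cj n R = R)
    (he : e ∈ OZ R) : n * e * n⁻¹ ∈ OZ R :=
  ⟨hn.le (conj_mem_cj he.1), by
    have := conj_mem_cj (g := n) he.2.1
    rwa [cj_centralizer, hn] at this, by
    rw [conj_mul, he.2.2, mul_one, mul_inv_cancel]⟩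

theorem jobBB : JobBB.{u} := by
  intro G _ _ Q zq E pz
  have : Fact (Nat.Prime 2) := ⟨Nat.prime_two⟩
  obtain ⟨vx, -, ⟨R, hR, rfl⟩, -⟩ := pz _ _ (H51.TE.pt_base Q E)
  have EQ : OZ R ≤ Q := fun e he => hR.le he.1
  have OQ : opp 2 Q ≤ Q := map_subtype_le _
  have no : OZ R ≤ normalizer (opp 2 Q : Set G) := EQ.trans (self_le_normalizer_opp Q)
  refine ⟨OZ R ⊔ opp 2 Q, sup_le EQ OQ, fun n hn => mem_normalizer_of_cj_le ?_, le_sup_left,
    hR.isPGroup.to_le fun e he => he.1, fun U u1 u2 u3 => le_antisymm (fun x hx => ?_) u2⟩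
  · rw [cj_sup, cj_eq_self (normalizer_le_normalizer_opp Q hn)]
    refine sup_le ?_ le_sup_right
    rintro _ ⟨e, he, rfl⟩
    obtain ⟨q, hq, h⟩ := (hR.cj_of_mem_normalizer hn).exists_cj_eq hR
    rw [cj_cj] at h
    have h1 := conj_OZ h he
    have h2 := mul_mem (mem_sup_right (S := OZ R) (zq Q vx R hR _ h1 q⁻¹ (inv_mem hq)))
      (mem_sup_left h1)
    convert h2 using 1
    simp only [commutatorElement_def, MulEquiv.coe_toMonoidHom, MulAut.conj_apply]
    group
  · obtain ⟨e, he, o, ho, rfl⟩ := (mem_sup_left_norm no).1 (u3 hx)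
    obtain ⟨k, hk⟩ := isPGroup_iff_forall.1 u1 o ((mul_mem_cancel_left (u2 he)).1 hx)
    have : o = 1 := orderOf_eq_one_iff.1 (Nat.eq_one_of_dvd_coprimes
      ((coprime_card_opp (p := 2) Q).pow_right k) (orderOf_dvd_natCard _ ho)
      (orderOf_dvd_of_pow_eq_one hk))
    rwa [this, mul_one]

end H36.TE1BB
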