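import Cfsg.Agent.H36.QEPk
import Cfsg.Agent.H91.CompKLA

/-! Tower QE: the setting and the choice of a bad involution (`JobSt`). -/

set_option autoImplicit false

namespace H36.QE

open Cfsg Subgroup H14 H98 H97
open H14.CO (cen cen1 nor cm Tw mem_cen mem_cen1)

universe u

variable {G : Type u} [Group G]

theorem cj_cen1 (g x : G) : H98.cj g (cen1 x) = cen1 (g * x * g⁻¹) := by
  ext y
  rw [H98.mem_cj, mem_cen1, mem_cen1]
  constructor
  · intro h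
    calc y * (g * x * g⁻¹) = g * (g⁻¹ * y * g * x) * g⁻¹ := by group
      _ = _ := by rw [h]; group
  · intro h
    calc g⁻¹ * y * g * x = g⁻¹ * (y * (g * x * g⁻¹)) * g := by group
      _ = _ := by rw [h]; group

theorem cj_mem_cen {L : Subgroup G} {g x : G} (hg : g ∈ nor L) (hx : x ∈ cen L) : g * x * g⁻¹ ∈ cen L :=
  conj_mem_of_mem_normalizer (normalizer_le_normalizer_centralizer L hg) hx

variable [Finite G]

omit [Finite G] in
theorem card_relIndex {X Y : Subgroup G} (e : X ≤ Y) : Nat.card X * X.relIndex Y = Nat.card Y := by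
  rw [relIndex, ← card_mul_index (X.subgroupOf Y), Nat.card_congr (subgroupOfEquivOfLe e).toEquiv]

theorem exists_step {A Q : Subgroup G} (hQ : IsPGroup 2 Q) (h : A ≤ Q) (hn : ¬ Q ≤ A) :
    ∃ y ∈ Q, y ∉ A ∧ y ∈ nor A ∧ y * y ∈ A :=
  let ⟨y, h1, h2, h3, h4, _⟩ := H91.KLA.fp (H := ⊥) IsPGroup.of_bot hQ bot_le bot_le h hn
  ⟨y, h1, h2, h3, h4⟩

theorem mul_mem_of_two {D P : Subgroup G} (hD : D ≤ P) (h : Nat.card P ≤ 2 * Nat.card D) {a b : G}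
    (ha : a ∈ P) (hb : b ∈ P) (h1 : a ∉ D) (h2 : b ∉ D) : a * b ∈ D := by
  have h3 := two_card_le hD fun h3 => h1 (h3 ha)
  have h4 := card_relIndex hD
  have h5 : (D.subgroupOf P).index = 2 :=
    Nat.eq_of_mul_eq_mul_left (Nat.card_pos (α := D)) (by rw [← relIndex, h4]; omega)
  exact (mul_mem_iff_of_index_two h5 (a := ⟨a, ha⟩) (b := ⟨b, hb⟩)).2 (iff_of_false h1 h2)

theorem nor_of_two {D P : Subgroup G} (hD : D ≤ P) (h : Nat.card P ≤ 2 * Nat.card D) : P ≤ nor D :=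
  fun p hp => mem_normalizer_of_cj_le (by
    rintro _ ⟨d, hd, rfl⟩
    show p * d * p⁻¹ ∈ D
    by_cases h1 : p ∈ D
    · exact mul_mem (mul_mem h1 hd) (inv_mem h1)
    · exact mul_mem_of_two hD h (mul_mem hp (hD hd)) (inv_mem hp)
        (fun h2 => h1 ((mul_mem_cancel_right hd).1 h2)) fun h2 => h1 (inv_mem_iff.1 h2))

theorem exists_odd_prime {L : Subgroup G} (h : IsQuasisimple L) :
    ∃ p : ℕ, p.Prime ∧ p ≠ 2 ∧ p ∣ Nat.card L := by
  by_contra h1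
  push Not at h1
  have h2 : IsPGroup 2 L := IsPGroup.iff_card.2 ⟨_, Nat.eq_prime_pow_of_unique_prime_dvd
    Nat.card_pos.ne' fun hd hd' => by_contra fun h3 => h1 _ hd h3 hd'⟩
  have := h2.isNilpotent
  exact quasi_not_solvable h inferInstance

theorem Pk.three' (k : Pk G) {t : G} {A B C : Subgroup G} (ht : CO.Inv t) (hA : CP A (cen1 t))
    (hB : CP B (cen1 t)) (hC : CP C (cen1 t)) (ab : A ≠ B) (ac : A ≠ C) (bc : B ≠ C)
    (h1 : Nat.card A ∣ Nat.card B) (h2 : Nat.card A ∣ Nat.card C) : False :=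
  let ⟨p, hp, h3, h4⟩ := exists_odd_prime hA.2
  k.three t A B C p ht hA hB hC ab ac bc hp h3 h4 (h4.trans h1) (h4.trans h2)

theorem Pk.idx (k : Pk G) {z : G} {L X : Subgroup G} (hz : CO.Inv z) (hL : CP L (cen1 z))
    (hX : X ≤ cen1 z) (hn : ¬ X ≤ nor L) : (nor L).relIndex X = 2 := by
  obtain ⟨s, h1, h2⟩ := SetLike.not_le_iff_exists.1 hn
  refine relIndex_eq_two_iff_exists_notMem_and'.2 ⟨s⁻¹, inv_mem h1, fun h => h2 (inv_mem_iff.1 h),
    fun b hb => ?_⟩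
  by_contra h3
  rw [not_or] at h3
  refine k.three' hz hL (hL.cj_of_mem_normalizer (nor_cen1 (hX h1)))
    (hL.cj_of_mem_normalizer (nor_cen1 (hX hb))) (fun h => h2 (cj_eq_self_iff.1 h.symm))
    (fun h => h3.2 (cj_eq_self_iff.1 h.symm)) (fun h => h3.1 (cj_eq_self_iff.1 ?_))
    (card_cj _ _).symm.dvd (card_cj _ _).symm.dvd
  rw [← cj_cj, ← h, H98.cj_inv_cj]

theorem Pk.caseB (k : Pk G) {z : G} {L P : Subgroup G} (hz : CO.Inv z) (hL : CP L (cen1 z))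
    (hP : IsSyl 2 P ⊤) (h1 : P ≤ cen1 z) (h2 : P ≤ nor L) : cen1 z ≤ nor L := by
  by_contra h3
  refine (hP.of_le h1 le_top).not_dvd_relIndex ?_
  rw [← relIndex_mul_relIndex _ _ _ (le_inf h2 h1) inf_le_right, inf_relIndex_right,
    k.idx hz hL le_rfl h3]
  exact dvd_mul_left _ _

omit [Finite G] in
theorem mem_syl_of_cen {P H : Subgroup G} (hP : IsSyl 2 P H) {x : G} (hx : Tw x) (h1 : x ∈ H)
    (h2 : P ≤ cen1 x) : x ∈ P :=
  zpowers_le.1 (hP.le_of_le_normalizer hx.zp (zpowers_le.2 h1) fun g hg => CO.cen_le_nor _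
    (mem_cen.2 fun y hy => by
      obtain ⟨k, rfl⟩ := mem_zpowers_iff.1 hy
      exact ((Commute.zpow_right (mem_cen1.1 (h2 hg)) k).symm).eq))

theorem exists_st (k : Pk G) {z : G} {L : Subgroup G} (hz : ZI z) (hL : CP L (cen1 z)) :
    ∃ z' P, St z' L P := by
  obtain ⟨hi, T, hT, hTz⟩ := zi_iff.1 hz
  have zc : z ∈ cen L := mem_cen_of_le hL.le
  have zT : z ∈ nor L ⊓ T := ⟨CO.cen_le_nor _ zc, mem_syl_of_cen hT hi.tw trivial hTz⟩
  obtain ⟨P, hP, h0⟩ := exists_isSyl_le (hT.isPGroup.to_le (inf_le_right : nor L ⊓ T ≤ T)) inf_le_left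
  have c1 := hT.card_le hP.isPGroup le_top
  have c2 := card_relIndex (inf_le_right : nor L ⊓ T ≤ T)
  rw [inf_relIndex_right] at c2
  have c3 : Nat.card T ≤ 2 * Nat.card (nor L ⊓ T : Subgroup G) := by
    by_cases h : T ≤ nor L
    · rw [inf_eq_right.2 h]; omega
    · rw [k.idx hi hL hTz h] at c2; omega
  have B : ∀ z', CO.Inv z' → CP L (cen1 z') → z' ∈ P → P ≤ cen1 z' → Nat.card T ≤ Nat.card P →
      ∃ z' P, St z' L P := fun z' h1 h2 h3 h4 h5 =>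
    have h6 := hT.of_card_ge hP.isPGroup le_top h5
    ⟨z', P, h1, h2, hP, h3, h4, .inl ⟨h6, k.caseB h1 h2 h6 h4 hP.le⟩⟩
  by_cases h1 : P ≤ nor L ⊓ T
  · have h2 : P ≤ T := h1.trans inf_le_right
    by_cases h : T ≤ nor L
    · exact B z hi hL (h0 zT) (h2.trans hTz) (card_le_of_le ((le_inf h le_rfl).trans h0))
    · obtain ⟨s, h3, h4⟩ := SetLike.not_le_iff_exists.1 h
      refine ⟨z, P, hi, hL, hP, h0 zT, h2.trans hTz, .inr ⟨T, s, hT, h2, ?_, hTz, h3,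
        fun h5 => h4 (cj_eq_self_iff.1 h5)⟩⟩
      rw [k.idx hi hL hTz h, ← le_antisymm h1 h0] at c2
      omega
  have c4 := (c3.trans (two_card_le h0 h1))
  by_cases h2 : P ≤ cen1 z
  · exact B z hi hL (h0 zT) h2 c4
  obtain ⟨p, h3, h4⟩ := SetLike.not_le_iff_exists.1 h2
  have hD : P ⊓ cen1 z ≤ P := inf_le_left
  have c5 : Nat.card P ≤ 2 * Nat.card (P ⊓ cen1 z : Subgroup G) :=
    (c1.trans c3).trans (Nat.mul_le_mul_left _ (card_le_of_le (le_inf h0 (inf_le_right.trans hTz))))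
  have hn := nor_of_two hD c5
  have zD : z ∈ P ⊓ cen1 z := ⟨h0 zT, mem_cen1.2 rfl⟩
  set z' := p * z * p⁻¹ with hz'
  have z'D : z' ∈ P ⊓ cen1 z := conj_mem_of_mem_normalizer (hn h3) zD
  have Dz' : P ⊓ cen1 z ≤ cen1 z' := by
    rw [hz', ← cj_cen1, ← cj_eq_self (hn h3)]; exact cj_mono _ inf_le_right
  have comm : z * z' = z' * z := (mem_cen1.1 z'D.2).symm
  have act : ∀ d ∈ P, (d * z * d⁻¹ = z ∧ d * z' * d⁻¹ = z') ∨ (d * z * d⁻¹ = z' ∧ d * z' * d⁻¹ = z) :=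
    fun d hd => by
    by_cases h5 : d ∈ P ⊓ cen1 z
    · exact .inl ⟨CO.cj_eq_of_comm (mem_cen1.1 h5.2), CO.cj_eq_of_comm (mem_cen1.1 (Dz' h5))⟩
    · have h6 := mul_mem_of_two hD c5 (inv_mem h3) hd (fun h => h4 (inv_mem_iff.1 h).2) h5
      have h7 := mul_mem_of_two hD c5 hd h3 h5 fun h => h4 h.2
      refine .inr ⟨?_, ?_⟩
      · calc d * z * d⁻¹ = p * (p⁻¹ * d * z * (p⁻¹ * d)⁻¹) * p⁻¹ := by group
          _ = z' := by rw [CO.cj_eq_of_comm (mem_cen1.1 h6.2)]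
      · calc d * z' * d⁻¹ = d * p * z * (d * p)⁻¹ := by rw [hz']; group
          _ = z := CO.cj_eq_of_comm (mem_cen1.1 h7.2)
  have ne : z ≠ z' := fun h => h4 (mem_cen1.2 (mul_inv_eq_iff_eq_mul.1 h.symm))
  have i2 : CO.Inv (z * z') := hi.mul (hi.cj p) ne comm
  have Pz : P ≤ cen1 (z * z') := fun d hd => mem_cen1.2 (mul_inv_eq_iff_eq_mul.1 (by
    have : d * (z * z') * d⁻¹ = d * z * d⁻¹ * (d * z' * d⁻¹) := by group
    rcases act d hd with h | h <;> rw [this, h.1, h.2]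
    exact comm.symm))
  have hP' := hT.of_card_ge hP.isPGroup le_top c4
  refine B (z * z') i2 (k.bc z _ L P P hi i2 (mem_cen1.1 (Pz zD.1)) (hL.of_le (le_inf hL.le (le_cen1
    (mul_mem zc (cj_mem_cen (hP.le h3) zc)))) inf_le_left) (hP'.of_le Pz le_top) le_rfl (by omega)
    fun d hd => ?_) (mul_mem zD.1 z'D.1) Pz c4
  rcases act d hd with h | h <;> rw [cm, h.1]
  · rw [mul_inv_cancel]; exact one_mem _
  · rw [hi.inv, ← comm]; exact mem_zpowers _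

theorem St.card_le {z : G} {L P X : Subgroup G} (h : St z L P) (hX : IsPGroup 2 X) :
    Nat.card X ≤ 2 * Nat.card P := by
  rcases h.cases with ⟨h1, -⟩ | ⟨T, s, h1, -, h2, -⟩
  · have := h1.card_le hX le_top; omega
  · exact h2 ▸ h1.card_le hX le_top

theorem exists_tb (k : Pk G) {z : G} {L P : Subgroup G} (h : St z L P) {t : G} (h1 : t ∈ cen L)
    (h2 : CO.Inv t) (h3 : ¬ CP L (cen1 t)) : ∃ t' y, Tb z t' y L P := by
  let B : Set (G × Subgroup G) := {a | a.1 ∈ cen L ∧ CO.Inv a.1 ∧ ¬ CP L (cen1 a.1) ∧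
    IsPGroup 2 a.2 ∧ a.2 ≤ nor L ⊓ cen1 a.1}
  obtain ⟨⟨t0, S⟩, ⟨b1, b2, b3, b4, b5⟩, hm⟩ := Set.exists_max_image B (fun a => Nat.card a.2)
    (Set.toFinite _) ⟨(t, ⊥), h1, h2, h3, IsPGroup.of_bot, bot_le⟩
  obtain ⟨g, hg, h4⟩ := h.syl.exists_cj_le b4 (b5.trans inf_le_left)
  have g1 : g * t0 * g⁻¹ ∈ cen L := cj_mem_cen hg b1
  have g2 := b2.cj g
  have g3 : ¬ CP L (cen1 (g * t0 * g⁻¹)) := fun h5 => b3 (by
    have := h5.cj g⁻¹
    rwa [cj_eq_self (inv_mem hg), ← cj_cen1, H98.cj_inv_cj] at this)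
  have g4 : H98.cj g S ≤ P ⊓ cen1 (g * t0 * g⁻¹) :=
    le_inf h4 (cj_cen1 g t0 ▸ cj_mono g (b5.trans inf_le_right))
  generalize g * t0 * g⁻¹ = t at g1 g2 g3 g4
  have hm' : ∀ s ∈ cen L, CO.Inv s → ¬ CP L (cen1 s) → ∀ X : Subgroup G, IsPGroup 2 X →
      X ≤ nor L ⊓ cen1 s → Nat.card X ≤ Nat.card (P ⊓ cen1 t : Subgroup G) := fun s a1 a2 a3 X a4 a5 =>
    (hm (s, X) ⟨a1, a2, a3, a4, a5⟩).trans ((card_cj g S).ge.trans (card_le_of_le g4))
  have hp : IsPGroup 2 (P ⊓ cen1 t : Subgroup G) := h.syl.isPGroup.to_le inf_le_left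
  have hs : IsSyl 2 (P ⊓ cen1 t) (nor L ⊓ cen1 t) := by
    obtain ⟨X, hX⟩ := exists_isSyl 2 (nor L ⊓ cen1 t)
    exact hX.of_card_ge hp (inf_le_inf_right _ h.syl.le) (hm' t g1 g2 g3 X hX.isPGroup hX.le)
  have tP := mem_syl_of_cen hs g2.tw ⟨CO.cen_le_nor _ g1, mem_cen1.2 rfl⟩ inf_le_right
  have hn : ¬ P ≤ P ⊓ cen1 t := fun h5 => by
    obtain ⟨T, hT, h6⟩ := exists_isSyl_le h.syl.isPGroup (h5.trans inf_le_right)
    refine g3 (k.bc z t L T P h.inv g2 (mem_cen1.1 (h.cz tP.1)).symm (h.cp.of_le (le_inf h.cp.le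
      (le_cen1 g1)) inf_le_left) hT h6 (h.card_le hT.isPGroup) fun d hd => ?_)
    rw [CO.cm_eq_one.2 (mem_cen1.1 (h.cz hd))]; exact one_mem _
  obtain ⟨y, y1, y2, y3, y4⟩ := exists_step h.syl.isPGroup inf_le_left hn
  refine ⟨t, y, h, g2, g1, tP.1, g3, hs, y1, y3, fun I i1 i2 i3 q q1 q2 q3 => ?_⟩
  by_contra q4
  have n1 : P ⊓ cen1 t ≤ nor (cen I) := le_normalizer_centralizer i2
  have n2 : P ⊓ cen1 t ≤ nor (H98.cj y⁻¹ (cen I)) := by
    rw [nor, ← cj_normalizer, le_cj_iff, inv_inv, cj_eq_self y3]; exact n1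
  have hX : IsPGroup 2 (zpowers y ⊔ (P ⊓ cen1 t) : Subgroup G) :=
    h.syl.isPGroup.to_le (sup_le (zpowers_le.2 y1) inf_le_left)
  obtain ⟨s, s1, s2, s3⟩ := CO.exists_inv_cen hX (P := P ⊓ cen1 t ⊓ (cen I ⊓ H98.cj y⁻¹ (cen I)))
    (hp.to_le inf_le_left) (sup_le (zpowers_le.2 (cj_eq_self_iff.1 (by
      rw [cj_inf, cj_inf (H := cen I), cj_eq_self y3, H98.cj_cj_inv, inf_comm (cen I)]
      congr 2
      calc H98.cj y (cen I) = H98.cj y⁻¹ (H98.cj (y * y) (cen I)) := by rw [cj_cj, inv_mul_cancel_left]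
        _ = _ := by rw [cj_eq_self (n1 y4)]))) (le_normalizer_inf le_normalizer (le_normalizer_inf n1 n2)))
    fun h5 => q4 (mem_bot.1 (h5 ▸ ⟨q1, q2, H98.mem_cj.2 (by rwa [inv_inv])⟩))
  have s4 : s ∈ cen L := centralizer_le i1 s1.2.1
  have s5 : CP L (cen1 s) := by
    by_contra h5
    have := hm' s s4 s2 h5 _ hX (le_inf ((sup_le (zpowers_le.2 y1) inf_le_left).trans h.syl.le) (le_cen1 s3))
    exact absurd this (not_le.2 (CO.card_lt_of_lt le_sup_right fun h6 =>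
      y2 (h6 (mem_sup_left (mem_zpowers y)))))
  exact i3 (s5.1.of_le i1 (le_cen1 s1.2.1))

theorem jobSt : JobSt.{u} := fun _ _ _ _ k =>
  ⟨fun _ _ hz hL => exists_st k hz hL, fun _ _ _ h _ h1 h2 h3 => exists_tb k h h1 h2 h3⟩

end H36.QE
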