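/- E7MAX (S5934): everything except the twelve type computations. -/
import Cfsg.Agent.H36.E7MAsm
import Cfsg.Agent.H3.E7MSQ
import Cfsg.Agent.H99.E7MLQ
import Cfsg.Agent.H4.E7MCZ
import Cfsg.Agent.H29.E7R5
import Cfsg.Agent.H43.E7MW
import Cfsg.Agent.H49.E7MFil
import Cfsg.Agent.H18.E7PHI
import Cfsg.Agent.H15.E7MForm
import Cfsg.Agent.H87.E7Col
import Cfsg.Agent.H88.E7MP
import Cfsg.Agent.H77.E7DIM
import Cfsg.Agent.H7.E7P1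
import Cfsg.Agent.H37.E7PM
import Cfsg.Agent.H45.E7MPN
import Cfsg.Agent.H1.E7MBT
import Cfsg.Agent.H17.E7MA1
import Cfsg.Agent.H69.E7MA2
import Cfsg.Agent.H76.E7MA3
import Cfsg.Agent.H46.E7DI
import Cfsg.Agent.H58.E7ME6X
import Cfsg.Agent.H71.E7RD
import Cfsg.Agent.H25.E7DD
import Cfsg.Agent.H96.E7SB
import Cfsg.Agent.H5.E7MSC
import Cfsg.Agent.H92.E7mSR

set_option autoImplicit false

namespace H36.E7M

theorem kit : Kit :=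
  have sq := H3.E7M.jobSQ
  have cm := H3.E7M.jobCM
  have lq := H99.E7MLQ.jobLQ cm sq
  have cz := H4.E7MCZ.jobCZ lq
  have r5 := H29.E7R.jobR5
  have w := H43.E7MW.jobW
  have fil := H49.E7MFil.jobFIL
  have phi := H18.E7PHI.jobPHI fil lq sq
  have col := H87.E7Col.jobCOL sq cm lq cz r5
  have gen := H88.E7M.jobGEN cm
  have p1 := H7.E7P1.jobP1 sq cm lq cz r5 w fil col gen
  ⟨p1, lq, w, fil, phi, H96.E7M.jobSB phi lq gen,
    H5.E7MSC.jobSC p1 phi (H15.E7M.jobFORM phi lq cm sq),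
    H92.E7mSR.jobSR p1 lq w phi (H87.E7Col.jobCRIT col fil)⟩

theorem fin2 (t0 : TD6) (t1 : TE6) (t2 : T2E6) (t3 : TA7) (t4 : TU8) (t5 : TA5) (t6 : TU6)
    (t7 : TD4) (t8 : T3D4) (t9 : TG2) (t10 : TNT) (tl : TL2) :
    ∃ M : Fin 19 → Subgroup G, (∀ i, IsCoatom (M i)) ∧
      ∀ i j, (∃ g : G, (M i).map (MulAut.conj g).toMonoidHom = M j) → i = j :=
  fin kit.p1 H1.E7MBT.jobBT H77.E7DIM.jobDIM H17.E7MA1.jobA1 H69.E7M.jobA2 H76.E7MA3.jobA3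
    H46.E7DI.jobDI H58.E7M.jobE6X H71.E7RD.jobRD H25.E7.jobDD H37.E7PM.jobPM H45.E7M.jobPN
    H88.E7M.jobPU t0 t1 t2 t3 t4 t5 t6 t7 t8 t9 t10 tl

end H36.E7M
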