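import Cfsg.Agent.H36.JSSC

/-! Tower JS, job Q3: the involutions of `O₆⁻(2)`. -/

set_option autoImplicit false
set_option linter.unusedSectionVars false
set_option maxRecDepth 100000

namespace H36.JS.Q3

open Cfsg Subgroup H98 H1.Gold H8.JS H36.JS
open H4.M2 (X g y p q r s t z a h)

universe u

/-! ### Linear maps of `F₂⁶` coded by numbers -/

def dg (k i : ℕ) : ℕ := k >>> (6 * i) % 64

def sl (k c i : ℕ) : ℕ := if c >>> i % 2 = 1 then dg k i else 0

def ap (k c : ℕ) : ℕ := sl k c 0 ^^^ sl k c 1 ^^^ sl k c 2 ^^^ sl k c 3 ^^^ sl k c 4 ^^^ sl k c 5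

def pack (f : ℕ → ℕ) : ℕ := f 0 + 64 * (f 1 + 64 * (f 2 + 64 * (f 3 + 64 * (f 4 + 64 * f 5))))

def sf (c : ℕ) : ℕ := 8608780803125049208 >>> c % 2

def cf (c d : ℕ) : ℕ := 7608434000728254870 >>> (c &&& ((d &&& 21) <<< 1 ||| d >>> 1 &&& 21)) % 2

def gk (i : ℕ) : ℕ :=
  [34631352449, 34630292161, 34631336002, 35167158401, 34647066817, 35704030337].getD i 0

def gi (i : ℕ) : ℕ :=
  [34629271681, 34630292161, 34631336002, 35167158401, 34647066817, 35704030337].getD i 0

def st (i k : ℕ) : ℕ := pack fun j => ap (gk i) (ap k (dg (gi i) j))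

def reps : List ℕ := [34630287489, 35167158401, 34630292161, 35167163073, 35704030337]

def chain : List ℕ :=
  [281471501837, 277044399624, 277046559866, 281339366920, 281341527162, 281471538189, 294222169226,
  285766476811, 281605702938, 277044436488, 277046494266, 277042365528, 277031984697, 283425102708,
  534778676477, 281339403784, 281341461562, 281473600525, 281337332824, 281326951993, 279130135412,
  539207878397, 281609962858, 371532113033, 294490604939, 25920954500, 282815091537, 277042299412,
  167923311509, 277032013433, 282350209844, 466058609853, 277042561553, 282814829396, 500381189341,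
  277038077560, 277053115994, 282331500852, 466044100285, 263995459069, 491791234570, 281473637389,
  281326980729, 278055242548, 470487811773, 281609897258, 281337528849, 278519862100, 504810391261,
  281333044856, 281348083290, 278036533556, 470473301181, 259834726397, 496354637594, 281605768520,
  282804177249, 283425103212, 116422042469, 337205404808, 405925405834, 373009573259, 86051049604,
  26055156100, 282358598448, 283416845170, 277042627676, 228994254301, 440251064981, 277035982424,
  277055182394, 283406356852, 534764130045, 194200602045, 457466588682, 277050688016, 277034041874,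
  281605965084, 440251327125, 228993992157, 526186626570, 283416545652, 534770194173, 282825578836,
  500391939805, 282358926178, 194186092477, 457475305050, 220269835786, 483201254412, 281330949720,
  281350149690, 279111389556, 539193330941, 190039869373, 462029991706, 282804148513, 282350210348,
  47701975845, 281345655312, 281329009170, 277310997788, 444680528021, 224833259485, 530750029594,
  279121578356, 539199395069, 278530611540, 504821140701, 278063958882, 190025358781, 462038708042,
  216243304218, 497563951441, 483201253908, 90614452629, 282814829897, 82024555333, 282329209152,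
  283406029090, 282331304292, 108757884781, 117966578533, 338212054411, 51726403716, 408006845835,
  120446441604, 87394275716, 111992840546, 277054882876, 194208990653, 277038302332, 263987201533,
  277036178954, 500381451485, 255260950026, 282808371540, 500374806237, 282358896948, 466067297981,
  282827674466, 263980912637, 491804079674, 185474379274, 448876645897, 448874546188, 281614091548,
  440259453589, 281597445404, 440242807445, 281463244298, 167923573653, 255269207562, 517596683785,
  517594547212, 282810438434, 263986976765, 491786974842, 283404262210, 229004742621, 526174174778,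
  283416845673, 108310496621, 185483095642, 448882934289, 454655726420, 405936221917, 211545621516,
  278513404244, 504804007133, 278063929652, 470496498877, 278532707170, 259820178941, 496367482666,
  181447847706, 454649436497, 448874545684, 56289806741, 283403962690, 40037781293, 48171721509,
  277319124252, 444688654485, 277302478108, 444672008341, 277168277002, 163494371733, 444806210434,
  251242675994, 523369400657, 517594546708, 125009844629, 278515471138, 259826243069, 496350377834,
  279109294914, 224844008925, 530737577770, 279121878377, 104149763949, 181456564042, 454655726921,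
  245277608261, 215034569041, 211545621012, 373009572757, 462778687792, 541144701826, 483201582172,
  31425279965, 371532112533, 91420807315, 82965111621, 73887487821, 40641761069, 108287074157,
  74828076122, 52598819204, 43272773922, 122393647492, 77595353410, 113805844834, 104597151081,
  277314995565, 277052788234, 466066998461, 185482767882, 277042599434, 534770418941, 220270097930,
  277034042377, 526178369034, 246534636553, 283416517410, 228987609053, 526178172506, 282329434946,
  194209290173, 457454202490, 281601705321, 108781307245, 220282680890, 488517815092, 405938288317,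
  176750202377, 176748102668, 448878740538, 457464488972, 281479890442, 167931700117, 281471763978,
  167915053973, 281465379849, 281329009677, 246545030665, 246542894092, 483201291784, 483201320026,
  526184489996, 281618285865, 40044070189, 220265576058, 489575537524, 337201182461, 74962502989,
  255256755770, 517598807161, 522885810996, 371521797821, 282815092040, 117958320997, 73753482250,
  176756490769, 173939348308, 125217735901, 517586289168, 462038380316, 337213792917, 455240702834,
  125956982237, 408017661915, 279121550114, 224826875357, 530741575498, 278034467650, 190048556477,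
  462017605482, 277306738025, 104620574573, 216256149290, 497559560481, 488517815596, 245279674661,
  173933058385, 176748102164, 338212053909, 522908782896, 455244897090, 457464816732, 125950693341,
  337205404309, 56625350803, 74962278221, 40507558970, 277184923146, 163502498197, 444822856578,
  277176796682, 163485852053, 444814730114, 277170412553, 163351650946, 506147391873, 167915054476,
  241578232145, 246542893588, 408006845333, 488517589296, 489575734050, 526184817756, 57230729181,
  405925405333, 126420179091, 277323318569, 35883337517, 216239044458, 497576272225, 489575538028,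
  176542568805, 70801770317, 251230224170, 523371467553, 522885811500, 210863184165, 278520124744,
  113797587301, 69726950682, 173939348809, 527199855429, 455240703338, 254806008645, 519686801731,
  180720116016, 257877138050, 211545949276, 294490932701, 532556898672, 455246991729, 471366519682,
  448887129148, 30968786877, 506153849728, 471347810689, 263982941580, 517588426250, 294222496989,
  31892831994, 31291078363, 108152872058, 39903579194, 73753285722, 74694001169, 69726753620,
  169184669405, 44010987810, 35877047593, 277314929965, 78804377922, 277310801229, 104126340457,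
  279130135917, 69726754120, 70801544522, 278509209957, 277176570890, 277050688521, 457474977290,
  176756491273, 491791496714, 211545883660, 277042562056, 517586289673, 282358598953, 40648049965,
  255260753498, 523358557012, 337199087325, 73887712589, 185461993082, 371521826557, 281606030664,
  281471800330, 116413784933, 74828272650, 208272247604, 125692675261, 125490300349, 408019728315,
  176752297018, 185472279564, 462770299188, 294226363581, 466054415498, 281481989129, 281345655821,
  281337529357, 281331146253, 211545658888, 211545687130, 255267070988, 491791197196, 483201516049,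
  497563689300, 294222234845, 500381123722, 47710364453, 40511753226, 207180389236, 56955569405,
  57827984893, 338207832059, 108644981770, 246547154041, 242036263732, 91878065341, 532565156212,
  294226429181, 91071710653, 372999258043, 82965373765, 91421069458, 73619211273, 82211290637,
  246534636048, 181456236316, 56633739413, 173316365170, 530741772060, 405917147797, 470496200378,
  56298195349, 338220442515, 92146566653, 83420315146, 278063631657, 36487317293, 251234221898,
  523358557513, 176540473669, 69726979917, 181435461482, 454651532129, 210863212901, 277311063368,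
  277176833034, 111984583013, 70801741082, 215030178081, 208272248108, 527674794789, 462770626912,
  541153184130, 254793266989, 254339326757, 519688868131, 242059235632, 173320559426, 185472607324,
  408007173597, 489575762288, 488517618530, 526197072956, 91098881981, 462757912897, 246803137869,
  466048294538, 405925733597, 83432898106, 125211447003, 108623682682, 48978441849, 35877047092,
  169186735805, 277187021833, 163368297090, 506164074881, 167931700620, 163360170626, 167923574156,
  223483807873, 440242807948, 471358429568, 532565352738, 228987805580, 208272021808, 207180585762,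
  255267398748, 338212382173, 522906716994, 491803780156, 125490075581, 246807266605, 500375002762,
  337205732573, 49102061146, 57566273243, 43281162533, 36485221658, 215046889825, 207180389740,
  458937688933, 541159248258, 186089977709, 186677011301, 449876971875, 104618450202, 241580299041,
  242036264236, 493860184869, 211818513709, 219920737061, 484668397859, 78804640069, 87394537858,
  70801544017, 73619210772, 501373262229, 173316365674, 220995593061, 229449193618, 249423536496,
  173322654065, 189173746306, 176760685628, 294503187901, 223490265728, 189155037313, 534766158988,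
  246536773130, 285760355850, 517590549628, 32027033597, 457460491388, 92157054973, 194204796300,
  448885034506, 294234752189, 30834585274, 228994188684, 194190286732, 220270060554, 483201553928,
  526176232457, 285626121738, 91905236665, 294486607356, 246538896509, 116623586873, 104597150580,
  168112011005, 48508696185, 36481026868, 168584855229, 168109915869, 39771439632, 108508611090,
  104126339954, 441243008989, 442317762523, 36481027369, 278055243053, 278509181221, 277178633226,
  278519862605, 277178670090, 278036336997, 278034241861, 279108995397, 279111061794, 448882934793,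
  483201516556, 48180110117, 39907773450, 241567388500, 57555354845, 57219810781, 338205736923,
  108174171146, 90803340541, 372999286779, 82024817477, 281337566733, 90614714770, 74694001673,
  83286044173, 82345487882, 180711727412, 30826196669, 194196407690, 471358131074, 30960398269,
  285634342410, 294494799291, 534774416520, 189165357700, 281347755533, 281337594970, 220269798412,
  211545883153, 215034306900, 31290816221, 228993926538, 496354899740, 371532374677, 541152959362,
  31425017821, 285634379274, 294490670555, 440251065481, 223490003588, 48965400073, 40375419916,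
  48495654410, 117232825865, 108508611596, 117100654093, 249431794036, 31901089533, 506153587586,
  32035291133, 285632280074, 294494864891, 116764077578, 126411921554, 373009834900, 108037800970,
  251234418460, 190048257978, 504810653402, 125001587093, 407998587795, 539199620856, 281349850173,
  44019376421, 35881241882, 241567389001, 459537474373, 186068837189, 449874876739, 104147639578,
  173935154017, 492785460069, 211818579309, 484668426595, 77595615557, 86051311746, 502448015765,
  180712055136, 257885620354, 517858919725, 532569350464, 219939811181, 263991498636, 229470326010,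
  527187113771, 228374366354, 207180614000, 208272051042, 255279653948, 373022156221, 180699341121,
  527655857997, 373003452298, 491787199612, 57828284413, 177029186925, 500391612042, 371544695997,
  116763881050, 254320389965, 211682253834, 517854790987, 534774716040, 371525992074, 83315338873,
  82223873595, 78800249140, 263718700221, 117228631609, 168584883965, 117100457560, 56955868922,
  43273101684, 441717948349, 442319828923, 223500490881, 440259454092, 229004414860, 440251327628,
  189165656192, 249431990562, 194196707212, 221014572845, 242057169730, 220282381372, 408019428797,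
  338205933450, 177024992589, 534784904842, 405937988797, 82374782586, 125692450491, 211682216970,
  466054715016, 337199283850, 40375419409, 48363847259, 43998601556, 263714571485, 51734792322,
  468127371669, 257891684482, 449155630445, 264001687436, 195149681914, 459558614891, 194524532882,
  111997034833, 536262625685, 492804439853, 246670969866, 483474146603, 262792956050, 122385389954,
  52607207808, 26055418241, 373009835404, 108037800466, 263261704338, 185468281980, 373005575677,
  466062804108, 176758590986, 285776965130, 500381385868, 491791459338, 211545921032, 255258813449,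
  285766776328, 285758219273, 294218171645, 371528115453, 90813828859, 185480668170, 457472877577,
  285642731018, 285632542216, 285623985161, 111993037108, 228395506877, 441717977085, 441245104123,
  44011315572, 228730012925, 113806041393, 39771440140, 48363519501, 49101733386, 116627781129,
  281333269626, 263991199112, 285768576523, 257885395588, 281337266705, 278520124244, 216243566364,
  167923312009, 285768613387, 163359908484, 444814467969, 285766514187, 224833521626, 259826468856,
  278063631157, 444680265873, 43260387665, 467525491093, 195130611858, 113810039121, 535789752725,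
  493879258989, 246668907530, 483474212203, 120438184066, 25921216641, 371532375180, 249435988288,
  483337849866, 186691862349, 262778180794, 220265800826, 194543607000, 501394394619, 500654081532,
  338208056829, 408017334154, 502469156282, 338212353928, 294482347401, 87388081028, 337201407229,
  176890762250, 405935894154, 193936426205, 483337886731, 220137926156, 337205704328, 294213911689,
  86044854916, 77607936372, 77591224628, 122393873282, 536247850429, 535038789051, 228729947325,
  51716084354, 263246925018, 458952539981, 373020061578, 408007145352, 407998588297, 52588499844,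
  176892861450, 449151436107, 371542601354, 78816960884, 193940620541, 220137963020, 405925705352,
  405917148297, 52599118722, 535774973405, 535034660315, 120452731521, 337213793420, 449017205770,
  467544561147, 466335499772, 86061537922, 466331305437, 255124616713, 517722622987, 122399937409,
  338220443020, 26063544704, 25912696962, 294490867084, 285774865417, 285766738952, 285640631305,
  285632504840, 294222431370, 500654015933, 279121877876, 277310735644, 163494109586, 51726703234,
  87404764034, 468146445789, 255126679049, 517720560651, 25929343104, 26046898562, 449019304968,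
  491927830028, 526310503946, 185348570633, 491927793164, 120446667394, 294498993545, 185346471433,
  294230557833, 457609248265, 457607149066, 526312566282, 277176534538]

def chk : List ℕ → List ℕ → Bool
  | [], _ => true
  | c :: L, S => decide (c % 8 < 6) && S.contains (st (c % 8) (c / 8)) && chk L (c / 8 :: S)

def KK : List ℕ := reps ++ chain.map (· / 8)

def ok (i t : ℕ) (L : List (ℕ × ℕ)) : Bool :=
  sf t == sf (2 ^ i) && L.all fun e => cf t e.2 == cf (2 ^ i) (2 ^ e.1) && cf t (2 ^ e.1) == cf (2 ^ i) e.2

def go : ℕ → List (ℕ × ℕ) → Bool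
  | 0, L => KK.contains (L.foldl (fun a e => e.2 + 64 * a) 0)
  | n + 1, L => (List.range 64).all fun t => !(ok (5 - n) t L) || go n ((5 - n, t) :: L)

theorem chk_chain : chk chain reps = true := by decide +kernel

theorem go_six : go 6 [] = true := by decide +kernel

theorem rk_list : (KK.all fun k => k == 34630287489 || (List.range 64).any (fun c => sf (ap k c ^^^ c) == 1) ||
    (List.range 64).any (fun c => sf (ap 35704030337 (ap k c) ^^^ c) == 1) ||
    (List.range 64).all fun c => ap 35704030337 (ap k c) == c) = true := by decide +kernel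

theorem chk_sound {P : ℕ → Prop} (hP : ∀ i < 6, ∀ k, P (st i k) → P k) :
    ∀ L S, chk L S = true → (∀ k ∈ S, P k) → ∀ c ∈ L, P (c / 8)
  | [], _, _, _ => by simp
  | c :: L, S, h1, h2 => by
    simp only [chk, Bool.and_eq_true, decide_eq_true_eq, List.contains_iff_mem] at h1
    have := hP _ h1.1.1 _ (h2 _ h1.1.2)
    exact List.forall_mem_cons.2 ⟨this, chk_sound hP L _ h1.2 (List.forall_mem_cons.2 ⟨this, h2⟩)⟩

theorem go_step {n t : ℕ} {L : List (ℕ × ℕ)} (h1 : go (n + 1) L = true) (h2 : t < 64)
    (h3 : ok (5 - n) t L = true) : go n ((5 - n, t) :: L) = true := by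
  have := List.all_eq_true.1 h1 t (List.mem_range.2 h2)
  rwa [h3, Bool.not_true, Bool.false_or] at this

theorem enum (τ : ℕ → ℕ) (h0 : ∀ i, τ i < 64) (h1 : ∀ i < 6, sf (τ i) = sf (2 ^ i))
    (h2 : ∀ i < 6, ∀ j < 6, cf (τ i) (τ j) = cf (2 ^ i) (2 ^ j))
    (h3 : ∀ i < 6, ∀ j < 6, cf (τ i) (2 ^ j) = cf (2 ^ i) (τ j)) : pack τ ∈ KK := by
  have k : ∀ i < 6, ∀ L : List ℕ, (∀ j ∈ L, j < 6) → ok i (τ i) (L.map fun j => (j, τ j)) = true :=
    fun i hi L hL => by
      simp only [ok, Bool.and_eq_true, beq_iff_eq, List.all_map, List.all_eq_true, Function.comp]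
      exact ⟨h1 i hi, fun j hj => ⟨h2 i hi j (hL j hj), h3 i hi j (hL j hj)⟩⟩
  have := go_step (go_step (go_step (go_step (go_step (go_step go_six (h0 0) (k 0 (by decide) [] (by simp)))
    (h0 1) (k 1 (by decide) [0] (by decide))) (h0 2) (k 2 (by decide) [1, 0] (by decide))) (h0 3)
    (k 3 (by decide) [2, 1, 0] (by decide))) (h0 4) (k 4 (by decide) [3, 2, 1, 0] (by decide))) (h0 5)
    (k 5 (by decide) [4, 3, 2, 1, 0] (by decide))
  simpa [go, pack] using this

theorem dg_lt (k i : ℕ) : dg k i < 64 := Nat.mod_lt _ (by decide)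

theorem dg_pack {f : ℕ → ℕ} (hf : ∀ i, f i < 64) : ∀ i < 6, dg (pack f) i = f i := fun i hi => by
  have := hf 0; have := hf 1; have := hf 2; have := hf 3; have := hf 4; have := hf 5
  interval_cases i <;> simp only [dg, pack, Nat.shiftRight_eq_div_pow] <;> omega

theorem ap_two (k : ℕ) : ∀ i < 6, ap k (2 ^ i) = dg k i := fun i hi => by
  interval_cases i <;> simp [ap, sl]

theorem qm_mod : ∀ b c : Fin 128, (qm b c).val % 64 = b.val % 64 ^^^ c.val % 64 := by decide +kernel

theorem modz : ∀ b c : Fin 128, b.val % 64 = c.val % 64 → b = c ∨ b = qm c 64 := by decide +kernel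

theorem sf_iff : ∀ c : Fin 128, qm c c = 0 ↔ sf (c.val % 64) = 0 := by decide +kernel

theorem cf_iff : ∀ b c : Fin 128, qm b c = qm c b ↔ cf (b.val % 64) (c.val % 64) = 0 := by
  decide +kernel

theorem lin_mod (l : ℕ → Fin 128) (c : Fin 128) : (lin (l 0) (l 1) (l 2) (l 3) (l 4) (l 5) c).val % 64 =
    ap (pack fun i => (l i).val % 64) (c.val % 64) := by
  have k : ∀ i < 6, (pk c i (l i)).val % 64 = sl (pack fun i => (l i).val % 64) (c.val % 64) i :=
    fun i hi => by
      rw [pk, sl, dg_pack (fun i => Nat.mod_lt _ (by decide)) i hi,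
        (by decide +kernel : ∀ c : Fin 128, ∀ i < 6, bt c i = (c.val % 64) >>> i % 2) c i hi]
      split_ifs <;> rfl
  have k6 : (pk c 6 64).val % 64 = 0 := by rw [pk]; split_ifs <;> rfl
  simp only [lin, qm_mod, k6, Nat.xor_zero, ap, k 0 (by decide), k 1 (by decide), k 2 (by decide),
    k 3 (by decide), k 4 (by decide), k 5 (by decide)]

/-! ### The action on `Q / ⟨z⟩` -/

variable {G : Type u} [Group G] [Finite G] {j : X →* G} {e v x b b' n : G} {O : Subgroup G} {k : ℕ}

def Ac (j : X →* G) (v x b : G) (k : ℕ) : Prop :=
  ∀ c, ∃ d, b * qq j v x c * b⁻¹ = qq j v x d ∧ d.val % 64 = ap k (c.val % 64)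

theorem Ac.of {f : Fin 128 → Fin 128} (h1 : Act j v x n f)
    (h2 : ∀ c, (f c).val % 64 = ap k (c.val % 64) := by decide +kernel) : Ac j v x n k :=
  fun c => ⟨_, h1 c, h2 c⟩

/-- the code of a basis vector -/
def bs (i : ℕ) : Fin 128 := Fin.ofNat 128 (2 ^ i)

theorem bs_mod : ∀ i < 6, (bs i).val % 64 = 2 ^ i := by decide

def cd (c : ℕ) : Fin 128 := Fin.ofNat 128 c

theorem cd_mod : ∀ c < 64, (cd c).val % 64 = c := by decide

variable (hQ : QD j e v x)
include hQ

theorem exAc (hb : b ∈ nor (QQ j v x)) : ∃ k, Ac j v x b k ∧ k = pack (dg k) := by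
  obtain ⟨-, l0, l1, l2, l3, l4, l5, k⟩ := hQ.all b hb
  let l : ℕ → Fin 128 := fun i => [l0, l1, l2, l3, l4, l5].getD i 0
  refine ⟨_, Ac.of k (lin_mod l), ?_⟩
  have := dg_pack (f := fun i => (l i).val % 64) fun i => Nat.mod_lt _ (by decide)
  conv_rhs => rw [pack]
  rw [this 0 (by decide), this 1 (by decide), this 2 (by decide), this 3 (by decide), this 4 (by decide),
    this 5 (by decide), pack]

theorem Ac.uniq (h1 : Ac j v x b k) {c d : Fin 128} (l : b * qq j v x c * b⁻¹ = qq j v x d) :
    d.val % 64 = ap k (c.val % 64) := by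
  obtain ⟨d', l', m⟩ := h1 c
  rwa [hQ.inj (l.symm.trans l')]

theorem tr_of {b₀ : G} (h0 : b₀ ∈ nor (QQ j v x)) (h1 : Ac j v x b₀ k) (h2 : Ac j v x b k) :
    Tr (QQ j v x) (j z) (b₀⁻¹ * b) := fun u hu => by
  obtain ⟨c, rfl⟩ := (hQ.mem u).1 hu
  obtain ⟨d, l, m⟩ := h1 c
  obtain ⟨d', l', m'⟩ := h2 c
  have e : b₀⁻¹ * b * qq j v x c * (b₀⁻¹ * b)⁻¹ = b₀⁻¹ * qq j v x d' * b₀ := by rw [← l']; group
  refine (modz d' d (m'.trans m.symm)).imp (fun k => by rw [e, k, ← l]; group) fun k => ?_
  rw [e, k, ← qz hQ, ← l]
  conv_rhs => rw [← fixz (cinv (nz hQ h0))]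
  group

theorem sq_iff {c : Fin 128} : qq j v x c * qq j v x c = 1 ↔ sf (c.val % 64) = 0 := by
  rw [hQ.mul, ← q0 (j := j) (v := v) (x := x), hQ.inj.eq_iff, sf_iff]

theorem cm_iff {c d : Fin 128} : qq j v x c * qq j v x d = qq j v x d * qq j v x c ↔
    cf (c.val % 64) (d.val % 64) = 0 := by
  rw [hQ.mul, hQ.mul, hQ.inj.eq_iff, cf_iff]

theorem mem_KK (hb : b ∈ nor (QQ j v x)) (tr : Tr (QQ j v x) (j z) (b * b)) :
    ∃ k ∈ KK, Ac j v x b k := by
  obtain ⟨k, h1, h2⟩ := exAc hQ hb
  have two : ∀ m n : ℕ, (m % 2 = 0 ↔ n % 2 = 0) → m % 2 = n % 2 := fun m n => by omega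
  have im : ∀ i < 6, ∃ d, b * qq j v x (bs i) * b⁻¹ = qq j v x d ∧ d.val % 64 = dg k i := fun i hi => by
    have := h1 (bs i)
    rwa [bs_mod i hi, ap_two k i hi] at this
  have cj : ∀ u w, b * u * b⁻¹ * (b * w * b⁻¹) = b * w * b⁻¹ * (b * u * b⁻¹) ↔ u * w = w * u :=
    fun u w => by rw [conj_mul, conj_mul, mul_left_inj, mul_right_inj]
  refine ⟨k, h2 ▸ enum (dg k) (dg_lt k) (fun i hi => ?_) (fun i hi l hl => ?_) fun i hi l hl => ?_, h1⟩
  · obtain ⟨d, m, m'⟩ := im i hi
    refine two _ _ (show sf _ = 0 ↔ sf _ = 0 from ?_)
    rw [← m', ← bs_mod i hi, ← sq_iff hQ, ← sq_iff hQ, ← m, conj_mul, conj_eq_one_iff]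
  · obtain ⟨d, m, m'⟩ := im i hi
    obtain ⟨d', o, o'⟩ := im l hl
    refine two _ _ (show cf _ _ = 0 ↔ cf _ _ = 0 from ?_)
    rw [← m', ← o', ← bs_mod i hi, ← bs_mod l hl, ← cm_iff hQ, ← cm_iff hQ, ← m, ← o, cj]
  · obtain ⟨d, m, m'⟩ := im i hi
    obtain ⟨d', o, o'⟩ := im l hl
    refine two _ _ (show cf _ _ = 0 ↔ cf _ _ = 0 from ?_)
    rw [← m', ← o', ← bs_mod i hi, ← bs_mod l hl, ← cm_iff hQ, ← cm_iff hQ, ← m, ← cj, o,
      show b * (b * qq j v x (bs i) * b⁻¹) * b⁻¹ = b * b * qq j v x (bs i) * (b * b)⁻¹ by group]
    rcases tr _ (qm_mem hQ (bs i)) with w | w <;> rw [w]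
    rw [mul_assoc, ← Qz hQ (qm_mem hQ d'), ← mul_assoc, ← mul_assoc, mul_left_inj]

theorem gens : ∀ i < 6, ∃ n ∈ nor (QQ j v x), Ac j v x n (gk i) := fun i hi => by
  have m : ∀ u ∈ [j y, j a, j h, up j v, up j x], u ∈ nor (QQ j v x) := fun u hu =>
    hQ.n1 (mem_sup_left (subset_closure hu))
  interval_cases i
  exacts [⟨_, m _ (by simp), .of hQ.ay⟩, ⟨_, m _ (by simp), .of hQ.aa⟩, ⟨_, m _ (by simp), .of hQ.ah⟩,
    ⟨_, hQ.en, .of hQ.ae⟩, ⟨_, m _ (by simp), .of hQ.av⟩, ⟨_, m _ (by simp), .of hQ.ax⟩]

theorem step {i : ℕ} (hi : i < 6) (hn : n ∈ nor (QQ j v x)) (h1 : Ac j v x n (gk i))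
    (hb : b ∈ nor (QQ j v x)) (h2 : Ac j v x b k) : Ac j v x (n * b * n⁻¹) (st i k) := by
  obtain ⟨k', h3, h4⟩ := exAc hQ (mul_mem (mul_mem hn hb) (inv_mem hn))
  have : ∀ l < 6, dg k' l = ap (gk i) (ap k (dg (gi i) l)) := fun l hl => by
    obtain ⟨d, m, m'⟩ := h1 (cd (dg (gi i) l))
    obtain ⟨d1, o, o'⟩ := h2 (cd (dg (gi i) l))
    obtain ⟨d2, w, w'⟩ := h1 d1
    rw [cd_mod _ (dg_lt _ _)] at m' o'
    rw [(by decide +kernel : ∀ i < 6, ∀ l < 6, ap (gk i) (dg (gi i) l) = 2 ^ l) i hi l hl] at m'
    rw [← ap_two k' l hl, ← m', ← o', ← w']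
    exact (h3.uniq hQ (by rw [← m, ← w, ← o]; group)).symm
  rwa [h4, pack, this 0 (by decide), this 1 (by decide), this 2 (by decide), this 3 (by decide),
    this 4 (by decide), this 5 (by decide)] at h3

theorem cls (hb : b ∈ nor (QQ j v x)) (tr : Tr (QQ j v x) (j z) (b * b)) : ∃ n ∈ nor (QQ j v x),
    ∃ b₀ ∈ [1, e, j a, e * j a, up j x], Tr (QQ j v x) (j z) (b₀⁻¹ * (n * b * n⁻¹)) := by
  let P : ℕ → Prop := fun k => ∀ b ∈ nor (QQ j v x), Ac j v x b k → ∃ n ∈ nor (QQ j v x),
    ∃ b₀ ∈ [1, e, j a, e * j a, up j x], Tr (QQ j v x) (j z) (b₀⁻¹ * (n * b * n⁻¹))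
  have aN : j a ∈ nor (QQ j v x) := hQ.n1 (mem_sup_left (subset_closure (by simp)))
  have base : ∀ b₀ ∈ [1, e, j a, e * j a, up j x], ∀ k, b₀ ∈ nor (QQ j v x) → Ac j v x b₀ k → P k :=
    fun b₀ h0 k h1 h2 b _ h3 => ⟨1, one_mem _, b₀, h0, by simpa using tr_of hQ h1 h2 h3⟩
  have r : ∀ k ∈ reps, P k := by
    simp only [reps, List.forall_mem_cons, List.not_mem_nil, false_imp_iff, implies_true, and_true]
    exact ⟨base 1 (by simp) _ (one_mem _) (.of (f := id) fun c => by simp),
      base e (by simp) _ hQ.en (.of hQ.ae), base _ (by simp) _ aN (.of hQ.aa),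
      base _ (by simp) _ (mul_mem hQ.en aN) (.of (f := lin 1 2 4 8 48 96 ∘ lin 1 11 69 72 16 32) fun c => by
        rw [Function.comp, ← hQ.ae, ← hQ.aa]; group),
      base _ (by simp) _ (hQ.n1 (mem_sup_left (subset_closure (by simp)))) (.of hQ.ax)⟩
  obtain ⟨k, h1, h2⟩ := mem_KK hQ hb tr
  rcases List.mem_append.1 h1 with h1 | h1
  · exact r k h1 b hb h2
  · obtain ⟨c, hc, rfl⟩ := List.mem_map.1 h1
    refine chk_sound (P := P) (fun i hi k hk b hb h2 => ?_) _ _ chk_chain r c hc b hb h2
    obtain ⟨n, hn, h3⟩ := gens hQ i hi
    obtain ⟨m, hm, b₀, h4, h5⟩ := hk _ (mul_mem (mul_mem hn hb) (inv_mem hn)) (step hQ hi hn h3 hb h2)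
    exact ⟨m * n, mul_mem hm hn, b₀, h4, by simpa [mul_assoc] using h5⟩

/-- The invariant description of the Siegel involutions. -/
structure Si (Q : Subgroup G) (ζ b : G) : Prop where
  sq : Tr Q ζ (b * b)
  ne : ¬ Tr Q ζ b
  sing : ∀ u ∈ Q, b * u * b⁻¹ * u * (b * u * b⁻¹ * u) = 1

theorem Tr.cj (hn : n ∈ nor (QQ j v x)) (h1 : Tr (QQ j v x) (j z) b) :
    Tr (QQ j v x) (j z) (n * b * n⁻¹) := fun u hu => by
  have e : n * b * n⁻¹ * u * (n * b * n⁻¹)⁻¹ = n * (b * (n⁻¹ * u * n) * b⁻¹) * n⁻¹ := by group
  exact (h1 _ ((mem_normalizer_iff''.1 hn u).1 hu)).imp (fun k => by rw [e, k]; group) fun k => by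
    rw [e, k, ← conj_mul, fixz (nz hQ hn)]; group

theorem Si.cj (hn : n ∈ nor (QQ j v x)) (h1 : Si (QQ j v x) (j z) b) :
    Si (QQ j v x) (j z) (n * b * n⁻¹) :=
  ⟨by rw [conj_mul]; exact Tr.cj hQ hn h1.sq,
    fun k => h1.ne (by simpa [mul_assoc] using Tr.cj hQ (inv_mem hn) k), fun u hu => by
      have := congrArg (fun w => n * w * n⁻¹) (h1.sing _ ((mem_normalizer_iff''.1 hn u).1 hu))
      simpa [mul_assoc] using this⟩

theorem ac_x (tr : Tr (QQ j v x) (j z) ((up j x)⁻¹ * b)) : Ac j v x b 35704030337 := fun c => by
  have xN : up j x ∈ nor (QQ j v x) := hQ.n1 (mem_sup_left (subset_closure (by simp)))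
  obtain ⟨d, m, m'⟩ := (Ac.of (k := 35704030337) hQ.ax) c
  have e : b * qq j v x c * b⁻¹ = up j x * ((up j x)⁻¹ * b * qq j v x c * ((up j x)⁻¹ * b)⁻¹) *
    (up j x)⁻¹ := by group
  rcases tr _ (qm_mem hQ c) with l | l
  · exact ⟨d, by rw [e, l, m], m'⟩
  · exact ⟨qm d 64, by rw [e, l, ← conj_mul, m, fixz (nz hQ xN), qz hQ], by rw [qm_mod]; simpa using m'⟩

theorem tr_iff {f : ℕ → ℕ} (k : ∀ c, ∃ d, b * qq j v x c * b⁻¹ = qq j v x d ∧ d.val % 64 = f (c.val % 64)) :
    Tr (QQ j v x) (j z) b ↔ ∀ c < 64, f c = c := by
  refine ⟨fun tr c hc => ?_, fun l u hu => ?_⟩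
  · obtain ⟨d, m, m'⟩ := k (cd c)
    rw [cd_mod c hc] at m'
    rcases tr _ (qm_mem hQ (cd c)) with w | w
    · rw [← m', hQ.inj (m.symm.trans w), cd_mod c hc]
    · rw [← m', hQ.inj (m.symm.trans (w.trans (qz hQ _))), qm_mod, cd_mod c hc]; simp
  · obtain ⟨c, rfl⟩ := (hQ.mem u).1 hu
    obtain ⟨d, m, m'⟩ := k c
    rw [l _ (Nat.mod_lt _ (by decide))] at m'
    exact (modz d c m').imp (fun w => by rw [m, w]) fun w => by rw [m, w, qz hQ]

theorem sing_iff {f : ℕ → ℕ}
    (k : ∀ c, ∃ d, b * qq j v x c * b⁻¹ = qq j v x d ∧ d.val % 64 = f (c.val % 64)) :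
    (∀ u ∈ QQ j v x, b * u * b⁻¹ * u * (b * u * b⁻¹ * u) = 1) ↔ ∀ c < 64, sf (f c ^^^ c) = 0 := by
  refine ⟨fun tr c hc => ?_, fun l u hu => ?_⟩
  · obtain ⟨d, m, m'⟩ := k (cd c)
    have := tr _ (qm_mem hQ (cd c))
    rwa [m, hQ.mul, sq_iff hQ, qm_mod, m', cd_mod c hc] at this
  · obtain ⟨c, rfl⟩ := (hQ.mem u).1 hu
    obtain ⟨d, m, m'⟩ := k c
    rw [m, hQ.mul, sq_iff hQ, qm_mod, m']
    exact l _ (Nat.mod_lt _ (by decide))

omit hQ in
theorem Ac.mul {k' : ℕ} (h1 : Ac j v x b k) (h2 : Ac j v x b' k') (c : Fin 128) :
    ∃ d, b * b' * qq j v x c * (b * b')⁻¹ = qq j v x d ∧ d.val % 64 = ap k (ap k' (c.val % 64)) := by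
  obtain ⟨d, m, m'⟩ := h2 c
  obtain ⟨d', o, o'⟩ := h1 d
  exact ⟨d', by rw [← o, ← m]; group, m' ▸ o'⟩

theorem si_of (k : Sg j v x b) : Si (QQ j v x) (j z) b := by
  obtain ⟨n, hn, tr⟩ := k
  have ac := ac_x hQ tr
  have : Si (QQ j v x) (j z) (n * b * n⁻¹) :=
    ⟨(tr_iff hQ (f := fun c => ap _ (ap _ c)) (ac.mul ac)).2 (by decide +kernel),
      fun k => absurd ((tr_iff hQ ac).1 k) (by decide +kernel), (sing_iff hQ ac).2 (by decide +kernel)⟩
  simpa [mul_assoc] using this.cj hQ (inv_mem hn)

theorem rk1 (hb : b' ∈ nor (QQ j v x)) (h1 : Sg j v x b) (h2 : Sg j v x b') : ¬ Sg j v x (b * b') :=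
  fun h3 => by
  obtain ⟨n, hn, tr⟩ := h1
  have s2 := (si_of hQ h2).cj hQ hn
  have s3 := (si_of hQ h3).cj hQ hn
  rw [← conj_mul] at s3
  obtain ⟨k, hk, ac⟩ := mem_KK hQ (mul_mem (mul_mem hn hb) (inv_mem hn)) s2.sq
  have ac' := (ac_x hQ tr).mul ac
  have := List.all_eq_true.1 rk_list k hk
  simp only [Bool.or_eq_true, beq_iff_eq, List.any_eq_true, List.all_eq_true, List.mem_range] at this
  rcases this with ((rfl | ⟨c, hc, m⟩) | ⟨c, hc, m⟩) | m
  · exact s2.ne ((tr_iff hQ ac).2 (by decide +kernel))
  · exact absurd (((sing_iff hQ ac).1 s2.sing c hc).symm.trans m) (by decide)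
  · exact absurd (((sing_iff hQ (f := fun c => ap _ (ap k c)) ac').1 s3.sing c hc).symm.trans m) (by decide)
  · exact s3.ne ((tr_iff hQ (f := fun c => ap _ (ap k c)) ac').2 m)

omit hQ in
theorem jobQ3 : JobQ3.{u} := fun _ _ _ _ _ _ _ _ _ _ hQ =>
  ⟨fun _ hb => cls hQ hb, fun _ _ _ hb => rk1 hQ hb⟩

end H36.JS.Q3
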