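import Cfsg.Agent.H8.JSKit
import Cfsg.Agent.H21.TEGold
import Cfsg.Agent.H14.Std

/-! Tower JS, job SC: `Q` is strongly closed, so it is normal in `C(z)`. -/

set_option autoImplicit false
set_option linter.unusedSectionVars false
set_option maxRecDepth 100000

namespace H36.JS

open Cfsg Subgroup H98 H1.Gold H8.JS
open H4.M2 (X g y p q r s t z a h)

universe u

variable {G : Type u} [Group G] [Finite G] {j : X →* G} {e v x b c n w ζ : G} {O T I K : Subgroup G}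

local instance : Fact (Nat.Prime 2) := ⟨Nat.prime_two⟩

theorem card_le_mul {N : Type*} [Finite N] (f : T → N) (k : ∀ a b, f a = f b → a.1⁻¹ * b.1 ∈ K) :
    Nat.card T ≤ Nat.card K * Nat.card N := by
  rw [← Nat.card_prod]
  have l : ∀ a, f (Function.invFun f (f a)) = f a := fun a => Function.invFun_eq ⟨a, rfl⟩
  refine Nat.card_le_card_of_injective (fun a => ((⟨_, k _ a (l a)⟩ : K), f a)) fun a b e => ?_
  have e1 : (Function.invFun f (f a)).1⁻¹ * a.1 = (Function.invFun f (f b)).1⁻¹ * b.1 :=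
    congrArg (fun z => z.1.1) e
  rw [show f a = f b from congrArg Prod.snd e] at e1
  exact Subtype.ext (mul_left_cancel e1)

theorem mc : b ∈ cen1 ζ ↔ b * ζ = ζ * b := mem_centralizer_singleton_iff

theorem fixz (k : b * ζ = ζ * b) : b * ζ * b⁻¹ = ζ := by rw [k, mul_inv_cancel_right]

theorem cinv (k : b * ζ = ζ * b) : b⁻¹ * ζ = ζ * b⁻¹ := mc.1 (inv_mem (mc.2 k))

theorem cmul (k : b * ζ = ζ * b) (k' : c * ζ = ζ * c) : b * c * ζ = ζ * (b * c) :=
  mc.1 (mul_mem (mc.2 k) (mc.2 k'))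

/-- The elements of `C(ζ)` that fix `w` modulo `ζ`. -/
def Cm (zz : ζ * ζ = 1) (w : G) : Subgroup G where
  carrier := {c | c * ζ = ζ * c ∧ (c * w * c⁻¹ = w ∨ c * w * c⁻¹ = w * ζ)}
  mul_mem' {a b} ha hb := ⟨cmul ha.1 hb.1, by
    rw [show a * b * w * (a * b)⁻¹ = a * (b * w * b⁻¹) * a⁻¹ by group]
    rcases hb.2 with k | k <;> rw [k]
    · exact ha.2
    · rw [← conj_mul, fixz ha.1]
      exact ha.2.symm.imp (fun l => by rw [l, mul_assoc, zz, mul_one]) fun l => by rw [l]⟩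
  one_mem' := ⟨by simp, Or.inl (by simp)⟩
  inv_mem' {a} ha := ⟨cinv ha.1, ha.2.imp (fun k => by
    calc a⁻¹ * w * a⁻¹⁻¹ = a⁻¹ * (a * w * a⁻¹) * a := by rw [k, inv_inv]
      _ = w := by group) fun k => by
    calc a⁻¹ * w * a⁻¹⁻¹ = a⁻¹ * (w * ζ * ζ) * a := by rw [mul_assoc w, zz, mul_one, inv_inv]
      _ = w * (a⁻¹ * ζ * a⁻¹⁻¹) := by rw [← k]; group
      _ = _ := by rw [fixz (cinv ha.1)]⟩

theorem Cm_symm (zz : ζ * ζ = 1) (hw : w * ζ = ζ * w) (k : c ∈ Cm zz w) : w ∈ Cm zz c :=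
  ⟨hw, k.2.imp (fun l => by rw [← mul_inv_eq_iff_eq_mul.1 l, mul_inv_cancel_right]) fun l => by
    calc w * c * w⁻¹ = w * ζ * c * (w⁻¹ * ζ) := by
          rw [cinv hw, mul_assoc w ζ, ← k.1, mul_assoc, mul_assoc, mul_assoc, ← mul_assoc ζ, zz, one_mul]
      _ = _ := by rw [← l]; group⟩

theorem Cm_cj (zz : ζ * ζ = 1) (hb : b * ζ = ζ * b) (k : c ∈ Cm zz w) :
    b * c * b⁻¹ ∈ Cm zz (b * w * b⁻¹) := by
  have e : b * c * b⁻¹ * (b * w * b⁻¹) * (b * c * b⁻¹)⁻¹ = b * (c * w * c⁻¹) * b⁻¹ := by group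
  exact ⟨cmul (cmul hb k.1) (cinv hb), k.2.imp (fun l => by rw [e, l])
    fun l => by rw [e, l, ← conj_mul, fixz hb]⟩

theorem q0 : qq j v x 0 = 1 := by simp [qq, bt]
theorem q1 : qq j v x 1 = j p := by simp [qq, bt]
theorem q32 : qq j v x 32 = v := by simp [qq, show ∀ i, bt 32 i = 32 >>> i % 2 from fun _ => rfl]
theorem q64 : qq j v x 64 = j z := by simp [qq, show ∀ i, bt 64 i = 64 >>> i % 2 from fun _ => rfl]

/-- A `C(z)`-conjugate of an element of `Q`. -/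
def Cq (j : X →* G) (v x w : G) : Prop := ∃ b, b * j z = j z * b ∧ ∃ u ∈ QQ j v x, w = b * u * b⁻¹

theorem Cq.cj (k : Cq j v x w) (hc : c * j z = j z * c) : Cq j v x (c * w * c⁻¹) := by
  obtain ⟨b, hb, u, hu, rfl⟩ := k
  exact ⟨c * b, cmul hc hb, u, hu, by group⟩

theorem Cq.of (hc : c * j z = j z * c) (hw : w ∈ H98.cj c (QQ j v x)) : Cq j v x w :=
  ⟨c, hc, _, mem_cj.1 hw, by group⟩

section

variable (hQ : QD j e v x)
include hQ

theorem zz : j z * j z = 1 := hQ.xs.z_sq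

theorem qm_mem (c : Fin 128) : qq j v x c ∈ QQ j v x := (hQ.mem _).2 ⟨c, rfl⟩

theorem nz (hn : n ∈ nor (QQ j v x)) : n * j z = j z * n := (hQ.all n hn).1

theorem Qz (hw : w ∈ QQ j v x) : w * j z = j z * w := nz hQ (le_normalizer hw)

theorem qz (c : Fin 128) : qq j v x c * j z = qq j v x (qm c 64) := by rw [← q64, hQ.mul]

theorem qne {c d : Fin 128} (k : c ≠ d := by decide) : qq j v x c ≠ qq j v x d := fun l => k (hQ.inj l)

theorem Cq.z (k : Cq j v x w) : w * j z = j z * w := by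
  obtain ⟨b, hb, u, hu, rfl⟩ := k
  exact cmul (cmul hb (Qz hQ hu)) (cinv hb)

theorem zR (hc : c * j z = j z * c) : j z ∈ H98.cj c (QQ j v x) := by
  have := conj_mem_cj (g := c) hQ.xs.z_mem
  rwa [fixz hc] at this

theorem cmR (hc : c * j z = j z * c) (hb : b ∈ H98.cj c (QQ j v x)) (hw : w ∈ H98.cj c (QQ j v x)) :
    b ∈ Cm (zz hQ) w := by
  have := Cm_cj (zz hQ) hc (c := c⁻¹ * b * c) (w := c⁻¹ * w * c)
    ⟨Qz hQ (mem_cj.1 hb), hQ.xs.conj_eq_or (mem_cj.1 hw) (mem_cj.1 hb)⟩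
  simpa [mul_assoc] using this

variable (hU : UD j e v x)
include hU

theorem leN (hT : IsPGroup 2 T) (TC : ∀ t ∈ T, t * j z = j z * t) (hb : b * j z = j z * b)
    (he : b * e * b⁻¹ ∈ T) : T ≤ nor (H98.cj b (QQ j v x)) := by
  by_contra n
  obtain ⟨d, hd, nd⟩ := SetLike.exists_of_lt (lt_inf_normalizer hT
    (lt_of_le_of_ne inf_le_left fun e : T ⊓ nor (H98.cj b (QQ j v x)) = T => n (inf_eq_left.1 e)))
  have m : ∀ {y}, y ∈ nor (H98.cj b (QQ j v x)) ↔ b⁻¹ * y * b ∈ nor (QQ j v x) := by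
    intro y; rw [nor, ← cj_normalizer, mem_cj]
  have := (conj_mem_of_mem_normalizer hd.2 (⟨he, m.2 (by simpa [mul_assoc] using hQ.en)⟩ :
    b * e * b⁻¹ ∈ T ⊓ nor (H98.cj b (QQ j v x)))).2
  exact nd ⟨hd.1, m.2 (hU.uf _ (cmul (cmul (cinv hb) (TC d hd.1)) hb) (by
    simpa [mul_assoc] using m.1 this))⟩

variable (hS : St j e O) (hT : TD j v x)
include hS hT

theorem rep (hw : w ∈ QQ j v x) : ∃ n ∈ nor (QQ j v x), e ∈ Cm (zz hQ) (n * w * n⁻¹) := by
  have k : ∀ u, e ∈ Cm (zz hQ) (j u) := fun u => ⟨hS.ec z, Or.inl (fixz (hS.ec u))⟩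
  by_cases h2 : w * w = 1
  · by_cases h1 : w = 1
    · exact ⟨1, one_mem _, by simpa [h1] using k 1⟩
    by_cases hz : w = j z
    · exact ⟨1, one_mem _, by simpa [hz] using k z⟩
    obtain ⟨n, hn, l⟩ := hT.tr1 w hw h2 h1 hz
    exact ⟨n, hQ.n1 hn, l ▸ k p⟩
  · obtain ⟨n, hn, l⟩ := hT.trU w hw h2
    refine ⟨n, hQ.n1 hn, hS.ec z, Or.inr ?_⟩
    have := (hQ.ae 32).trans (qz hQ 32).symm
    rwa [q32, ← l] at this

theorem key (k : Cq j v x w) (hI : IsPGroup 2 I) (l : I ≤ Cm (zz hQ) w) :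
    ∃ c, c * j z = j z * c ∧ w ∈ H98.cj c (QQ j v x) ∧ I ≤ nor (H98.cj c (QQ j v x)) := by
  obtain ⟨b, hb, u, hu, rfl⟩ := k
  obtain ⟨n, hn, k⟩ := rep hQ hU hS hT hu
  have hb' := cmul hb (cinv (nz hQ hn))
  have k' := Cm_cj (zz hQ) hb' k
  have m : b * u * b⁻¹ ∈ H98.cj (b * n⁻¹) (QQ j v x) := mem_cj.2 (by
    simpa [mul_assoc] using conj_mem_of_mem_normalizer hn hu)
  rw [show b * n⁻¹ * (n * u * n⁻¹) * (b * n⁻¹)⁻¹ = b * u * b⁻¹ by group] at k'
  generalize b * n⁻¹ = d at hb' k' m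
  generalize b * u * b⁻¹ = w at l k' m
  obtain ⟨T, h1, h2⟩ := exists_isSyl_le (isPGroup_zpowers (x := d * e * d⁻¹) (p := 2) (k := 1) (by
    rw [pow_one, pow_two, conj_mul, hS.e2]; group)) (zpowers_le.2 k')
  obtain ⟨c, h3, h4⟩ := h1.exists_cj_le hI l
  have h5 := h4.trans (leN hQ hU h1.isPGroup (fun t ht => (h1.le ht).1) hb' (h2 (mem_zpowers _)))
  refine ⟨c⁻¹ * d, cmul (cinv h3.1) hb', ?_, ?_⟩
  · rw [← cj_cj, mem_cj, inv_inv]
    rcases h3.2 with l | l <;> rw [l]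
    exacts [m, mul_mem m (zR hQ hb')]
  · rw [← cj_cj, nor, ← cj_normalizer]
    exact fun y hy => mem_cj.2 (by rw [inv_inv]; exact h5 (conj_mem_cj hy))

theorem dich (k : Cq j v x w) (hw : w ∈ nor (QQ j v x)) : w ∈ QQ j v x ∨ Sg j v x w := by
  rcases hU.cl2 w hw (by
    obtain ⟨b, hb, u, hu, rfl⟩ := k
    rw [conj_mul]
    exact (hQ.xs.sq u hu).imp (fun l => by rw [l]; group) fun l => by rw [l, fixz hb]) with
    l | l | ⟨n, hn, l⟩
  exacts [Or.inl l, Or.inr l, Or.inl (by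
    obtain ⟨c, h1, h2, h3⟩ := key hQ hU hS hT (k.cj (nz hQ hn)) (isPGroup_zpowers (x := e) (p := 2)
      (k := 1) (by rw [pow_one, pow_two, hS.e2])) (zpowers_le.2 ⟨hS.ec z, by rwa [hS.einv]⟩)
    have h4 := h3 (mem_zpowers e)
    rw [nor, ← cj_normalizer, mem_cj] at h4
    rw [cj_eq_self (inv_mem_iff.1 (hU.uf c⁻¹ (cinv h1) (by simpa using h4)))] at h2
    exact (mem_normalizer_iff.1 hn w).2 h2)]

variable (hL : LD j e v x)
include hL

theorem idx (k : ∀ w ∈ I, Cq j v x w) (hc : c * j z = j z * c) (l : I ≤ nor (H98.cj c (QQ j v x)))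
    (hb : b ∈ I) (hw : w ∈ I) : b ∈ H98.cj c (QQ j v x) ∨ w ∈ H98.cj c (QQ j v x) ∨
      b * w ∈ H98.cj c (QQ j v x) := by
  rw [nor, ← cj_normalizer] at l
  have d : ∀ w ∈ I, w ∈ H98.cj c (QQ j v x) ∨ Sg j v x (c⁻¹ * w * c) := fun w hw =>
    (dich hQ hU hS hT (by simpa using (k w hw).cj (cinv hc)) (mem_cj.1 (l hw))).imp_left mem_cj.2
  refine (d b hb).imp_right fun h1 => (d w hw).imp_right fun h2 => (d _ (mul_mem hb hw)).resolve_right
    fun h3 => hL.rk1 _ (mem_cj.1 (l hb)) _ (mem_cj.1 (l hw)) h1 h2 (by simpa [mul_assoc] using h3)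

theorem noS (hD : SD j e O v x) (hZ : H8.JS.ZD j v x) (k : Cq j v x w)
    (tr : Tr (QQ j v x) (j z) ((up j x)⁻¹ * w)) : False := by
  have xN : up j x ∈ nor (QQ j v x) := hQ.n1 (mem_sup_left (subset_closure (by simp)))
  have wz := k.z hQ
  have act : ∀ c, w * qq j v x c * w⁻¹ = qq j v x (lin 1 18 4 8 16 97 c) ∨
      w * qq j v x c * w⁻¹ = qq j v x (qm (lin 1 18 4 8 16 97 c) 64) := fun c => by
    have e : w * qq j v x c * w⁻¹ = up j x * ((up j x)⁻¹ * w * qq j v x c * ((up j x)⁻¹ * w)⁻¹) *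
      (up j x)⁻¹ := by group
    exact (tr _ (qm_mem hQ c)).imp (fun l => by rw [e, l, hQ.ax])
      fun l => by rw [e, l, ← conj_mul, hQ.ax, fixz (nz hQ xN), qz hQ]
  have mI : ∀ c, lin 1 18 4 8 16 97 c = c → qq j v x c ∈ QQ j v x ⊓ Cm (zz hQ) w := fun c hc =>
    ⟨qm_mem hQ c, Cm_symm (zz hQ) (Qz hQ (qm_mem hQ c)) ⟨wz, by simpa only [hc, ← qz hQ] using act c⟩⟩
  obtain ⟨c, hc, wR, l⟩ := key hQ hU hS hT k (hQ.xs.isPGroup.to_le (inf_le_left (b := Cm (zz hQ) w)))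
    inf_le_right
  have id := fun b d hb hd => idx hQ hU hS hT hL (b := qq j v x b) (w := qq j v x d)
    (I := QQ j v x ⊓ Cm (zz hQ) w)
    (fun w hw => ⟨1, by simp, w, hw.1, by simp⟩) hc l (mI b hb) (mI d hd)
  obtain ⟨c0, h0, m0⟩ : ∃ c0 ∈ [1, 16, 17], qq j v x c0 ∈ H98.cj c (QQ j v x) := by
    rcases id 1 16 (by decide) (by decide) with m | m | m
    exacts [⟨_, by simp, m⟩, ⟨_, by simp, m⟩, ⟨17, by simp, by rwa [hQ.mul] at m⟩]
  obtain ⟨c1, h1, m1⟩ : ∃ c1 ∈ [4, 8, 12], qq j v x c1 ∈ H98.cj c (QQ j v x) := by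
    rcases id 4 8 (by decide) (by decide) with m | m | m
    exacts [⟨_, by simp, m⟩, ⟨_, by simp, m⟩, ⟨12, by simp, by rwa [hQ.mul] at m⟩]
  obtain ⟨a1, a2, a3, a4, a5⟩ := (by decide : ∀ c0 ∈ [(1 : Fin 128), 16, 17], ∀ c1 ∈ [(4 : Fin 128), 8, 12],
    qm c0 c0 = 0 ∧ c0 ≠ 0 ∧ c0 ≠ 64 ∧ qm c1 c1 ≠ 0 ∧ qm c0 c1 = qm c1 c0) c0 h0 c1 h1
  obtain ⟨n, hn, n1, n2⟩ := hT.tr2 _ (qm_mem hQ c0) _ (qm_mem hQ c1) (by rw [hQ.mul, a1, q0])
    (q0 (j := j) (v := v) (x := x) ▸ qne hQ a2) (q64 (j := j) (v := v) (x := x) ▸ qne hQ a3)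
    (by rw [hQ.mul, ← q0 (j := j) (v := v) (x := x)]; exact qne hQ a4) (by rw [hQ.mul, hQ.mul, a5])
  replace hn := hQ.n1 hn
  have vz : v * j z = v⁻¹ := by rw [eq_inv_iff_mul_eq_one, mul_assoc, ← hD.v2, mul_assoc, ← mul_assoc v,
    hD.v2, ← hD.v2, hD.v2, zz hQ]
  have RN : H98.cj c (QQ j v x) ≤ nor (QQ j v x) := fun r hr => by
    have b0 := Cm_cj (zz hQ) (nz hQ hn) (cmR hQ hc hr m0)
    have b1 := Cm_cj (zz hQ) (nz hQ hn) (cmR hQ hc hr m1)
    rw [n1] at b0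
    have := hZ _ b0.1 b0.2 (by
      rcases n2 with n2 | n2 <;> rw [n2] at b1
      · exact vz ▸ b1.2
      · exact b1.2.imp (fun l => by rw [← inv_inj, conj_inv, l]) fun l => by
          rw [← inv_inj, conj_inv, l, inv_inv, ← vz, mul_assoc, zz hQ, mul_one])
    simpa [mul_assoc] using mul_mem (mul_mem (inv_mem hn) this) hn
  have c1 := card_le_mul (T := H98.cj c (QQ j v x)) (K := H98.cj c (QQ j v x) ⊓ QQ j v x)
    (fun r => r.1 ∈ QQ j v x) fun a b e => mem_inf.2 ⟨mul_mem (inv_mem a.2) b.2, by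
      by_cases k : a.1 ∈ QQ j v x
      · exact mul_mem (inv_mem k) (e ▸ k)
      · have := idx hQ hU hS hT hL (c := 1) (fun w hw => Cq.of hc hw) (by simp) (by rwa [H98.cj_one])
          (inv_mem a.2) b.2
        rw [H98.cj_one] at this
        exact (this.resolve_left fun m => k (inv_mem_iff.1 m)).resolve_left (e ▸ k)⟩
  have c2 : Nat.card (H98.cj c (QQ j v x) ⊓ QQ j v x : Subgroup G) ≤ 32 := by
    have : ((H98.cj c (QQ j v x) ⊓ QQ j v x : Subgroup G) : Set G) ⊆ qq j v x ''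
        (Finset.univ.filter fun d : Fin 128 => lin 1 18 4 8 16 97 d = d ∨
          lin 1 18 4 8 16 97 d = qm d 64 : Finset (Fin 128)) := fun r hr => by
      obtain ⟨d, rfl⟩ := (hQ.mem r).1 hr.2
      refine ⟨d, by
        simp only [Finset.coe_filter, Finset.mem_univ, true_and, Set.mem_ofPred_eq]
        have k64 : ∀ d, qm (qm d 64) 64 = d := by decide +kernel
        rcases (cmR hQ hc wR hr.1).2 with l | l <;> rcases act d with m | m <;> rw [m] at l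
        · exact Or.inl (hQ.inj l)
        · exact Or.inr ((k64 _).symm.trans (congrArg (qm · 64) (hQ.inj l)))
        · exact Or.inr (hQ.inj (l.trans (qz hQ d)))
        · exact Or.inl ((k64 _).symm.trans ((congrArg (qm · 64) (hQ.inj (l.trans (qz hQ d)))).trans
            (k64 d))), rfl⟩
    have := (Set.ncard_le_ncard this).trans (Set.ncard_image_le)
    rw [Set.ncard_coe_finset] at this
    exact this.trans (by decide +kernel)
  rw [card_cj, hQ.card, show Nat.card Prop = 2 by simp] at c1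
  omega

omit hL in
theorem hO (hD : SD j e O v x) (hC : CD j e v x) {Y : Subgroup G} (l : Y ≤ cen1 (j z))
    (odd : Odd (Nat.card Y)) (nY : cen1 (j z) ≤ nor Y) : Y ≤ cen (QQ j v x) := by
  have NY : nor (QQ j v x) ≤ nor Y := fun n hn => nY (mc.2 (nz hQ hn))
  have pQ : j p ∈ QQ j v x := q1 (j := j) (v := v) (x := x) ▸ qm_mem hQ 1
  have k0 : ∀ o ∈ Y, o ∈ nor (QQ j v x) → o ∈ cen1 (j p) := fun o ho hn => mc.2 (by
    have m1 : o * j p * o⁻¹ * (j p)⁻¹ ∈ QQ j v x := mul_mem (conj_mem_of_mem_normalizer hn pQ) (inv_mem pQ)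
    have m2 : o * j p * o⁻¹ * (j p)⁻¹ ∈ Y := by
      rw [mul_assoc, mul_assoc, ← mul_assoc (j p)]
      exact mul_mem ho (conj_mem_of_mem_normalizer (NY (le_normalizer pQ)) (inv_mem ho))
    obtain ⟨k, hk⟩ := isPGroup_iff_forall.1 hQ.xs.isPGroup _ m1
    have := orderOf_eq_one_iff.1 (Nat.eq_one_of_dvd_coprimes ((Nat.coprime_two_right.2 odd).pow_right k)
      (orderOf_dvd_natCard _ m2) (orderOf_dvd_of_pow_eq_one hk))
    rwa [mul_inv_eq_one, mul_inv_eq_iff_eq_mul] at this)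
  have vN : up j v ∈ nor (QQ j v x) := hQ.n1 (mem_sup_left (subset_closure (by simp)))
  have ve : up j v * e * (up j v)⁻¹ = e * j p := by
    have ge : j g * e * (j g)⁻¹ = e := by rw [← hS.ec, mul_inv_cancel_right]
    conv_lhs => rw [← ge]
    rw [up, conj_mul, conj_inv, conj_mul, hD.ve, ← conj_mul, ge, ← map_inv, ← map_mul, ← map_mul,
      show g * z * g⁻¹ = p by decide +kernel]
  have pp : j p * j p = 1 := by rw [← map_mul, show p * p = 1 by decide +kernel, map_one]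
  have p1 : j p ≠ 1 := q0 (j := j) (v := v) (x := x) ▸ q1 (j := j) (v := v) (x := x) ▸ qne hQ
  have k1 : Y ≤ cen1 (j p) := H14.le_of_four (a := e) (b := j p)
    (orderOf_eq_prime ((pow_two e).trans hS.e2) hS.e1) (orderOf_eq_prime ((pow_two _).trans pp) p1)
    (hS.ec p) (hS.ne' p).symm (Nat.coprime_two_right.2 odd) (NY hQ.en) (NY (le_normalizer pQ))
    (fun o ho => k0 o ho.1 (hC.ez o (mc.1 ho.2) (mc.1 (l ho.1)))) inf_le_right fun o ho => k0 o ho.1 (by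
      have := hC.ez ((up j v)⁻¹ * o * up j v) (by
        have := mc.1 ho.2
        rw [← ve] at this
        calc _ = (up j v)⁻¹ * (o * (up j v * e * (up j v)⁻¹)) * up j v := by group
          _ = _ := by rw [this]; group)
        (cmul (cmul (cinv (nz hQ vN)) (mc.1 (l ho.1))) (nz hQ vN))
      simpa [mul_assoc] using mul_mem (mul_mem vN this) (inv_mem vN))
  have k2 : ∀ d, qm d d = 0 → qq j v x d ∈ cen Y := fun d hd o ho => by
    by_cases h1 : qq j v x d = 1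
    · simp [h1]
    by_cases hz : qq j v x d = j z
    · rw [hz]; exact mc.1 (l ho)
    obtain ⟨n, hn, k⟩ := hT.tr1 _ (qm_mem hQ d) (by rw [hQ.mul, hd, q0]) h1 hz
    have := mc.1 (k1 (conj_mem_of_mem_normalizer (NY (hQ.n1 hn)) ho))
    rw [← k, conj_mul, conj_mul, mul_left_inj, mul_right_inj] at this
    exact this
  refine le_centralizer_iff.1 fun u hu => ?_
  obtain ⟨d, rfl⟩ := (hQ.mem u).1 hu
  rcases (by decide +kernel : ∀ d : Fin 128, qm d d = 0 ∨ ∃ c ∈ [(1 : Fin 128), 2, 16, 48, 36, 40],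
    qm c c = 0 ∧ qm (qm d c) (qm d c) = 0) d with m | ⟨c, -, m, m'⟩
  · exact k2 d m
  · exact (mul_mem_cancel_right (k2 c m)).1 (by rw [hQ.mul]; exact k2 _ m')

omit hU hS hL in
theorem noGW {B B' : Subgroup G} (k : H21.TE.GW (cen1 (j z)) (zpowers (j z)) (QQ j v x) B B') : False := by
  have BB : ∀ c ∈ B, c ∈ cen B → c = 1 ∨ c = j z := fun c hc hc' => hQ.xs.center c (k.le hc) fun u hu => by
    obtain ⟨b, hb, d, hd, rfl⟩ := k.dec u hu
    rw [← mul_assoc, ← hc' b hb, mul_assoc, k.cb hd c hc, mul_assoc]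
  have zB' : ∀ c, c = 1 ∨ c = j z → c ∈ B' := by
    rintro c (rfl | rfl)
    exacts [one_mem _, k.vb' (mem_zpowers _)]
  have sq : ∀ a ∈ B, ∀ a' ∈ B, a ∉ B' → a' ∉ B' → a * a = a' * a' := fun a ha a' ha' n n' => by
    obtain ⟨c, hc, l⟩ := k.tr a ha a' ha' n n'
    rcases BB c hc.1 (k.cb hc.2) with rfl | rfl
    · simpa using l
    · rw [l, mul_assoc, ← mul_assoc a', Qz hQ (k.le ha'), ← mul_assoc, ← mul_assoc, zz hQ, one_mul]
  obtain ⟨a, ha, -, -, na, -⟩ := k.two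
  by_cases aa : a * a = 1
  · have el : ∀ b ∈ B, b * b = 1 := fun b hb => by
      by_cases m : b ∈ B'
      · rcases BB b hb (k.cb m) with rfl | rfl
        exacts [mul_one _, zz hQ]
      · exact (sq b hb a ha m na).trans aa
    refine na (zB' a (BB a ha fun b hb => ?_))
    rw [← inv_eq_of_mul_eq_one_right (el _ (mul_mem hb ha)), mul_inv_rev,
      inv_eq_of_mul_eq_one_right aa, inv_eq_of_mul_eq_one_right (el b hb)]
  obtain ⟨n, hn, l⟩ := hT.trU a (k.le ha) aa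
  replace hn := hQ.n1 hn
  have a32 : a = n⁻¹ * qq j v x 32 * n := by rw [q32, ← l]; group
  have mul : ∀ c d, n⁻¹ * qq j v x c * n * (n⁻¹ * qq j v x d * n) = n⁻¹ * qq j v x (qm c d) * n :=
    fun c d => by rw [← hQ.mul]; group
  have inj : ∀ c d, n⁻¹ * qq j v x c * n = n⁻¹ * qq j v x d * n → c = d := fun c d l =>
    hQ.inj (mul_left_cancel (mul_right_cancel l))
  have f0 : n⁻¹ * qq j v x 0 * n = 1 := by rw [q0]; group
  have f64 : n⁻¹ * qq j v x 64 * n = j z := by rw [q64]; simpa using fixz (cinv (nz hQ hn))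
  have mB : ∀ c, qm c c ≠ 0 → qm 32 c ≠ qm c 32 → n⁻¹ * qq j v x c * n ∈ B := fun c h1 h2 => by
    obtain ⟨m, hm, l'⟩ := hT.trU _ ((mem_normalizer_iff''.1 hn _).1 (qm_mem hQ c))
      (by rw [mul, ← f0]; exact fun l => h1 (inj _ _ l))
    replace hm := mul_mem (inv_mem (hQ.n1 hm)) hn
    have m1 : n⁻¹ * qq j v x c * n ∈ H98.cj (m⁻¹ * n) B := by
      have := conj_mem_cj (g := m⁻¹ * n) ha
      rwa [show m⁻¹ * n * a * (m⁻¹ * n)⁻¹ = m⁻¹ * (n * a * n⁻¹) * m by group, l, ← l',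
        show ∀ u, m⁻¹ * (m * u * m⁻¹) * m = u from fun u => by group] at this
    rcases k.cj _ ⟨mc.2 (nz hQ hm), hm⟩ with l | l
    · exact l ▸ m1
    · have := k.cb (l m1) a ha
      rw [a32, mul, mul] at this
      exact absurd (inj _ _ this) h2
  have m := mul_mem (a32 ▸ ha) (mul_mem (mB 20 (by decide) (by decide)) (mB 24 (by decide) (by decide)))
  rw [mul, mul] at m
  refine aa ((sq a ha _ m na fun m' => ?_).trans (by rw [mul, ← f0]; rfl))
  rcases BB _ m (k.cb m') with l | l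
  exacts [absurd (inj _ _ (l.trans f0.symm)) (by decide), absurd (inj _ _ (l.trans f64.symm)) (by decide)]

end

theorem jobSC : JobSC.{u} := by
  intro G _ _ j e O v x hS hD hQ hT hC hL hU hZ
  obtain ⟨S, h1, h2⟩ := exists_isSyl_le (H := cen1 (j z)) (Q := QQ j v x ⊔ zpowers e)
    (hQ.xs.isPGroup.to_sup_of_normal_left' (isPGroup_zpowers (p := 2) (k := 1) (by
      rw [pow_one, pow_two, hS.e2])) (zpowers_le.2 hQ.en))
    (sup_le (fun w hw => mc.2 (Qz hQ hw)) (zpowers_le.2 (mc.2 (hS.ec z))))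
  have SN := leN hQ hU (b := 1) h1.isPGroup (fun t ht => mc.1 (h1.le ht)) (by simp)
    (by simpa using h2 (mem_sup_right (mem_zpowers e)))
  rw [H98.cj_one] at SN
  refine (H21.TE.goldW (V := zpowers (j z)) h1 (le_sup_left.trans h2) (zpowers_le.2 hQ.xs.z_mem)
    (le_centralizer_iff.1 (zpowers_le.2 fun b hb => mc.1 hb)) (fun u hu => ?_) (fun u hu b hb k => ?_)
    fun Y l odd nY => hO hQ hU hS hT hD hC l odd nY).resolve_right fun ⟨B, B', k⟩ => noGW hQ hT k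
  · rcases hQ.xs.sq u hu with l | l <;> rw [l]
    exacts [one_mem _, mem_zpowers _]
  · have c : Cq j v x (b * u * b⁻¹) := ⟨b, mc.1 hb, u, hu, rfl⟩
    exact (dich hQ hU hS hT c (SN k)).resolve_right fun ⟨n, hn, tr⟩ =>
      noS hQ hU hS hT hL hD hZ (c.cj (nz hQ hn)) tr

end H36.JS
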