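/- LOCAL3C, `PSp₄(q)`: the jobs `B1` and `B2`. -/
import Cfsg.Agent.H47.P4Sp
import Cfsg.Agent.H56.ST4
import Cfsg.Agent.H65.SL2Pres

set_option autoImplicit false
open Cfsg H56.L3 H47.P4C Subgroup H98 H14 H42.L3
open scoped commutatorElement

namespace H36.L3C

universe u v

section Mat
variable {F : Type*} [Field F]

theorem dM_uM (l : Fˣ) (s : F) : dM l * uM s * (dM l)⁻¹ = uM ((l : F) ^ 2 * s) := by
  rw [mul_inv_eq_iff_eq_mul]
  ext i j; simp only [Matrix.SpecialLinearGroup.coe_mul]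
  fin_cases i <;> fin_cases j <;> simp [uM, dM, Matrix.mul_apply, Fin.sum_univ_two]
  field_simp

theorem dM_neg_one : dM (-1 : Fˣ) = (-1 : SL2 F) := by
  ext i j; fin_cases i <;> fin_cases j <;> simp [dM]

theorem wM_dM (l : Fˣ) : wM * dM l * (wM : SL2 F)⁻¹ = dM l⁻¹ := by
  rw [mul_inv_eq_iff_eq_mul]
  ext i j; simp only [Matrix.SpecialLinearGroup.coe_mul]
  fin_cases i <;> fin_cases j <;> simp [wM, dM, Matrix.mul_apply, Fin.sum_univ_two]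

theorem uM_inj {s s' : F} (h : uM s = uM s') : s = s' := by
  simpa [uM] using congrArg (fun A : SL2 F => A 0 1) h

theorem dM_inj {l l' : Fˣ} (h : dM l = dM l') : l = l' :=
  Units.ext (by simpa [dM] using congrArg (fun A : SL2 F => A 0 0) h)

theorem dM_pow (l : Fˣ) (k : ℕ) : dM l ^ k = dM (l ^ k) := by
  induction k with
  | zero => rw [pow_zero, pow_zero, dM_one]
  | succ k ih => rw [pow_succ, ih, dM_mul, pow_succ]

theorem eq_dM_of_comm {A : SL2 F} {l : Fˣ} (hl : (l : F) ^ 2 ≠ 1) (h : A * dM l = dM l * A) :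
    ∃ a, A = dM a := by
  have h1 := congrArg (fun B : SL2 F => B 0 1) h
  have h2 := congrArg (fun B : SL2 F => B 1 0) h
  have hd := A.det_coe
  simp only [Matrix.SpecialLinearGroup.coe_mul] at h1 h2
  simp [dM, Matrix.mul_apply, Fin.sum_univ_two] at h1 h2
  rw [Matrix.det_fin_two] at hd
  have hl0 := l.ne_zero
  have e1 : A 0 1 = 0 := by
    by_contra e
    field_simp at h1
    exact hl h1.symm
  have e2 : A 1 0 = 0 := by
    by_contra e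
    field_simp at h2
    exact hl h2
  rw [e1, zero_mul, sub_zero] at hd
  refine ⟨Units.mkOfMulEqOne _ _ hd, ?_⟩
  ext i j; fin_cases i <;> fin_cases j <;> simp [dM, e1, e2]
  exact eq_inv_of_mul_eq_one_right hd

theorem comm_uM_of_comm {A : SL2 F} {s : F} (hs : s ≠ 0) (h : A * uM s = uM s * A) (y : F) :
    A * uM y = uM y * A := by
  have h1 := congrArg (fun B : SL2 F => B 0 0) h
  have h2 := congrArg (fun B : SL2 F => B 0 1) h
  simp only [Matrix.SpecialLinearGroup.coe_mul] at h1 h2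
  simp [uM, Matrix.mul_apply, Fin.sum_univ_two, hs] at h1 h2
  have e : A 0 0 = A 1 1 := mul_left_cancel₀ hs (by linear_combination h2)
  ext i j; simp only [Matrix.SpecialLinearGroup.coe_mul]
  fin_cases i <;> fin_cases j <;> simp [uM, Matrix.mul_apply, Fin.sum_univ_two, h1, e]
  ring

variable [Fintype F]

theorem card_ge (hF : Fld F) : 27 ≤ Fintype.card F := by
  obtain ⟨m, ⟨k, rfl⟩, hm, hc⟩ := hF
  rw [hc]
  exact Nat.pow_le_pow_right (by norm_num : 0 < 3) (by omega : 3 ≤ 2 * k + 1)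

theorem exists_sq_ne (hF : Fld F) : ∃ l : Fˣ, (l : F) ^ 2 ≠ 1 := by
  classical
  have h := card_ge hF
  obtain ⟨a, -, ha⟩ := Finset.exists_mem_notMem_of_card_lt_card
    (s := ({0, 1, -1} : Finset F)) (t := Finset.univ)
    (lt_of_le_of_lt Finset.card_le_three (by rw [Finset.card_univ]; omega))
  simp only [Finset.mem_insert, Finset.mem_singleton, not_or] at ha
  exact ⟨Units.mk0 a ha.1, fun e => (sq_eq_one_iff.1 e).elim ha.2.1 ha.2.2⟩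

theorem sq_ne_neg_one (hF : Fld F) (a : F) : a ^ 2 ≠ -1 := fun e => by
  have := FiniteField.isSquare_neg_one_iff.1 (⟨a, by rw [← e, sq]⟩ : IsSquare (-1 : F))
  have := hF.mod
  omega

theorem eq_one_of_pow (hF : Fld F) {a : F} {k : ℕ} (h : a ^ 3 ^ k = 1) : a = 1 := by
  have : CharP F 3 := (CharP.charP_iff_prime_eq_zero Nat.prime_three).2 (by exact_mod_cast hF.three)
  have : (a - 1) ^ 3 ^ k = 0 := by rw [sub_pow_char_pow, h, one_pow, sub_self]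
  exact sub_eq_zero.1 (pow_eq_zero_iff (by positivity) |>.1 this)

end Mat

variable {G : Type u} [Group G] {F : Type v} [Field F] {h : F → F → F → G} {ι : SL2 F →* G}
  {n g : G}

/-- the second copy of `SL₂(q)` -/
def ps (ι : SL2 F →* G) (n : G) : SL2 F →* G := (MulAut.conj n).toMonoidHom.comp ι

theorem ps_apply (A : SL2 F) : ps ι n A = n * ι A * n⁻¹ := rfl

theorem mem_cn {X : Subgroup G} : g ∈ Cn X ↔ ∀ x ∈ X, x * g = g * x := mem_centralizer_iff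

theorem inj_ι (κ : Cen h ι) : Function.Injective ι :=
  (injective_iff_map_eq_one ι).2 fun A e => (κ.inj 0 0 0 A (by rw [κ.one, one_mul, e])).2.2.2

theorem ι_z (κ : Cen h ι) (A : SL2 F) (c : F) : ι A * h 0 0 c = h 0 0 c * ι A := by
  simpa using κ.comm A 0 0 c

theorem z_mul (κ : Cen h ι) (c c' : F) : h 0 0 c * h 0 0 c' = h 0 0 (c + c') := by
  simpa using κ.mul 0 0 c 0 0 c'

theorem zι_mul (κ : Cen h ι) (c c' : F) (A B : SL2 F) :
    h 0 0 c * ι A * (h 0 0 c' * ι B) = h 0 0 (c + c') * ι (A * B) := by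
  simpa using κ.mul' 0 0 c 0 0 c' A B

theorem zι_pow (κ : Cen h ι) (c : F) (A : SL2 F) (k : ℕ) :
    (h 0 0 c * ι A) ^ k = h 0 0 (k * c) * ι (A ^ k) := by
  induction k with
  | zero => simp [κ.one]
  | succ k ih => rw [pow_succ, ih, zι_mul κ, pow_succ]; congr 2; push_cast; ring

theorem eq_of_eq (κ : Cen h ι) {a b c a' b' c' : F} {A B : SL2 F}
    (e : h a b c * ι A = h a' b' c' * ι B) : a = a' ∧ b = b' ∧ c = c' ∧ A = B := by
  have e1 : h (-a' + a) (-b' + b) (-c' + c + (-a' * b - a * -b')) * ι (A * B⁻¹) = 1 := by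
    rw [← κ.mul, ← κ.inv, map_mul, map_inv, mul_assoc, ← mul_assoc (h a b c), e]; group
  obtain ⟨h1, h2, h3, h4⟩ := κ.inj _ _ _ _ e1
  obtain rfl : a = a' := by linear_combination h1
  obtain rfl : b = b' := by linear_combination h2
  exact ⟨rfl, rfl, by linear_combination h3, mul_inv_eq_one.1 h4⟩

theorem C_z (κ : Cen h ι) (hg : g ∈ κ.C) {z : G} (hz : z ∈ κ.Z) : g * z = z * g := by
  obtain ⟨c, rfl⟩ := hz
  by_cases hc : c = 0
  · rw [hc, κ.one, mul_one, one_mul]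
  · exact mem_Ce.1 ((κ.cen c hc g).2 hg)

theorem ι_t (A : SL2 F) : ι A ∈ Ce (ι (-1)) :=
  mem_Ce.2 (by rw [← map_mul, ← map_mul, mul_neg_one, neg_one_mul])

theorem ps_inj (hι : Function.Injective ι) : Function.Injective (ps ι n) :=
  (MulAut.conj n).injective.comp hι

variable [Fintype F] {κ : Cen h ι}

theorem n_inv (s : Sw κ n) : n⁻¹ = n := inv_eq_of_mul_eq_one_right s.nn

theorem ps_t (s : Sw κ n) (A : SL2 F) : ps ι n A ∈ Ce (ι (-1)) :=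
  mul_mem (mul_mem s.ct (ι_t A)) (inv_mem s.ct)

theorem conj_ps (s : Sw κ n) (A : SL2 F) : n * ps ι n A * n⁻¹ = ι A := by
  rw [ps_apply, n_inv s, ← mul_assoc, ← mul_assoc, s.nn, one_mul, mul_assoc, s.nn, mul_one]

theorem U_ps (hF : Fld F) (s : Sw κ n) : Uψ (ps ι n) = κ.Z := by
  obtain ⟨h1, h2⟩ := s.ZR (by have := card_ge hF; omega)
  refine le_antisymm ?_ ?_
  · rintro _ ⟨y, rfl⟩; exact h2 y
  · rintro _ ⟨x, rfl⟩
    obtain ⟨y, e⟩ := h1 x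
    refine ⟨y, ?_⟩
    rw [ps_apply, ← e, n_inv s, ← mul_assoc, ← mul_assoc, s.nn, one_mul, mul_assoc, s.nn, mul_one]

theorem ι_psU (hF : Fld F) (s : Sw κ n) (A : SL2 F) (y : F) :
    ι A * ps ι n (uM y) = ps ι n (uM y) * ι A := by
  obtain ⟨c, e⟩ : ps ι n (uM y) ∈ κ.Z := U_ps hF s ▸ ⟨y, rfl⟩
  rw [e, ι_z κ]

theorem swap_comm (s : Sw κ n) {A B : SL2 F} (e : ι A * ps ι n B = ps ι n B * ι A) :
    ι B * ps ι n A = ps ι n A * ι B := by
  have := congrArg (fun x => n * x * n⁻¹) e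
  rw [← conj_ps s B, ps_apply A]
  simp only [conj_mul] at this ⊢
  simpa only [← conj_mul, conj_ps s, ← ps_apply] using this.symm

omit [Fintype F] in
theorem mem_cn_range {ψ : SL2 F →* G} : g ∈ Cn ψ.range ↔ ∀ A, ψ A * g = g * ψ A :=
  ⟨fun e A => mem_cn.1 e _ ⟨A, rfl⟩, fun e => mem_cn.2 (by rintro _ ⟨A, rfl⟩; exact e A)⟩

/-- the elements of `N(Z) ∩ C(t)` -/
theorem NZ_t (l : Loc κ 3) (s : Sw κ n) (h1 : g ∈ Nr κ.Z) (h2 : g ∈ Ce (ι (-1))) :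
    ∃ c A a, g = h 0 0 c * ι A * ps ι n (dM a) := by
  obtain ⟨c, hc, a, rfl⟩ := s.NZ g h1
  obtain ⟨x, A, rfl⟩ := l.ct c ⟨hc, (mul_mem_cancel_right (ps_t s (dM a))).1 h2⟩
  exact ⟨x, A, a, rfl⟩

/-- `H₀ L*` -/
def HL (ι : SL2 F →* G) (n : G) (hc : ∀ a A, ι (dM a) * ps ι n A = ps ι n A * ι (dM a)) :
    Subgroup G where
  carrier := {g | ∃ a A, g = ι (dM a) * ps ι n A}
  one_mem' := ⟨1, 1, by rw [dM_one, map_one, map_one, one_mul]⟩
  mul_mem' := by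
    rintro _ _ ⟨a, A, rfl⟩ ⟨b, B, rfl⟩
    exact ⟨a * b, A * B, by
      rw [← dM_mul, map_mul, map_mul, mul_assoc, ← mul_assoc (ps ι n A), ← hc]; group⟩
  inv_mem' := by
    rintro _ ⟨a, A, rfl⟩
    exact ⟨a⁻¹, A⁻¹, by rw [mul_inv_rev, ← map_inv, ← map_inv, dM_inv, hc]⟩

theorem jobB1 : JobB1.{u, v} := by
  intro bor abh G _ _ F _ _ h ι κ n hF l l3 s
  have hι := inj_ι κ
  have hψ : Function.Injective (ps ι n) := ps_inj hι
  have hU := U_ps hF s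
  obtain ⟨l0, hl0⟩ := exists_sq_ne hF
  have h1 : ∀ a A, ι A * ps ι n (dM a) = ps ι n (dM a) * ι A := fun a =>
    mem_cn_range.1 (bor G F ι _ hF hι (l3.nL ⟨s.HZ a, ps_t s _⟩)
      (mem_cn.2 (by rintro _ ⟨y, rfl⟩; exact swap_comm s (ι_psU hF s _ y)))
      (mem_cn.2 (by rintro _ ⟨y, rfl⟩; exact s.HH y a)))
  have h2 : ∀ a A, ι (dM a) * ps ι n A = ps ι n A * ι (dM a) := fun a A => swap_comm s (h1 a A)
  have hX : (ps ι n).range ≤ Cn (Hψ ι) := by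
    rintro _ ⟨A, rfl⟩; exact mem_cn.2 (by rintro _ ⟨y, rfl⟩; exact h2 y A)
  have hH : (ps ι n).range ≤ HL ι n h2 := by
    rintro _ ⟨A, rfl⟩; exact ⟨1, A, by rw [dM_one, map_one, one_mul]⟩
  have hZ : κ.Z ≤ HL ι n h2 := hU ▸ by rintro _ ⟨y, rfl⟩; exact hH ⟨_, rfl⟩
  have h3 : ∀ g ∈ Cn (Hψ ι) ⊓ κ.C, ∃ c a, g = h 0 0 c * ι (dM a) := fun g hg => by
    obtain ⟨c, A, rfl⟩ := l.ct g ⟨hg.2, mem_Ce.2 (mem_cn.1 hg.1 _ ⟨-1, by rw [dM_neg_one]⟩).symm⟩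
    have e := mem_cn.1 hg.1 _ ⟨l0, rfl⟩
    rw [← mul_assoc, ι_z κ, mul_assoc, mul_assoc, mul_left_cancel_iff, ← map_mul, ← map_mul] at e
    obtain ⟨a, rfl⟩ := eq_dM_of_comm hl0 (hι e).symm
    exact ⟨c, a, rfl⟩
  have h4 : Cn (Hψ ι) ⊓ κ.C ≤ HL ι n h2 := fun g hg => by
    obtain ⟨c, a, rfl⟩ := h3 g hg
    exact mul_mem (hZ ⟨c, rfl⟩) ⟨a, 1, by rw [map_one, mul_one]⟩
  have h5 : Cn (Hψ ι) ≤ HL ι n h2 := by
    refine abh G F (ps ι n) _ _ hF hψ hX hH ?_ ?_ ?_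
    · rw [hU]
      rintro _ ⟨c, rfl⟩ hc
      have hc0 : c ≠ 0 := fun e => hc (by rw [e, κ.one])
      have hle : Cn (Hψ ι) ⊓ Ce (h 0 0 c) ≤ Cn (Hψ ι) ⊓ κ.C :=
        inf_le_inf_left _ fun g hg => (κ.cen c hc0 g).1 hg
      refine ⟨hle.trans h4, Group.isSolvable_of_comm fun x y => Subtype.ext ?_, fun g hg k hk => ?_⟩
      · obtain ⟨c, a, e⟩ := h3 _ (hle x.2)
        obtain ⟨c', a', e'⟩ := h3 _ (hle y.2)
        rw [coe_mul, coe_mul, e, e', zι_mul κ, zι_mul κ, dM_mul, dM_mul, add_comm, mul_comm a]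
      · obtain ⟨c, a, rfl⟩ := h3 _ (hle hg)
        rw [zι_pow κ, dM_pow] at hk
        have := dM_inj ((κ.inj _ _ _ _ hk).2.2.2.trans dM_one.symm)
        obtain rfl : a = 1 := Units.ext (eq_one_of_pow hF (k := k) (by
          rw [← Units.val_pow_eq_pow_val, this, Units.val_one]))
        exact ⟨c, by rw [dM_one, map_one, mul_one]⟩
    · rw [hU]
      rintro g ⟨hg1, hg2⟩
      obtain ⟨c, hc, a, rfl⟩ := s.NZ g hg2
      exact mul_mem (h4 ⟨(mul_mem_cancel_right (hX ⟨dM a, rfl⟩)).1 hg1, hc⟩) (hH ⟨dM a, rfl⟩)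
    · rintro g ⟨-, hg2⟩ _ ⟨y, rfl⟩ e
      obtain ⟨c, hc, a, rfl⟩ := s.NZ g (hU ▸ hg2)
      have e1 : c * ps ι n (dM a * uM y * (dM a)⁻¹) * c⁻¹ = ps ι n (uM (-y)) := by
        rw [← uM_inv, map_inv, ← e, map_mul, map_mul, map_inv, ← ps_apply (dM a)]; group
      rw [dM_uM, C_z κ hc (hU ▸ ⟨_, rfl⟩), mul_inv_cancel_right] at e1
      have e2 := uM_inj (hψ e1)
      obtain rfl : y = 0 := by
        by_contra hy
        exact sq_ne_neg_one hF a (mul_right_cancel₀ hy (by rw [e2, neg_one_mul]))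
      rw [uM_zero, map_one]
  have h6 : ⁅Cn (Hψ ι), Cn (Hψ ι)⁆ = (ps ι n).range := by
    refine le_antisymm (commutator_le.2 fun x hx y hy => ?_) ?_
    · obtain ⟨a, A, rfl⟩ := h5 hx
      obtain ⟨b, B, rfl⟩ := h5 hy
      refine ⟨⁅A, B⁆, ?_⟩
      have c1 : Commute (ι (dM a)) (ι (dM b)) := by
        rw [Commute, SemiconjBy, ← map_mul, ← map_mul, dM_mul, dM_mul, mul_comm]
      have c2 : ∀ a A, Commute (ι (dM a)) (ps ι n A) := h2
      rw [map_commutatorElement, commutatorElement_def, commutatorElement_def, mul_inv_rev,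
        mul_inv_rev, mul_assoc (ι (dM a)), ← mul_assoc (ps ι n A), ← (c2 b A).eq]
      symm
      calc _ = ι (dM a) * (ι (dM b) * (ps ι n A * ps ι n B * (ps ι n A)⁻¹)) * (ι (dM a))⁻¹ *
            ((ps ι n B)⁻¹ * (ι (dM b))⁻¹) := by group
        _ = ι (dM b) * (ps ι n A * ps ι n B * (ps ι n A)⁻¹ * (ps ι n B)⁻¹) * (ι (dM b))⁻¹ := by
          rw [(c1.mul_right (((c2 a A).mul_right (c2 a B)).mul_right (c2 a A).inv_right)).eq]
          group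
        _ = _ := by
          rw [((((c2 b A).mul_right (c2 b B)).mul_right (c2 b A).inv_right).mul_right
            (c2 b B).inv_right).eq]
          group
    · rw [MonoidHom.range_eq_map, ← Matrix.SL2.commutator_eq_top l0.ne_zero hl0, _root_.commutator_def,
        map_commutator, ← MonoidHom.range_eq_map]
      exact commutator_mono hX hX
  have h7 : ι wM ∈ Nr (Hψ ι) := by
    refine mem_normalizer_fintype ?_
    rintro _ ⟨a, rfl⟩
    exact ⟨a⁻¹, by rw [← wM_dM, map_mul, map_mul, map_inv]⟩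
  have h8 : ι wM ∈ Nr (ps ι n).range := by
    rw [← h6]
    have := H98.normalizer_le_normalizer_centralizer _ h7
    exact H98.le_normalizer_commutator (H := Nr (Cn (Hψ ι))) le_rfl le_rfl this
  have h9 := mem_cn_range.1 (bor G F (ps ι n) _ hF hψ h8
    (mem_cn.2 (by rintro _ ⟨y, rfl⟩; exact (ι_psU hF s _ y).symm))
    (mem_cn.2 (by rintro _ ⟨y, rfl⟩; exact (h1 y _).symm)))
  refine ⟨hι, s.nn, mem_Ce.1 s.ct, fun A B => ?_⟩
  rw [← ps_apply]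
  exact H65.sl2_induction (p := fun A => ι A * ps ι n B = ps ι n B * ι A)
    (fun y => swap_comm s (ι_psU hF s B y)) (h9 B).symm
    (fun a b ha hb => by rw [map_mul, mul_assoc, hb, ← mul_assoc, ha, mul_assoc]) A

omit [Fintype F] in
theorem ι_mem (A : SL2 F) : ι A ∈ H1 ι n := subset_closure (Or.inl ⟨A, rfl⟩)

omit [Fintype F] in
theorem n_mem : n ∈ H1 ι n := subset_closure (Or.inr rfl)

omit [Fintype F] in
theorem ps_mem (A : SL2 F) : ps ι n A ∈ H1 ι n := mul_mem (mul_mem n_mem (ι_mem A)) (inv_mem n_mem)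

theorem NZ_le (hF : Fld F) (l : Loc κ 3) (s : Sw κ n) (h1 : g ∈ Nr κ.Z) (h2 : g ∈ Ce (ι (-1))) :
    g ∈ H1 ι n := by
  obtain ⟨c, A, a, rfl⟩ := NZ_t l s h1 h2
  obtain ⟨y, e⟩ : h 0 0 c ∈ Uψ (ps ι n) := U_ps hF s ▸ ⟨c, rfl⟩
  exact mul_mem (mul_mem (e ▸ ps_mem _) (ι_mem A)) (ps_mem _)

omit [Fintype F] in
theorem Z_le_D : κ.Z ≤ κ.D := by
  rintro _ ⟨c, rfl⟩; exact ⟨c, 0, by rw [uM_zero, map_one, mul_one]⟩

theorem ND (hF : Fld F) (l : Loc κ 3) (s : Sw κ n) (hg : g ∈ Nr κ.D) :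
    g ∈ Nr κ.Z ∨ n⁻¹ * g ∈ Nr κ.Z := by
  refine (s.om g (l.nD hg)).imp_right fun ⟨b, hb⟩ => ?_
  have h1 : ps ι n (uM 1) ∈ κ.Z := U_ps hF s ▸ ⟨1, rfl⟩
  obtain ⟨c, y, e⟩ := conj_mem_of_mem_normalizer hg
    (Z_le_D (conj_mem_of_mem_normalizer (inv_mem hb) h1))
  have e1 : h 0 b 0 * ι (uM 1) * (h 0 b 0)⁻¹ = h 0 0 c * ι (uM y) := by
    rw [← e, ← conj_ps s (uM 1)]; group
  rw [← mul_one (h 0 b 0)⁻¹, ← map_one ι, κ.inv, κ.mul'] at e1
  have := (eq_of_eq κ e1).1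
  simp [uM] at this
  rwa [this, κ.one, _root_.inv_one, mul_one] at hb

omit [Fintype F] in
theorem D_comm : κ.D ≤ cn κ.D := by
  rintro _ ⟨c, y, rfl⟩
  refine mem_cn.2 ?_
  rintro _ ⟨c', y', rfl⟩
  rw [zι_mul κ, zι_mul κ, uM_mul, uM_mul, add_comm c, add_comm y]

theorem D_cube (hF : Fld F) (hg : g ∈ κ.D) : g ^ 3 = 1 := by
  obtain ⟨c, y, rfl⟩ := hg
  rw [zι_pow κ, pow_three, uM_mul, uM_mul, Nat.cast_ofNat, hF.three, zero_mul, κ.one,
    show y + (y + y) = 3 * y by ring, hF.three, zero_mul, uM_zero, map_one, mul_one]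

variable [Finite G]

theorem isSyl_D (hF : Fld F) (l : Loc κ 3) (s : Sw κ n) : IsSyl 3 κ.D (Ce (ι (-1))) := by
  have hD : IsPGroup 3 κ.D := l.pP.to_le (l.Pt ▸ inf_le_left)
  refine isSyl_of_isSyl_normalizer ⟨le_inf (l.Pt ▸ inf_le_right) le_normalizer, hD,
    fun X hX h1 h2 => le_antisymm (fun g hgX => ?_) h1⟩
  have hg := (h2 hgX).2
  obtain ⟨k, hk⟩ := hX ⟨g, hgX⟩
  have hk' : g ^ 3 ^ k = 1 := congrArg Subtype.val hk
  have hZ : g ∈ Nr κ.Z := by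
    refine (ND hF l s hg).elim id fun e1 =>
      (ND hF l s (mul_mem hg hg)).elim (fun e2 => ?_) fun e2 => ?_
    · obtain ⟨m, hm⟩ : Odd (3 ^ k) := Odd.pow (by decide)
      rw [hm, pow_succ, pow_mul, sq] at hk'
      rw [eq_inv_of_mul_eq_one_right hk']
      exact inv_mem (pow_mem e2 m)
    · have := mul_mem (inv_mem e1) e2
      rwa [show (n⁻¹ * g)⁻¹ * (n⁻¹ * (g * g)) = g by group] at this
  exact l.Pt ▸ ⟨l.pel g ⟨l.nD hg, hZ⟩ k hk', (h2 hgX).1⟩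

omit [Finite G] in
theorem ND_le (hF : Fld F) (l : Loc κ 3) (s : Sw κ n) : Ce (ι (-1)) ⊓ nr κ.D ≤ H1 ι n :=
  fun _ hg => (ND hF l s hg.2).elim (fun e => NZ_le hF l s e hg.1) fun e =>
    (mul_mem_cancel_left (inv_mem n_mem)).1 (NZ_le hF l s e (mul_mem (inv_mem s.ct) hg.1))

omit [Finite G] in
theorem CZ_le (hF : Fld F) (l : Loc κ 3) (s : Sw κ n) {z : G} (hz : z ∈ κ.Z) (h1 : z ≠ 1) :
    Ce (ι (-1)) ⊓ Ce z ≤ H1 ι n := fun g hg => by
  obtain ⟨c, rfl⟩ := hz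
  exact NZ_le hF l s (l.ti g c c (fun e => h1 (by rw [e, κ.one])) (mem_Ce'.1 hg.2)) hg.1

omit [Finite G] in
/-- the stabiliser of a diagonal element in `N(Z) ∩ C(t)` centralises `D` -/
theorem diag_cen (hF : Fld F) (l : Loc κ 3) (s : Sw κ n) (w : Wr ι n) {c y : F} (hc : c ≠ 0)
    (hy : y ≠ 0) (h1 : g ∈ Nr κ.Z) (h2 : g ∈ Ce (ι (-1))) (h3 : g ∈ Ce (h 0 0 c * ι (uM y))) :
    g ∈ cn κ.D := by
  have hU := U_ps hF s
  have hw : ∀ A B, ι A * ps ι n B = ps ι n B * ι A := w.comm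
  obtain ⟨x, A, a, rfl⟩ := NZ_t l s h1 h2
  have key : ∀ x' B, h 0 0 x * ι A * ps ι n (dM a) * (ps ι n (uM x') * ι B) *
      (h 0 0 x * ι A * ps ι n (dM a))⁻¹ = ps ι n (uM ((a : F) ^ 2 * x')) * ι (A * B * A⁻¹) := by
    intro x' B
    obtain ⟨e, he⟩ : ps ι n (uM ((a : F) ^ 2 * x')) ∈ κ.Z := hU ▸ ⟨_, rfl⟩
    calc _ = h 0 0 x * ι A * (ps ι n (dM a) * ps ι n (uM x') * (ι B * (ps ι n (dM a))⁻¹)) *
          (h 0 0 x * ι A)⁻¹ := by group
      _ = h 0 0 x * ι A * (h 0 0 e * ι B) * (h 0 0 x * ι A)⁻¹ := by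
        rw [← map_inv, hw, ← mul_assoc (_ * ps ι n (uM x')), ← map_mul, ← map_mul, dM_uM, he]
      _ = _ := by
        rw [he, mul_inv_eq_iff_eq_mul, zι_mul κ, zι_mul κ, add_comm, inv_mul_cancel_right]
  obtain ⟨c', hc'⟩ : h 0 0 c ∈ Uψ (ps ι n) := hU ▸ ⟨c, rfl⟩
  have hc0 : c' ≠ 0 := fun e => hc (by
    rw [e, uM_zero, map_one] at hc'
    exact (κ.inj 0 0 c 1 (by rw [hc', map_one, mul_one])).2.2.1)
  have e1 := (key c' (uM y)).symm.trans (hc' ▸ mem_Ce'.1 h3)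
  obtain ⟨e, he⟩ : ps ι n (uM ((a : F) ^ 2 * c')) ∈ κ.Z := hU ▸ ⟨_, rfl⟩
  have e2 := e1
  rw [he, ← hc'] at e2
  obtain ⟨-, -, rfl, e4⟩ := eq_of_eq κ e2
  have ha : (a : F) ^ 2 = 1 :=
    mul_right_cancel₀ hc0 (by rw [uM_inj (ps_inj w.inj (he.trans hc')), one_mul])
  refine mem_cn.2 ?_
  rintro _ ⟨c₁, y₁, rfl⟩
  obtain ⟨c₂, hc₂⟩ : h 0 0 c₁ ∈ Uψ (ps ι n) := hU ▸ ⟨c₁, rfl⟩
  rw [eq_comm, ← mul_inv_eq_iff_eq_mul, hc₂, key, ha, one_mul,
    comm_uM_of_comm hy (mul_inv_eq_iff_eq_mul.1 e4), mul_inv_cancel_right]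

theorem diag_le (hF : Fld F) (l : Loc κ 3) (l3 : Loc3 κ) (s : Sw κ n) (w : Wr ι n) {c y : F}
    (hc : c ≠ 0) (hy : y ≠ 0) : Ce (ι (-1)) ⊓ Ce (h 0 0 c * ι (uM y)) ≤ H1 ι n := by
  set X := Ce (ι (-1)) ⊓ Ce (h 0 0 c * ι (uM y))
  have hS := isSyl_D hF l s
  have hDX : κ.D ≤ X := le_inf hS.le fun d hd => mem_Ce.2 (mem_cn.1 (D_comm ⟨c, y, rfl⟩) d hd)
  have hP : IsSyl 3 κ.D X := hS.of_le hDX inf_le_left
  have hO : opp 3 X ≤ H1 ι n :=
    (l3.sigD _ ((opp_le X).trans inf_le_left) (coprime_card_opp X) fun d hd k hk =>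
      conj_mem_of_mem_normalizer (self_le_normalizer_opp X (hDX hd)) hk).trans
      (zpowers_le.2 (ι_mem _))
  have hN : X ⊓ nr κ.D ≤ H1 ι n := (inf_le_inf_right _ inf_le_left).trans (ND_le hF l s)
  by_cases hc' : X ⊓ nr κ.D ≤ cn κ.D
  · exact (H87.burnside_dec hP hc').2 _ ((le_inf hDX le_normalizer).trans hN) hO
  obtain ⟨g, hg, hg'⟩ := SetLike.not_le_iff_exists.1 hc'
  have hd : ∀ k ∈ X, k ∈ Nr κ.Z → k ∈ cn κ.D := fun k hk e => diag_cen hF l s w hc hy e hk.1 hk.2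
  have hk := (ND hF l s hg.2).resolve_left fun e => hg' (hd g hg.1 e)
  refine (H56.ST.st (by norm_num) hP D_comm hg (fun k hk' => ?_) fun hcyc => ?_).trans
    (sup_le hO hN)
  · refine (ND hF l s hk'.2).imp (hd k hk'.1) fun e => hd _ (mul_mem (inv_mem hk'.1) hg.1) ?_
    have := mul_mem (inv_mem e) hk
    rwa [show (n⁻¹ * k)⁻¹ * (n⁻¹ * g) = k⁻¹ * g by group] at this
  · have h1 : ∀ x : F, ∃ r, g * h 0 0 x * g⁻¹ = ι (uM r) := fun x => by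
      obtain ⟨r, hr⟩ : n⁻¹ * g * h 0 0 x * (n⁻¹ * g)⁻¹ ∈ Uψ (ps ι n) :=
        U_ps hF s ▸ conj_mem_of_mem_normalizer hk ⟨x, rfl⟩
      exact ⟨r, by rw [← conj_ps s, ← hr]; group⟩
    choose r hr using h1
    have h2 : ∀ x : F, h 0 0 x * ι (uM (r x))⁻¹ ∈ κ.D ⊓ ⁅X, X⁆ := fun x =>
      ⟨⟨x, -r x, by rw [uM_inv]⟩, by
        have := commutator_mem_commutator (hDX (Z_le_D ⟨x, rfl⟩)) hg.1
        rwa [commutatorElement_def, show h 0 0 x * g * (h 0 0 x)⁻¹ * g⁻¹ =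
          h 0 0 x * (g * h 0 0 x * g⁻¹)⁻¹ by group, hr, ← map_inv] at this⟩
    have h3 : Nat.card F ≤ Nat.card (κ.D ⊓ ⁅X, X⁆ : Subgroup G) :=
      Nat.card_le_card_of_injective (fun x => ⟨_, h2 x⟩) fun x x' e =>
        (eq_of_eq κ (congrArg Subtype.val e)).2.2.1
    have h4 : Nat.card (κ.D ⊓ ⁅X, X⁆ : Subgroup G) ∣ 3 := by
      rw [← hcyc.exponent_eq_card]
      exact Monoid.exponent_dvd_of_forall_pow_eq_one fun x => Subtype.ext (D_cube hF x.2.1)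
    have := Nat.le_of_dvd (by norm_num) h4
    have := card_ge hF
    rw [Nat.card_eq_fintype_card] at h3
    omega

theorem jobB2 : JobB2.{u, v} := by
  intro G _ _ F _ _ h ι κ n hF l l3 s w g hg y hy ho hgy
  refine se_ab (isSyl_D hF l s) D_comm ?_ (ND_le hF l s) ?_ hy ho hg hgy
  · exact (closure_le _).2 (by rintro _ (⟨A, rfl⟩ | rfl); exacts [ι_t A, s.ct])
  rintro _ ⟨c, x, rfl⟩ h1
  by_cases hx : x = 0
  · exact CZ_le hF l s ⟨c, by rw [hx, uM_zero, map_one, mul_one]⟩ h1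
  by_cases hc : c = 0
  · rw [hc, κ.one, one_mul] at h1 ⊢
    intro k hk
    have := CZ_le hF l s (U_ps hF s ▸ ⟨x, rfl⟩ : ps ι n (uM x) ∈ κ.Z)
      (fun e => h1 (by rw [← conj_ps s, e, mul_one, mul_inv_cancel]))
      (mem_inf.2 ⟨mul_mem (mul_mem s.ct hk.1) (inv_mem s.ct), conj_mem_Ce hk.2 n⟩)
    exact (mul_mem_cancel_left n_mem).1 ((mul_mem_cancel_right (inv_mem n_mem)).1 this)
  · exact diag_le hF l l3 s w hc hx

end H36.L3C
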