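import Cfsg.Agent.H48.DNASpec

/-! S3275, chapter alpha: lifting through a kernel of order prime to 3. -/

set_option autoImplicit false

namespace H36.NaLR

open Subgroup Cfsg H98 H48.DP H48.DP2

universe u

variable {H X : Type u} [Group H] [Finite H] [Group X] {π : H →* X}

theorem triv (hk : ¬ 3 ∣ Nat.card π.ker) {n : H} (hn : n ∈ π.ker) {j : ℕ} (h : n ^ 3 ^ j = 1) :
    n = 1 := by
  have h1 : orderOf n ∣ Nat.card π.ker := orderOf_dvd_natCard _ hn
  have h2 := orderOf_dvd_of_pow_eq_one h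
  exact orderOf_eq_one_iff.1 (Nat.eq_one_of_dvd_coprimes
    (Nat.Coprime.pow_left j ((Nat.Prime.coprime_iff_not_dvd Nat.prime_three).2 hk)) h2 h1)

theorem lift_pow {p k : ℕ} (hp : p.Prime) (h : H) (hk : π h ^ p ^ k = 1) :
    ∃ e a : ℕ, π (h ^ e) = π h ∧ (h ^ e) ^ p ^ a = 1 := by
  obtain ⟨a, m, h1, h2⟩ := Nat.exists_eq_pow_mul_and_not_dvd (orderOf_pos h).ne' p hp.ne_one
  have hc : m.Coprime (p ^ k) := (((Nat.Prime.coprime_iff_not_dvd hp).2 h1).symm).pow_right k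
  have h3 := Nat.ModEq.pow_totient hc
  obtain ⟨t, ht⟩ := Nat.exists_eq_succ_of_ne_zero (Nat.totient_pos.2 (pow_pos hp.pos k)).ne'
  refine ⟨m ^ (p ^ k).totient, a, ?_, ?_⟩
  · rw [map_pow]
    exact (pow_eq_pow_iff_modEq.2 (h3.of_dvd (orderOf_dvd_of_pow_eq_one hk))).trans (pow_one _)
  · rw [← pow_mul, ← orderOf_dvd_iff_pow_eq_one, h2, ht, pow_succ]
    exact ⟨m ^ t, by ring⟩

theorem lift_no (hs : Function.Surjective π) (hk : ¬ 3 ∣ Nat.card π.ker) {P : Subgroup H}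
    (hP : IsPGroup 3 P) {g : X} (hg : g ∈ No (P.map π)) : ∃ h ∈ No P, π h = g := by
  have : Fact (Nat.Prime 3) := ⟨Nat.prime_three⟩
  obtain ⟨h0, rfl⟩ := hs g
  have hn : P ≤ No π.ker := le_normalizer_of_normal
  have hS : IsSyl 3 P (P ⊔ π.ker) := by
    refine ⟨le_sup_left, hP, fun Q q1 q2 q3 => le_antisymm (fun q hq => ?_) q2⟩
    obtain ⟨a, ha, n, hn', rfl⟩ := (mem_sup_left_norm hn).1 (q3 hq)
    obtain ⟨j, hj⟩ := isPGroup_iff_forall.1 q1 n ((mul_mem_cancel_left (q2 ha)).1 hq)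
    rwa [triv hk hn' hj, mul_one]
  have h1 : h0 ∈ No (P ⊔ π.ker) := by
    rw [← comap_map_eq]
    exact le_normalizer_comap π hg
  obtain ⟨a, ha, n, hn', rfl⟩ := hS.frattini_mem h1
  obtain ⟨b, hb, c, hc, rfl⟩ := (mem_sup_left_norm hn).1 hn'
  exact ⟨a * b, mul_mem ha (le_normalizer hb), by
    rw [map_mul, map_mul, map_mul, (MonoidHom.mem_ker).1 hc, mul_one]⟩

theorem job : LR.{u} := by
  intro H X _ _ _ π hs hk
  refine ⟨fun P hP g hg => ?_, fun y g hy hc => ?_⟩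
  · obtain ⟨h, h1, rfl⟩ := lift_no hs hk hP hg
    by_cases h2 : IsPGroup 2 (zpowers (π h))
    · obtain ⟨k, hk'⟩ := isPGroup_iff_forall.1 h2 _ (mem_zpowers _)
      obtain ⟨e, a, e1, e2⟩ := lift_pow Nat.prime_two h hk'
      exact ⟨h ^ e, pow_mem h1 e, e1, fun _ => isPGroup_zpowers e2⟩
    · exact ⟨h, h1, rfl, fun h3 => absurd h3 h2⟩
  · have hP : IsPGroup 3 (zpowers y) := isPGroup_zpowers (k := 1) (by rw [pow_one, hy])
    obtain ⟨h, h1, rfl⟩ := lift_no hs hk hP (g := g) (by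
      rw [MonoidHom.map_zpowers]
      apply centralizer_le_normalizer
      rintro _ ⟨n, rfl⟩
      exact (hc.symm.zpow_left n).eq)
    have h2 : Commute h y := by
      have h3 := mul_mem ((mem_normalizer_iff.1 h1 y).1 (mem_zpowers y)) (inv_mem (mem_zpowers y))
      obtain ⟨j, hj⟩ := isPGroup_iff_forall.1 hP _ h3
      have h4 := triv hk (n := h * y * h⁻¹ * y⁻¹) (by
        rw [MonoidHom.mem_ker, map_mul, map_mul, map_mul, map_inv, map_inv, hc.eq]
        group) hj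
      exact commutatorElement_eq_one_iff_commute.1 h4
    by_cases h3 : π h ^ 3 = 1
    · obtain ⟨e, a, e1, e2⟩ := lift_pow (k := 1) Nat.prime_three h (by rwa [pow_one])
      have h4 : (h ^ e) ^ 3 ∈ π.ker := by rw [MonoidHom.mem_ker, map_pow, e1, h3]
      exact ⟨h ^ e, h2.pow_left e, e1, fun _ => h4, fun _ _ =>
        triv hk h4 (j := a) (by rw [← pow_mul, mul_comm, pow_mul, e2, one_pow])⟩
    · exact ⟨h, h2, rfl, fun h4 => absurd h4 h3, fun _ h4 => absurd h4 h3⟩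

end H36.NaLR
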