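import Cfsg.Agent.Base
import Cfsg.Prelude.Def_Local

/-! Tower O84 (S3384): the abstract interface in GL4(5).
`Sys Γ` = what the Lie theory of `Γ = E8(2)` gives about the torus 5^4 (chapter U1 U2 U4),
`Mod H` = what the model of the orthogonal group gives (chapter M),
`CertQ CertW CertD CertS Cert5` = finite checks on 4x4 matrices over `ZMod 5`,
`Job*` = the abstract glue. Blueprint: blueprints/O84.md. -/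

set_option autoImplicit false

namespace H36.O84

open Matrix

universe u

abbrev V : Type := Fin 4 → ZMod 5
abbrev M4 : Type := Matrix (Fin 4) (Fin 4) (ZMod 5)

/-- flat table: `chi[reps[l]]` of data.json, 4 entries per point -/
def chiT : List ℕ := [
   0, 0, 0, 4, 0, 0, 4, 1, 0, 4, 1, 0, 4, 1, 0, 0, 2, 3, 0, 3, 2, 3, 3, 2, 2, 1, 2, 0, 4, 3, 3, 0,
   4, 1, 2, 3, 4, 1, 0, 2, 1, 0, 4, 0, 1, 4, 1, 4, 1, 4, 0, 1, 1, 0, 0, 0, 3, 0, 0, 3, 3, 0, 3, 2,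
   1, 2, 3, 0, 0, 4, 2, 0, 0, 3, 4, 4, 0, 3, 3, 1, 3, 3, 2, 0, 1, 0, 2, 3, 0, 2, 1, 3, 0, 1, 3, 2,
   0, 1, 2, 4, 1, 0, 0, 2, 0, 2, 4, 2, 0, 1, 1, 1, 0, 1, 0, 3, 3, 4, 4, 0, 3, 3, 1, 4, 3, 3, 0, 1,
   2, 2, 4, 0, 2, 1, 1, 4, 2, 1, 0, 1, 4, 0, 0, 2, 4, 0, 4, 4, 4, 4, 1, 3, 4, 0, 3, 1, 4, 0, 2, 3,
   4, 4, 4, 2, 2, 1, 4, 0, 4, 3, 2, 4, 4, 3, 1, 1, 4, 3, 0, 0, 4, 1, 4, 0, 4, 0, 1, 4, 4, 0, 0, 1,
   1, 4, 0, 2, 1, 4, 4, 4, 1, 3, 1, 3, 1, 4, 3, 1, 1, 4, 2, 3, 1, 3, 4, 2, 1, 2, 2, 4, 1, 2, 1, 1,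
   1, 1, 3, 0, 0, 2, 3, 3, 0, 2, 1, 2, 0, 0, 2, 1]

/-- flat table: the matrix of `r_l = s_a s_(w a)` on the coordinates of `Y0`, row by row, 16 entries per point -/
def rT : List ℕ := [
   1, 0, 0, 3, 0, 1, 0, 1, 0, 0, 1, 2, 0, 0, 0, 4, 1, 0, 3, 2, 0, 1, 1, 4, 0, 0, 3, 3, 0, 0, 4, 2,
   1, 3, 2, 0, 0, 2, 4, 0, 0, 3, 3, 0, 0, 4, 1, 1, 2, 4, 0, 0, 3, 3, 0, 0, 2, 3, 1, 0, 1, 4, 0, 1,
   4, 2, 0, 2, 2, 4, 0, 3, 0, 0, 1, 0, 3, 2, 0, 3, 4, 2, 2, 3, 2, 4, 3, 2, 0, 0, 1, 0, 2, 3, 3, 3,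
   4, 4, 3, 0, 2, 2, 2, 0, 4, 2, 0, 0, 2, 1, 2, 1, 3, 4, 4, 0, 0, 1, 0, 0, 3, 1, 2, 0, 4, 3, 3, 1,
   3, 3, 1, 4, 0, 1, 0, 0, 1, 4, 4, 2, 4, 1, 2, 4, 3, 3, 0, 1, 0, 1, 0, 0, 1, 4, 1, 3, 2, 3, 0, 2,
   1, 0, 0, 0, 2, 1, 3, 0, 2, 0, 4, 0, 1, 0, 4, 1, 1, 0, 0, 0, 2, 4, 2, 3, 1, 4, 2, 4, 1, 4, 1, 0,
   1, 0, 0, 0, 2, 4, 0, 2, 1, 4, 1, 1, 0, 0, 0, 1, 4, 0, 0, 0, 2, 1, 0, 0, 3, 0, 1, 0, 4, 0, 0, 1,
   2, 0, 0, 1, 3, 1, 0, 3, 0, 0, 1, 0, 2, 0, 0, 3, 2, 0, 1, 4, 3, 1, 3, 2, 0, 0, 1, 0, 3, 0, 3, 3,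
   3, 4, 1, 0, 0, 1, 0, 0, 2, 4, 2, 0, 1, 2, 3, 1, 1, 1, 3, 0, 0, 3, 1, 0, 0, 2, 2, 0, 0, 1, 3, 1,
   1, 2, 1, 1, 0, 0, 2, 2, 0, 1, 4, 3, 0, 2, 1, 2, 1, 2, 2, 4, 0, 0, 4, 3, 0, 1, 2, 2, 0, 4, 4, 4,
   2, 1, 4, 0, 3, 4, 2, 0, 1, 1, 0, 0, 3, 3, 2, 1, 3, 0, 4, 1, 0, 1, 0, 0, 4, 0, 4, 2, 1, 0, 2, 4,
   1, 3, 4, 2, 0, 2, 3, 4, 0, 0, 1, 0, 0, 3, 4, 3, 1, 4, 2, 3, 0, 4, 4, 1, 0, 4, 3, 3, 0, 4, 2, 4,
   1, 4, 3, 1, 0, 4, 1, 2, 0, 4, 4, 1, 0, 3, 1, 3, 3, 0, 0, 4, 0, 1, 0, 0, 4, 0, 1, 3, 3, 0, 0, 2,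
   1, 3, 1, 3, 0, 2, 2, 1, 0, 0, 1, 0, 0, 2, 4, 3, 1, 4, 4, 4, 0, 4, 3, 3, 0, 4, 0, 4, 0, 1, 1, 2,
   1, 4, 0, 2, 0, 4, 0, 4, 0, 4, 1, 2, 0, 0, 0, 1, 3, 1, 1, 0, 1, 4, 3, 0, 1, 3, 4, 0, 3, 4, 4, 1,
   3, 2, 4, 1, 1, 2, 2, 3, 3, 3, 2, 4, 3, 3, 1, 0, 3, 2, 0, 4, 1, 2, 0, 2, 3, 3, 1, 1, 0, 0, 0, 1,
   2, 1, 2, 0, 4, 0, 3, 0, 4, 4, 4, 0, 2, 2, 4, 1, 2, 3, 3, 2, 4, 3, 2, 3, 2, 1, 2, 4, 2, 1, 1, 0,
   2, 3, 0, 3, 4, 3, 0, 2, 2, 1, 1, 1, 0, 0, 0, 1, 1, 0, 0, 0, 1, 1, 0, 3, 1, 0, 1, 3, 1, 0, 0, 4,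
   1, 0, 0, 0, 1, 1, 1, 1, 1, 0, 2, 1, 2, 0, 2, 3, 1, 0, 0, 0, 1, 2, 4, 2, 2, 2, 4, 4, 2, 2, 3, 0,
   1, 0, 0, 0, 1, 1, 2, 4, 1, 0, 3, 4, 4, 0, 3, 2, 1, 0, 0, 0, 1, 1, 3, 2, 1, 0, 4, 2, 0, 0, 0, 1,
   1, 0, 0, 0, 1, 2, 1, 3, 2, 2, 3, 1, 0, 0, 0, 1, 1, 0, 0, 0, 1, 4, 2, 0, 0, 0, 1, 0, 0, 0, 0, 1,
   1, 0, 0, 0, 1, 3, 3, 1, 4, 3, 3, 4, 4, 3, 2, 0, 1, 0, 0, 0, 1, 3, 4, 4, 4, 3, 2, 1, 0, 0, 0, 1,
   4, 1, 0, 0, 0, 1, 0, 0, 0, 0, 1, 0, 0, 0, 0, 1, 4, 2, 3, 0, 3, 3, 3, 0, 3, 2, 4, 0, 4, 1, 4, 1,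
   4, 0, 2, 3, 3, 1, 2, 3, 4, 0, 2, 4, 4, 0, 1, 0, 4, 0, 0, 2, 3, 1, 0, 2, 4, 0, 1, 1, 0, 0, 0, 1,
   0, 1, 0, 3, 4, 2, 0, 3, 4, 1, 1, 3, 4, 1, 0, 4, 0, 1, 1, 1, 4, 2, 1, 1, 4, 1, 2, 1, 3, 2, 2, 3,
   0, 2, 4, 2, 4, 3, 4, 2, 3, 4, 4, 4, 3, 4, 3, 0, 0, 1, 2, 4, 4, 2, 2, 4, 4, 1, 3, 4, 1, 4, 3, 2,
   0, 1, 3, 2, 4, 2, 3, 2, 4, 1, 4, 2, 0, 0, 0, 1, 0, 2, 1, 3, 4, 3, 1, 3, 3, 4, 3, 1, 0, 0, 0, 1,
   0, 3, 3, 1, 4, 4, 3, 1, 1, 2, 3, 4, 1, 2, 2, 0, 0, 3, 4, 4, 4, 4, 4, 4, 1, 2, 2, 1, 0, 0, 0, 1,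
   0, 4, 2, 0, 4, 0, 2, 0, 0, 0, 1, 0, 0, 0, 0, 1, 1, 0, 0, 0, 0, 1, 0, 0, 0, 1, 0, 4, 0, 1, 4, 0,
   1, 0, 0, 0, 0, 1, 0, 0, 0, 1, 4, 1, 0, 0, 0, 1, 1, 0, 0, 0, 0, 1, 0, 0, 0, 0, 1, 0, 0, 0, 1, 4]

/-- the functional `a ↦ χ l ⬝ᵥ a` is the character of the root `reps[l]` on `T` (coordinates on `Y0`) -/
def χ (l : Fin 60) : V := fun j => ((chiT.getD (4 * l.val + j.val) 0 : ℕ) : ZMod 5)

/-- `chi[r_l b] ᵥ* r l = chi[b]` for every root `b` -/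
def r (l : Fin 60) : M4 :=
  Matrix.of fun i j => ((rT.getD (16 * l.val + 4 * i.val + j.val) 0 : ℕ) : ZMod 5)

/-- the two quadruples; index 0 is the centre node -/
def Q : Fin 2 → Fin 4 → Fin 60 := ![![0, 1, 11, 46], ![0, 1, 11, 50]]

/-- orders of the stabilisers -/
def nSt : Fin 2 → ℕ := ![2304, 768]

/-- indices `[N(J i) : J i]` -/
def nIx : Fin 2 → ℕ := ![12, 4]

/-- all products of reflections -/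
def G31 : Submonoid M4 := Submonoid.closure (Set.range r)

/-- products of the four reflections of `Q i` -/
def W (i : Fin 2) : Submonoid M4 := Submonoid.closure (Set.range fun k => r (Q i k))

def v5 : M4 := r 20 * r 6 * r 1 * r 0

/-- D4 quadruple of rank 4, centre at index 0 -/
structure Quad (q : Fin 4 → Fin 60) : Prop where
  braid : ∀ k, k ≠ 0 → r (q 0) * r (q k) * r (q 0) = r (q k) * r (q 0) * r (q k)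
  comm : ∀ j k, j ≠ 0 → k ≠ 0 → r (q j) * r (q k) = r (q k) * r (q j)
  rank : ∀ a : V, (∀ k, χ (q k) ⬝ᵥ a = 0) → a = 0

def St (i : Fin 2) : Set M4 :=
  {M | IsUnit M ∧ (∀ l, ∃ l', M * r l = r l' * M) ∧
    ∀ k, ∃ l', r l' ∈ W i ∧ M * r (Q i k) = r l' * M}

/-! ### certificates (h65) -/

def CertR : Prop := Function.Injective r ∧ (∀ l, r l * r l = 1) ∧ (∀ l, r l ≠ 1)

def CertQ : Prop := ∀ q, Quad q → ∃ i, ∃ M ∈ G31,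
  (∀ k, ∃ k', M * r (q k) = r (Q i k') * M) ∧ (∀ k', ∃ k, M * r (q k) = r (Q i k') * M)

def CertW : Prop := ∀ i, 192 ≤ (W i : Set M4).ncard

def CertD : Prop := ∀ i l, r l ∈ W i → ∃ M ∈ W i, ∃ k, M * r (Q i k) = r l * M

def CertS : Prop := ∀ i, (St i).ncard = nSt i ∧ St i ⊆ G31

def Cert5 : Prop := v5 ^ 5 = 1 ∧ ∀ k : ℕ, 0 < k → k < 5 → {a : V | (v5 ^ k) *ᵥ a = a}.ncard ≤ 5

structure Certs : Prop where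
  cr : CertR
  cq : CertQ
  cw : CertW
  cd : CertD
  cs : CertS
  c5 : Cert5

/-! ### the Lie side (h46) -/

/-- conjugate subgroup `g H g⁻¹`, written as in the statement -/
abbrev cS {Γ : Type*} [Group Γ] (g : Γ) (H : Subgroup Γ) : Subgroup Γ :=
  H.map (MulAut.conj g).toMonoidHom

/-- `g` normalises the torus `τ` and acts by the matrix `M` -/
def Act {Γ : Type*} [Group Γ] (τ : Multiplicative V →* Γ) (g : Γ) (M : M4) : Prop :=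
  ∀ a : V, g * τ (Multiplicative.ofAdd a) * g⁻¹ = τ (Multiplicative.ofAdd (M *ᵥ a))

structure Sys (Γ : Type*) [Group Γ] where
  τ : Multiplicative V →* Γ
  inj : Function.Injective τ
  K : Fin 60 → Subgroup Γ
  ν : Fin 60 → Γ
  cT : ∀ g : Γ, Act τ g 1 → g ∈ τ.range
  pres : ∀ g M, Act τ g M → ∀ l, ∃ l', M * r l = r l' * M ∧ cS g (K l) = K l'
  cardK : ∀ l, Nat.card (K l) ≤ 60
  νK : ∀ l, ν l ∈ K l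
  νA : ∀ l, Act τ (ν l) (r l)
  u4 : ∀ (f : V) (A : Subgroup Γ) (c : V), f ≠ 0 →
    (∀ x ∈ A, ∀ a : V, f ⬝ᵥ a = 0 →
      x * τ (Multiplicative.ofAdd a) = τ (Multiplicative.ofAdd a) * x) →
    ⁅A, A⁆ = A → τ (Multiplicative.ofAdd c) ∈ A →
    A ≤ Subgroup.closure {y | ∃ x ∈ A, y = x * τ (Multiplicative.ofAdd c) * x⁻¹} → A ≠ ⊥ →
    ∃ l, (∀ a : V, f ⬝ᵥ a = 0 ↔ χ l ⬝ᵥ a = 0) ∧ A ≤ K l
  n56 : ¬ 5 ^ 6 ∣ Nat.card Γ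

namespace Sys
variable {Γ : Type*} [Group Γ] (S : Sys Γ)
/-- the torus -/
def T : Subgroup Γ := S.τ.range
/-- the two candidates -/
def J (i : Fin 2) : Subgroup Γ := ⨆ k, S.K (Q i k)
/-- output of U5 -/
def Good (X : Subgroup Γ) : Prop :=
  S.T ≤ X ∧ Nat.card ↥(Subgroup.normalizer (S.T : Set Γ) ⊓ X) = 625 * 192
end Sys

/-! ### the model of the orthogonal group (h86); index 0 is the centre node -/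

structure Mod (H : Type*) [Group H] where
  fin : Finite H
  simple : IsSimpleGroup H
  nab : ¬ ∀ x y : H, x * y = y * x
  n55 : ¬ 5 ^ 5 ∣ Nat.card H
  T0 : Subgroup H
  A : Fin 4 → Subgroup H
  Ti : Fin 4 → Subgroup H
  c : Fin 4 → H
  s : Fin 4 → H
  tcomm : ∀ x ∈ T0, ∀ y ∈ T0, x * y = y * x
  tcard : Nat.card T0 = 625
  acard : ∀ i, 60 ≤ Nat.card (A i)
  aperf : ∀ i, ⁅A i, A i⁆ = A i
  cT : ∀ i, c i ∈ T0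
  cA : ∀ i, c i ∈ A i
  c1 : ∀ i, c i ≠ 1
  ancl : ∀ i, A i ≤ Subgroup.closure {y | ∃ x ∈ A i, y = x * c i * x⁻¹}
  tle : ∀ i, Ti i ≤ T0
  ticard : ∀ i, Nat.card (Ti i) = 125
  acen : ∀ i, ∀ x ∈ A i, ∀ t ∈ Ti i, x * t = t * x
  gen : ⨆ i, A i = ⊤
  sA : ∀ i, s i ∈ A i
  sc : ∀ i, s i * c i * (s i)⁻¹ = (c i)⁻¹
  braid : ∀ k, k ≠ 0 → ∀ t ∈ T0,
    (s 0 * s k * s 0) * t * (s 0 * s k * s 0)⁻¹ = (s k * s 0 * s k) * t * (s k * s 0 * s k)⁻¹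
  comm : ∀ j k, j ≠ 0 → k ≠ 0 → ∀ t ∈ T0,
    (s j * s k) * t * (s j * s k)⁻¹ = (s k * s j) * t * (s k * s j)⁻¹
  inter : ∀ t, (∀ i, t ∈ Ti i) → t = 1
  ncard : Nat.card ↥(Subgroup.normalizer (T0 : Set H)) = 625 * 192

/-! ### the conclusion -/

def Cl {Γ : Type*} [Group Γ] (P : Subgroup Γ → Prop) (k : ℕ) : Prop :=
  ∃ f : Fin k → Subgroup Γ, (∀ i, P (f i)) ∧
    (∀ i j, (∃ g : Γ, (f i).map (MulAut.conj g).toMonoidHom = f j) → i = j) ∧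
    (∀ H, P H → ∃ (i : Fin k) (g : Γ), H.map (MulAut.conj g).toMonoidHom = f i)

/-- `F*(H) ≅ Om` of index `n` -/
def PF {Γ : Type*} [Group Γ] (Om : Type*) [Group Om] (n : ℕ) (H : Subgroup Γ) : Prop :=
  Nonempty (Cfsg.generalizedFittingSubgroup H ≃* Om) ∧ (Cfsg.generalizedFittingSubgroup H).index = n

def Concl (Γ : Type*) [Group Γ] (Om : Type*) [Group Om] : Prop :=
  Cl (fun H : Subgroup Γ => Nonempty (H ≃* Om)) 2 ∧ Cl (PF (Γ := Γ) Om 3) 1 ∧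
    Cl (PF (Γ := Γ) Om 4) 2 ∧ Cl (PF (Γ := Γ) Om 12) 1

/-- target of chapter E -/
def TwoOm (Γ : Type*) [Group Γ] (Om : Type*) [Group Om] : Prop :=
  ∃ H1 H2 : Subgroup Γ, Nonempty (H1 ≃* Om) ∧ Nonempty (H2 ≃* Om) ∧ ¬ ∃ g : Γ, cS g H1 = H2

/-- the purely group-theoretic situation after U6 -/
structure Fam (Γ : Type*) [Group Γ] (Om : Type*) [Group Om] where
  J : Fin 2 → Subgroup Γ
  iso : ∀ i, Nonempty (J i ≃* Om)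
  all : ∀ H : Subgroup Γ, Nonempty (H ≃* Om) → ∃ i g, cS g H = J i
  nc : ∀ i j, (∃ g, cS g (J i) = J j) → i = j
  cen : ∀ i, Subgroup.centralizer (J i : Set Γ) = ⊥
  idx : ∀ i, (J i).relIndex (Subgroup.normalizer (J i : Set Γ)) = nIx i

/-! ### jobs -/

/-- transport of `Sys` along an isomorphism -/
def JobTR : Prop := ∀ (Γ Γ' : Type) [Group Γ] [Group Γ'], Sys Γ → (Γ ≃* Γ') → Nonempty (Sys Γ')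

/-- every abelian subgroup of order 625 is conjugate to `T` -/
def U3 {Γ : Type*} [Group Γ] (S : Sys Γ) : Prop :=
  ∀ B : Subgroup Γ, (∀ x ∈ B, ∀ y ∈ B, x * y = y * x) → Nat.card B = 625 → ∃ g, cS g B = S.T

def JobU3 : Prop := ∀ (Γ : Type) [Group Γ] [Finite Γ] (S : Sys Γ), Cert5 → U3 S

/-- a subgroup of order 125 of `T` is a hyperplane -/
def HYP {Γ : Type*} [Group Γ] (S : Sys Γ) : Prop :=
  ∀ B : Subgroup Γ, B ≤ S.T → Nat.card B = 125 →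
    ∃ f : V, f ≠ 0 ∧ ∀ a : V, S.τ (Multiplicative.ofAdd a) ∈ B ↔ f ⬝ᵥ a = 0

def JobHYP : Prop := ∀ (Γ : Type) [Group Γ] (S : Sys Γ), HYP S

/-- counting through the action on `T` -/
def CNT {Γ : Type*} [Group Γ] (S : Sys Γ) : Prop :=
  ∀ X : Subgroup Γ, S.T ≤ X → X ≤ Subgroup.normalizer (S.T : Set Γ) →
    Nat.card X = 625 * {M : M4 | ∃ g ∈ X, Act S.τ g M}.ncard

def JobCNT : Prop := ∀ (Γ : Type) [Group Γ] [Finite Γ] (S : Sys Γ), CNT S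

/-- one node: a group `A` as in the model is `K l`, and `s` acts as `r l` -/
def NODE {Γ : Type*} [Group Γ] (S : Sys Γ) : Prop :=
  ∀ (A B : Subgroup Γ) (c s : Γ), 60 ≤ Nat.card A → ⁅A, A⁆ = A → c ∈ S.T → c ∈ A → c ≠ 1 →
    A ≤ Subgroup.closure {y | ∃ x ∈ A, y = x * c * x⁻¹} → B ≤ S.T → Nat.card B = 125 →
    (∀ x ∈ A, ∀ t ∈ B, x * t = t * x) → s ∈ A → s * c * s⁻¹ = c⁻¹ →
    ∃ l, A = S.K l ∧ Act S.τ s (r l) ∧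
      ∀ a : V, S.τ (Multiplicative.ofAdd a) ∈ B ↔ χ l ⬝ᵥ a = 0

def JobNODE : Prop := ∀ (Γ : Type) [Group Γ] [Finite Γ] (S : Sys Γ), CertR → HYP S → NODE S

/-- U5, first half -/
def U5a {Γ : Type*} [Group Γ] (S : Sys Γ) (Om : Type*) [Group Om] : Prop :=
  ∀ H : Subgroup Γ, Nonempty (H ≃* Om) →
    ∃ g q, Quad q ∧ cS g H = ⨆ k, S.K (q k) ∧ S.Good (cS g H)

def JobU5a : Prop := ∀ (Γ : Type) [Group Γ] [Finite Γ] (S : Sys Γ) (Om : Type u) [Group Om],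
  Mod Om → U3 S → NODE S → U5a S Om

/-- U5 -/
def U5 {Γ : Type*} [Group Γ] (S : Sys Γ) (Om : Type*) [Group Om] : Prop :=
  ∀ H : Subgroup Γ, Nonempty (H ≃* Om) → ∃ g i, cS g H = S.J i ∧ S.Good (S.J i)

def JobU5 : Prop := ∀ (Γ : Type) [Group Γ] [Finite Γ] (S : Sys Γ) (Om : Type u) [Group Om],
  CertR → CertQ → U5a S Om → U5 S Om

/-- the order of `N(T) ⊓ N(J i)` -/
def JobNN : Prop := ∀ (Γ : Type) [Group Γ] [Finite Γ] (S : Sys Γ) (i : Fin 2),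
  CertR → CertW → CertD → CertS → CNT S → S.Good (S.J i) →
    Nat.card ↥(Subgroup.normalizer (S.T : Set Γ) ⊓ Subgroup.normalizer (S.J i : Set Γ)) = 625 * nSt i

/-- Frattini -/
def JobFR : Prop := ∀ (Γ : Type) [Group Γ] [Finite Γ] (T J : Subgroup Γ) (a n : ℕ), T ≤ J →
  Nat.card T = 625 → ¬ 5 ^ 5 ∣ Nat.card J →
  Nat.card ↥(Subgroup.normalizer (T : Set Γ) ⊓ J) = a →
  Nat.card ↥(Subgroup.normalizer (T : Set Γ) ⊓ Subgroup.normalizer (J : Set Γ)) = a * n →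
  J.relIndex (Subgroup.normalizer (J : Set Γ)) = n

/-- `F*` of a group between `J` and `N(J)` -/
def FS (Γ : Type*) [Group Γ] : Prop :=
  ∀ J H : Subgroup Γ, IsSimpleGroup J → (¬ ∀ x y : J, x * y = y * x) →
    Subgroup.centralizer (J : Set Γ) = ⊥ → J ≤ H → H ≤ Subgroup.normalizer (J : Set Γ) →
    Cfsg.generalizedFittingSubgroup H = J.subgroupOf H

def JobFS : Prop := ∀ (Γ : Type) [Group Γ] [Finite Γ], FS Γ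

/-- `H` lies between `J i` and `N(J i)` with index `n` -/
def Btw {Γ : Type*} [Group Γ] (J : Subgroup Γ) (n : ℕ) (H : Subgroup Γ) : Prop :=
  J ≤ H ∧ H ≤ Subgroup.normalizer (J : Set Γ) ∧ J.relIndex H = n

/-- translation of `PF` -/
def PFT {Γ : Type*} [Group Γ] {Om : Type*} [Group Om] (F : Fam Γ Om) : Prop :=
  (∀ n H, PF Om n H → ∃ g i, Btw (F.J i) n (cS g H)) ∧ (∀ n i H, Btw (F.J i) n H → PF Om n H) ∧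
  (∀ n m i j H H', Btw (F.J i) n H → Btw (F.J j) m H' → (∃ g, cS g H = H') → i = j)

def JobPFT : Prop := ∀ (Γ : Type) [Group Γ] [Finite Γ] (Om : Type u) [Group Om] (F : Fam Γ Om),
  IsSimpleGroup Om → (¬ ∀ x y : Om, x * y = y * x) → FS Γ → PFT F

/-- Sylow in `N(J)/J` -/
def SYL (Γ : Type*) [Group Γ] : Prop :=
  ∀ (J : Subgroup Γ) (p k m : ℕ), p.Prime → ¬ p ∣ m →
    J.relIndex (Subgroup.normalizer (J : Set Γ)) = p ^ k * m →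
    (∃ H, Btw J (p ^ k) H) ∧ ∀ H H', Btw J (p ^ k) H → Btw J (p ^ k) H' → ∃ g, cS g H = H'

def JobSYL : Prop := ∀ (Γ : Type) [Group Γ] [Finite Γ], SYL Γ

def JobCL : Prop := ∀ (Γ : Type) [Group Γ] [Finite Γ] (Om : Type u) [Group Om] (F : Fam Γ Om),
  PFT F → SYL Γ → Concl Γ Om

end H36.O84
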