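import Cfsg.Agent.H36.QEVt
import Cfsg.Agent.H14.AutInn

/-! Tower QE: the exceptional vertical pumpup (`JobEx`). -/

set_option autoImplicit false

namespace H36.QE

open Cfsg Subgroup H14 H98 H97
open H14.CO (cen cen1 nor cm Tw mem_cen mem_cen1)

universe u

variable {G : Type u} [Group G] [Finite G] {z t y : G} {L J P : Subgroup G}

/-- Burnside's fusion lemma -/
theorem burnside (hP : IsSyl 2 P ⊤) {z w : G} (h1 : P ≤ cen1 z) (h2 : P ≤ cen1 w) (h : IsConj z w) :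
    ∃ n ∈ nor P, n * z * n⁻¹ = w := by
  obtain ⟨g, rfl⟩ := isConj_iff.1 h
  obtain ⟨k, h3, h4⟩ := ((hP.cj_of_mem (g := g) trivial).of_le (cj_cen1 g z ▸ cj_mono g h1)
    le_top).exists_cj_eq (hP.of_le h2 le_top)
  refine ⟨k * g, cj_eq_self_iff.1 (by rw [← cj_cj, h4]), ?_⟩
  exact Eq.trans (by group) (CO.cj_eq_of_comm (mem_cen1.1 h3))

theorem Ac.not_nc (hA : Ac z t y L J P) {y0 : G} (h1 : y0 ∈ P ⊓ cen L) (h2 : y0 ∉ cen1 t) {w : G}
    (h3 : P ≤ cen1 w) (h4 : IsConj z w) (h5 : w ≠ z) : ¬ NC L := fun nc => by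
  have st := hA.tb.st
  have hp := hA.top.isPGroup
  obtain ⟨n, n1, n2⟩ := burnside hA.top st.cz h3 h4
  have A : ∀ m ∈ nor P, ∀ s ∈ H98.cj m (P ⊓ cen L), CO.Inv s → s ∈ cen P → s = m * z * m⁻¹ := by
    rintro m hm _ ⟨s, hs, rfl⟩ a1 a2
    have a3 : s ∈ cen P := by
      have := cj_mem_cen (inv_mem hm) a2
      simpa [mul_assoc] using this
    have a4 := CO.cj_eq_of_comm (mem_cen.1 a3 y hA.tb.ymem)
    rcases hA.rt s hs.1 hs.2 (mem_cen1.2 (mem_cen.1 a3 t hA.tb.mem).symm) with rfl | rfl | rfl | rfl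
    · exact (a1.1 (map_one _)).elim
    · exact (st.inv.1 (by simpa [a4] using hA.yt.symm)).elim
    · rfl
    · have : y * (t * z) * y⁻¹ = t * z * z :=
        calc _ = y * t * y⁻¹ * (y * z * y⁻¹) := by group
          _ = _ := by rw [hA.yt, CO.cj_eq_of_comm (mem_cen1.1 (st.cz hA.tb.ymem))]
      exact (st.inv.1 (by simpa [a4] using this.symm)).elim
  have N : ∀ m ∈ nor P, H98.cj m (P ⊓ cen L) ≤ P ∧ P ≤ nor (H98.cj m (P ⊓ cen L)) := fun m hm =>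
    ⟨cj_le_of_le inf_le_left hm, by
      rw [nor, ← cj_normalizer, le_cj_iff, cj_eq_self (inv_mem hm)]
      exact le_normalizer_inf le_normalizer (le_normalizer_centralizer st.syl.le)⟩
  have B : ∀ m ∈ nor P, ∀ m' ∈ nor P, m * z * m⁻¹ ≠ m' * z * m'⁻¹ →
      H98.cj m (P ⊓ cen L) ⊓ H98.cj m' (P ⊓ cen L) = ⊥ := fun m hm m' hm' a => by
    by_contra a1
    obtain ⟨s, s1, s2, s3⟩ := CO.exists_inv_cen hp (hp.to_le (inf_le_left.trans (N m hm).1))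
      (le_normalizer_inf (N m hm).2 (N m' hm').2) a1
    exact a ((A m hm s s1.1 s2 s3).symm.trans (A m' hm' s s1.2 s2 s3))
  have C : ∀ m ∈ nor P, m ∉ cen1 z → ¬ IsMulCommutative
      (((H98.cj m (P ⊓ cen L)).subgroupOf (nor L)).map L.normalizerMonoidHom) := fun m hm a hc => by
    have a1 := B m hm 1 (one_mem _) fun e => a (mem_cen1.2 (by simpa [mul_inv_eq_iff_eq_mul] using e))
    rw [H98.cj_one] at a1
    have a2 : m * y0 * m⁻¹ ∈ H98.cj m (P ⊓ cen L) := conj_mem_cj h1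
    have a3 : m * t * m⁻¹ ∈ H98.cj m (P ⊓ cen L) := conj_mem_cj ⟨hA.tb.mem, hA.tb.cl⟩
    have a4 := CO.cm_mem a2 a3
    let a : nor L := ⟨_, st.syl.le ((N m hm).1 a2)⟩
    let b : nor L := ⟨_, st.syl.le ((N m hm).1 a3)⟩
    have a5 : L.normalizerMonoidHom (cm a b) = 1 := by
      have := congrArg Subtype.val (hc.1.1 ⟨_, mem_map_of_mem _ (show a ∈ _ from a2)⟩
        ⟨_, mem_map_of_mem _ (show b ∈ _ from a3)⟩)
      simp only [cm, map_mul, map_inv]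
      exact CO.cm_eq_one.2 this
    have a6 := mem_bot.1 (a1.le ⟨a4, (N m hm).1 a4, (isAutRep_self L).eq_one_iff.1 a5⟩)
    rw [CO.cm_cj, conj_eq_one_iff] at a6
    exact h2 (mem_cen1.2 (CO.cm_eq_one.1 a6))
  have d1 : n ∉ cen1 z := fun e => h5 (n2 ▸ CO.cj_eq_of_comm (mem_cen1.1 e))
  have d2 : n * n ∉ cen1 z := fun e => by
    obtain ⟨_, ⟨m, rfl⟩, hm⟩ := CO.exists_odd_tw n
    have := st.cz (zpowers_le.1 (hA.top.le_of_le_normalizer' hm.zp le_top (zpowers_le.2 (pow_mem n1 _))))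
    rw [pow_succ, pow_mul, pow_two] at this
    exact d1 ((mul_mem_cancel_left (pow_mem e m)).1 this)
  have d3 := B n n1 (n * n) (mul_mem n1 n1) fun e => d1 (mem_cen1.2 (by
    have : n * (n * z * n⁻¹) * n⁻¹ = n * z * n⁻¹ := Eq.trans (by group) e.symm
    exact mul_inv_eq_iff_eq_mul.1 (mul_left_cancel (mul_right_cancel this))))
  refine (nc _ _ (((hp.to_le (N n n1).1).comap_subtype).map _)
    (((hp.to_le (N _ (mul_mem n1 n1)).1).comap_subtype).map _) ?_).elim (C n n1 d1) (C _ (mul_mem n1 n1) d2)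
  rintro _ ⟨a, ha, rfl⟩
  refine mem_cen.2 ?_
  rintro _ ⟨b, hb, rfl⟩
  rw [← map_mul, ← map_mul]
  refine congrArg _ (Subtype.ext (CO.cm_eq_one.1 (mem_bot.1 (d3 ▸ ⟨CO.cm_mem_right ((N n n1).2
    ((N _ (mul_mem n1 n1)).1 hb)) ha, CO.cm_mem_left hb ((N _ (mul_mem n1 n1)).2 ((N n n1).1 ha))⟩))))

theorem jobEx : JobEx.{u} := by
  rintro G _ _ h k z t y L J P hA ⟨zj, nc, ex⟩
  have tb := hA.tb
  have st := tb.st
  have vt := hA.vt
  have hp := hA.top.isPGroup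
  have hpt : IsPGroup 2 (P ⊓ cen1 t : Subgroup G) := hp.to_le inf_le_left
  have nJ : P ⊓ cen1 t ≤ nor J := tb.syl.le.trans (inf_comm (nor L) _ ▸ k.vtn z t L J vt)
  obtain ⟨S, hS, s1⟩ := exists_isSyl_le hpt inf_le_right
  have s2 : ∀ s ∈ S, s ∈ cen1 z → s ∈ P ⊓ cen1 t := fun s a1 a2 =>
    (tb.syl.eq_of_le (hS.isPGroup.to_le inf_le_left) (le_inf s1 (inf_le_left.trans st.cz))
      (le_inf (inf_le_right.trans hA.nz) (inf_le_left.trans hS.le))).le (⟨a1, a2⟩ : s ∈ S ⊓ cen1 z)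
  have hU := hS.inf_subN vt.1.1
  have nU : P ⊓ cen1 t ≤ nor (S ⊓ J) := le_normalizer_inf (s1.trans le_normalizer) nJ
  have c1 := (h.gv t z L J tb.inv vt.1 vt.2).four _ (P ⊓ cen1 t ⊓ (S ⊓ J)) hU inf_le_right fun d hd => by
    rw [CO.cm_eq_one.2 (mem_cen1.1 (st.cz hd.1.1))]; exact one_mem _
  have c0 : 0 < Nat.card (P ⊓ cen1 t ⊓ (S ⊓ J) : Subgroup G) := Nat.card_pos
  have c2 : 4 * Nat.card (P ⊓ cen1 t : Subgroup G) ≤ Nat.card P := by
    have a1 := CO.card_sup_mul nU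
    have a2 := hA.top.card_le (hS.isPGroup.to_le (sup_le s1 (inf_le_left : S ⊓ J ≤ S))) le_top
    refine le_trans (Nat.le_of_mul_le_mul_right ?_ c0) a2
    rw [a1]; nlinarith
  have yz := CO.cj_eq_of_comm (mem_cen1.1 (st.cz tb.ymem))
  have tz : ∀ p ∈ P, p * t * p⁻¹ ∈ cen1 t → p ∉ cen1 t → p * t * p⁻¹ = t * z := fun p a1 a2 a3 => by
    rcases hA.rt _ (conj_mem_of_mem_normalizer (le_normalizer a1) tb.mem) (cj_mem_cen (st.syl.le a1) tb.cl)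
      a2 with e | e | e | e
    · exact ((tb.inv.cj p).1 e).elim
    · exact (a3 (mem_cen1.2 (mul_inv_eq_iff_eq_mul.1 e))).elim
    · exact (hA.nc (isConj_iff.2 ⟨p, e⟩).symm).elim
    · exact e
  have r1 : ¬ P ⊓ cen L ≤ P ⊓ cen L ⊓ cen1 t := fun a => by
    have a1 : (cen1 t).relIndex P ∣ 2 := index_dvd_two_iff'.2 ⟨⟨y⁻¹, inv_mem tb.ymem⟩, fun ⟨p, a1⟩ =>
      or_iff_not_imp_right.2 fun a2 => mem_cen1.2 (show y⁻¹ * p * t = t * (y⁻¹ * p) by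
        have a3 := tz p a1 (a ⟨conj_mem_of_mem_normalizer (le_normalizer a1) tb.mem,
          cj_mem_cen (st.syl.le a1) tb.cl⟩).2 a2
        rw [← hA.yt] at a3
        calc y⁻¹ * p * t = y⁻¹ * (p * t * p⁻¹) * p := by group
          _ = _ := by rw [a3]; group)⟩
    have a2 := card_relIndex (inf_le_left : P ⊓ cen1 t ≤ P)
    rw [inf_relIndex_left] at a2
    have a3 := Nat.le_of_dvd two_pos a1
    have a4 : 0 < Nat.card (P ⊓ cen1 t : Subgroup G) := Nat.card_pos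
    nlinarith
  have nR : P ⊓ cen1 t ≤ nor (P ⊓ cen L) :=
    inf_le_left.trans (le_normalizer_inf le_normalizer (le_normalizer_centralizer st.syl.le))
  obtain ⟨y0, y1, y2, y3, y4, y5⟩ := H91.KLA.fp hpt (hp.to_le inf_le_left) nR
    (le_normalizer_inf nR (inf_le_right.trans le_normalizer)) inf_le_left r1
  have y6 : y0 ∉ cen1 t := fun a => y2 ⟨y1, a⟩
  have y7 := tz y0 y1.1 (conj_mem_of_mem_normalizer y3 ⟨⟨tb.mem, tb.cl⟩, mem_cen1.2 rfl⟩).2 y6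
  have y8 := CO.cj_eq_of_comm (mem_cen1.1 (st.cz y1.1))
  obtain ⟨x, x1, x2, -, x4, x5⟩ := H91.KLA.fp hpt hU.isPGroup nU
    (le_normalizer_inf le_normalizer nU) inf_le_right (fun a => by have := card_le_of_le a; omega)
  have x6 := x5 z tb.zmem
  obtain ⟨c, hc⟩ : ∃ c, c = cm x z := ⟨_, rfl⟩
  rw [← hc] at x6
  have e1 : x * z * x⁻¹ = c * z := by simp [hc, cm]
  have e2 : c * z = z * c := mem_cen1.1 (st.cz x6.1.1)
  have z2 := st.inv.2
  have e3 : c * c = 1 := by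
    have := (st.inv.cj x).2
    rwa [e1, mul_assoc, ← mul_assoc z, ← e2, mul_assoc c z, z2, mul_one] at this
  have e4 : c ≠ 1 := fun e => x2 ⟨s2 x x1.1 (mem_cen1.2 (CO.cm_eq_one.1 (hc ▸ e))), x1⟩
  have e5 : P ⊓ cen1 t ≤ cen1 c := fun p a => by
    have a1 : H98.cj x (P ⊓ cen1 t) = P ⊓ cen1 t := cj_eq_self (mem_normalizer_of_cj_le (by
      rintro _ ⟨q, hq, rfl⟩
      simpa [cm] using mul_mem (x5 q hq).1 hq))
    have a2 := cj_mono x (inf_le_left.trans st.cz : P ⊓ cen1 t ≤ cen1 z) (a1.ge a)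
    rw [cj_cen1, e1] at a2
    simpa using mem_cen1_symm (mul_mem (mem_cen1_symm a2) (inv_mem (mem_cen1_symm (st.cz a.1))))
  have e6 : x * c * x⁻¹ = c := by
    have a1 : x * c * x⁻¹ * c * z = 1 * z :=
      calc _ = x * c * x⁻¹ * (x * z * x⁻¹) := by rw [e1, mul_assoc]
        _ = x * (c * z) * x⁻¹ := by group
        _ = x * (x * z * x⁻¹) * x⁻¹ := by rw [e1]
        _ = x * x * z * (x * x)⁻¹ := by group
        _ = _ := by rw [CO.cj_eq_of_comm (mem_cen1.1 (st.cz x4.1.1)), one_mul]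
    rw [eq_inv_of_mul_eq_one_left (mul_right_cancel a1), inv_eq_of_mul_eq_one_right e3]
  have k1 := y5 c x6.1
  have k2 : y0 * cm y0 c * y0⁻¹ * cm y0 c = 1 := by
    rw [← CO.cm_sq_left, CO.cm_eq_one, mem_cen1.1 (e5 ⟨y4.1.1, y4.2⟩)]
  have t2 := tb.inv.2
  have zt := tb.comm
  have xt := CO.cj_eq_of_comm (mem_cen1.1 (vt.1.le x1.2))
  have cz : x * (c * z) * x⁻¹ = z :=
    calc _ = x * c * x⁻¹ * (x * z * x⁻¹) := by group
      _ = _ := by rw [e6, e1, ← mul_assoc, e3, one_mul]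
  rcases hA.rt _ k1.1.1 k1.1.2 k1.2 with e | e | e | e
  · have a0 := CO.cj_eq_of_comm (CO.cm_eq_one.1 e)
    have a1 : x * y0 * x⁻¹ ∈ cen1 z := mem_cen1.2 (mul_inv_eq_iff_eq_mul.1 (
      calc _ = x * y0 * x⁻¹ * (x * (c * z) * x⁻¹) * (x * y0 * x⁻¹)⁻¹ := by rw [cz]
        _ = x * (y0 * c * y0⁻¹ * (y0 * z * y0⁻¹)) * x⁻¹ := by group
        _ = z := by rw [a0, y8, cz]))
    have a2 := cj_mem_cen (hA.nz a1) tb.cl
    have a3 : x * y0 * x⁻¹ * t * (x * y0 * x⁻¹)⁻¹ = t * c * z :=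
      calc _ = x * y0 * x⁻¹ * (x * t * x⁻¹) * (x * y0 * x⁻¹)⁻¹ := by rw [xt]
        _ = x * (y0 * t * y0⁻¹) * x⁻¹ := by group
        _ = x * t * x⁻¹ * (x * z * x⁻¹) := by rw [y7]; group
        _ = _ := by rw [xt, e1, mul_assoc]
    rw [a3, mul_mem_cancel_right (mem_cen_of_le st.cp.le), mul_mem_cancel_left tb.cl] at a2
    rcases hA.rt c x6.1.1 a2 x6.1.2 with b | b | b | b
    · exact e4 b
    · exact tb.inv.1 (mem_bot.1 (zj.le ⟨b ▸ x6.2.2, mem_cen_of_le vt.1.le⟩))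
    · exact (st.inv.cj x).1 (by rw [e1, b, z2])
    · exact hA.nc (isConj_iff.2 ⟨x, by rw [e1, b, mul_assoc, z2, mul_one]⟩)
  · rw [e, y7, mul_assoc, ← zt, ← mul_assoc, t2, one_mul] at k2
    exact st.inv.1 k2
  · have a1 : y0 * c * y0⁻¹ = x * z * x⁻¹ := by rw [e1, e2, ← e]; simp [cm]
    have a2 : (x⁻¹)⁻¹ * z * x⁻¹ * z = c := by rw [inv_inv, e1, mul_assoc, z2, mul_one]
    obtain ⟨d, d1, d2⟩ := ex x⁻¹ (inv_mem x1.2) (a2 ▸ ⟨e4, e3⟩)
    obtain ⟨l, l1, l2⟩ := c1_center st.syl d1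
    rw [a2] at d2
    refine hA.not_nc y1 y6 (le_cen1 l2.2) (((isConj_iff.2 ⟨x, rfl⟩).trans (isConj_iff.2 ⟨y0, a1⟩).symm).trans
      (d2.trans (isConj_iff.2 ⟨l, rfl⟩))) (fun b => st.inv.1 (mem_bot.1 (hA.zl.le
        ⟨b ▸ L.mul_mem (L.mul_mem l1 d.2) (L.inv_mem l1), mem_cen_of_le st.cp.le⟩))) nc
  · have a1 : y0 * (t * z) * y0⁻¹ = t :=
      calc _ = y0 * t * y0⁻¹ * (y0 * z * y0⁻¹) := by group
        _ = _ := by rw [y7, y8, mul_assoc, z2, mul_one]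
    rw [e, a1, ← mul_assoc, t2, one_mul] at k2
    exact st.inv.1 k2

end H36.QE
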