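import Cfsg.Agent.H36.QEKit
import Cfsg.Agent.H14.TwoBal
import Cfsg.Agent.H14.PTerm1
import Cfsg.Agent.H3.KFBaseU

/-! Tower QE: the pumpup kit (`JobPk`). -/

set_option autoImplicit false

namespace H36.QE

open Cfsg Subgroup H14 H98 H97
open H14.CO (cen cen1 nor cm Tw mem_cen mem_cen1)

universe u

variable {G : Type u} [Group G]

theorem cen_of_comm {A B : Subgroup G} (h : ⁅A, B⁆ = ⊥) : A ≤ cen B :=
  commutator_eq_bot_iff_le_centralizer.1 h

theorem comm_of_cen {A B : Subgroup G} (h : A ≤ cen B) : ⁅A, B⁆ = ⊥ :=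
  commutator_eq_bot_iff_le_centralizer.2 h

theorem mem_cen1_symm {a b : G} (h : a ∈ cen1 b) : b ∈ cen1 a := mem_cen1.2 (mem_cen1.1 h).symm

theorem le_cen1 {A : Subgroup G} {x : G} (h : x ∈ cen A) : A ≤ cen1 x := fun a ha =>
  mem_cen1.2 (mem_cen.1 h a ha)

theorem mem_cen_of_le {A : Subgroup G} {x : G} (h : A ≤ cen1 x) : x ∈ cen A :=
  mem_cen.2 fun _ ha => mem_cen1.1 (h ha)

theorem nor_cen1 {g x : G} (h : g ∈ cen1 x) : g ∈ nor (cen1 x) := le_normalizer h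

theorem not_le_cen_self {L : Subgroup G} (h : IsQuasisimple L) : ¬ L ≤ cen L := fun h1 =>
  quasi_sub_commutator_ne_bot h (comm_of_cen h1)

/-- an element that acts trivially on `J / Z(J)` centralises the perfect group `J` -/
theorem cen_of_perfect {J : Subgroup G} (hJ : ⁅J, J⁆ = J) {r : G}
    (h : ∀ j ∈ J, j⁻¹ * (r * j * r⁻¹) ∈ J ⊓ cen J) : r ∈ cen J := by
  refine mem_cen_of_le (hJ.ge.trans (commutator_le.2 fun a ha b hb => mem_cen1.2 ?_))
  obtain ⟨u1, u2⟩ := h a ha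
  obtain ⟨v1, v2⟩ := h b hb
  have e1 := mem_cen.1 u2 _ (mul_mem hb v1)
  have e2 := mem_cen.1 v2 _ (inv_mem ha)
  rw [eq_comm, ← mul_inv_eq_iff_eq_mul, commutatorElement_def]
  generalize hu : a⁻¹ * (r * a * r⁻¹) = u at *
  generalize hv : b⁻¹ * (r * b * r⁻¹) = v at *
  calc r * (a * b * a⁻¹ * b⁻¹) * r⁻¹ = a * (u * (b * v)) * u⁻¹ * a⁻¹ * v⁻¹ * b⁻¹ := by
        rw [← hu, ← hv]; group
    _ = a * b * (v * a⁻¹) * v⁻¹ * b⁻¹ := by rw [← e1]; group
    _ = _ := by rw [← e2]; group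

theorem card_le_two_inf [Finite G] {T D U : Subgroup G} (hD : D ≤ T) (hU : U ≤ T) {n : ℕ}
    (h : Nat.card T ≤ n * Nat.card D) : Nat.card U ≤ n * Nat.card (D ⊓ U : Subgroup G) := by
  have h2 : ∀ {X Y : Subgroup G}, X ≤ Y → Nat.card X * X.relIndex Y = Nat.card Y := fun {X Y} e => by
    rw [relIndex, ← card_mul_index (X.subgroupOf Y), Nat.card_congr (subgroupOfEquivOfLe e).toEquiv]
  have h3 : D.relIndex T ≤ n := by
    rw [← h2 hD, mul_comm] at h
    exact Nat.le_of_mul_le_mul_right h Nat.card_pos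
  have h4 := (relIndex_le_of_le_right hU (index_ne_zero_of_finite (H := D.subgroupOf T))).trans h3
  rw [← h2 (inf_le_right : D ⊓ U ≤ U), inf_relIndex_right, mul_comm]
  exact Nat.mul_le_mul_right _ h4

theorem two_card_le [Finite G] {A B : Subgroup G} (h : A ≤ B) (hn : ¬ B ≤ A) :
    2 * Nat.card A ≤ Nat.card B := by
  obtain ⟨k, hk⟩ := card_dvd_of_le h
  have h1 := CO.card_lt_of_lt h hn
  have h2 : 0 < Nat.card A := Nat.card_pos
  rcases k with _ | _ | k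
  · omega
  · omega
  · rw [hk]; nlinarith

theorem le_of_index_two [Finite G] {D U X : Subgroup G} (h : Nat.card U ≤ 2 * Nat.card D)
    (h1 : D ≤ X) (h2 : X ≤ U) (h3 : ¬ X ≤ D) : U ≤ X :=
  (CO.eq_of_le_of_card_le h2 (h.trans (two_card_le h1 h3))).ge

theorem ea_step [Finite G] {p : ℕ} (hp : p.Prime) (h2 : p ≠ 2) {E B : Subgroup G}
    (hE : IsElementaryAbelian p E) (hc : E ≤ cen B) (hB : IsPGroup 2 (B ⊓ cen B : Subgroup G))
    (hd : p ∣ Nat.card B) :
    ∃ E' ≤ E ⊔ B, IsElementaryAbelian p E' ∧ Nat.card E' = p * Nat.card E := by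
  have := Fact.mk hp
  obtain ⟨x, hx⟩ := exists_prime_orderOf_dvd_card' p hd
  have h1 : zpowers (x : G) ≤ B := zpowers_le.2 x.2
  have h3 : E ≤ cen (zpowers (x : G)) := hc.trans (centralizer_le h1)
  have h4 : Nat.card (zpowers (x : G)) = p := by rw [Nat.card_zpowers, Subgroup.orderOf_coe, hx]
  have h5 : E ⊓ zpowers (x : G) = ⊥ := by
    obtain ⟨k, hk⟩ := IsPGroup.iff_card.1 (hB.to_le (le_inf (inf_le_right.trans h1)
      (inf_le_left.trans hc) : E ⊓ zpowers (x : G) ≤ B ⊓ cen B))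
    have h6 := card_dvd_of_le (inf_le_right : E ⊓ zpowers (x : G) ≤ _)
    rw [h4] at h6
    refine card_eq_one.1 (((Nat.dvd_prime hp).1 h6).resolve_right fun h7 => h2 ?_)
    exact (Nat.prime_dvd_prime_iff_eq hp Nat.prime_two).1 (hp.dvd_of_dvd_pow (by rw [← hk, h7]))
  have h6 := CO.card_sup_mul (h3.trans (CO.cen_le_nor _))
  rw [h5, card_bot, mul_one, h4, mul_comm] at h6
  refine ⟨_, sup_le_sup_left h1 E, ea_sup hE ⟨inferInstance, fun a ha => ?_⟩ (comm_of_cen h3), h6⟩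
  exact congrArg Subtype.val (h4 ▸ pow_card_eq_one' (x := (⟨a, ha⟩ : zpowers (x : G))))

section Dg

variable {t z : G} {L J : Subgroup G}

theorem DgP.cp' (h : DgP t z L J) (hc : z * t = t * z) : CP (H98.cj z J) (cen1 t) :=
  h.cp.cj_of_mem_normalizer (nor_cen1 (mem_cen1.2 hc))

theorem DgP.cen (h : DgP t z L J) (hc : z * t = t * z) : H98.cj z J ≤ cen J :=
  cen_of_comm (((h.cp' hc).eq_or_commute h.cp).resolve_left h.ne)

theorem DgP.comm (h : DgP t z L J) (hc : z * t = t * z) {a b : G} (ha : a ∈ J) (hb : b ∈ J) :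
    a * (z * b * z⁻¹) = z * b * z⁻¹ * a := mem_cen.1 (h.cen hc (conj_mem_cj hb)) a ha

theorem DgP.le (h : DgP t z L J) : L ≤ J ⊔ H98.cj z J := fun l hl => by
  obtain ⟨j, hj, rfl⟩ := h.sur l hl
  exact mul_mem (mem_sup_left hj) (mem_sup_right (conj_mem_cj hj))

theorem cj_cj_inv2 (hz : CO.Inv z) (J : Subgroup G) : H98.cj z (H98.cj z J) = J := by
  rw [cj_cj, hz.2, H98.cj_one]

theorem DgP.lz (h : DgP t z L J) (hz : CO.Inv z) (hc : z * t = t * z) : L ≤ cen1 z := fun l hl => by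
  obtain ⟨j, hj, rfl⟩ := h.sur l hl
  rw [mem_cen1, h.comm hc hj hj, hz.inv]
  have := h.comm hc hj hj
  rw [hz.inv] at this
  calc z * j * z * j * z = z * (j * (z * j * z)) := by group
    _ = z * (z * j * z * j) := by rw [this]

theorem DgP.symm (h : DgP t z L J) (hz : CO.Inv z) (hc : z * t = t * z) : DgP t z L (H98.cj z J) where
  cp := h.cp' hc
  ne := by rw [cj_cj_inv2 hz]; exact h.ne.symm
  mem := by
    rintro _ ⟨j, hj, rfl⟩
    have : z * (z * j * z⁻¹) * z⁻¹ = j := by rw [← mul_assoc, ← mul_assoc, hz.2, hz.inv]; simp [mul_assoc, hz.2]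
    show z * j * z⁻¹ * (z * (z * j * z⁻¹) * z⁻¹) ∈ L
    rw [this, ← h.comm hc hj hj]; exact h.mem j hj
  sur := fun l hl => by
    obtain ⟨j, hj, rfl⟩ := h.sur l hl
    have : z * (z * j * z⁻¹) * z⁻¹ = j := by rw [← mul_assoc, ← mul_assoc, hz.2, hz.inv]; simp [mul_assoc, hz.2]
    exact ⟨_, conj_mem_cj hj, by rw [this, h.comm hc hj hj]⟩

theorem DgP.cen_of (h : DgP t z L J) (hc : z * t = t * z) {j : G} (hj : j ∈ J)
    (h1 : j * (z * j * z⁻¹) ∈ CO.cen J) : j ∈ CO.cen J := by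
  have := mul_mem h1 (inv_mem (h.cen hc (conj_mem_cj hj)))
  rwa [mul_inv_cancel_right] at this

theorem DgP.not_le (h : DgP t z L J) (hc : z * t = t * z) : ¬ L ≤ CO.cen J := fun h1 =>
  not_le_cen_self h.cp.2 fun j hj => h.cen_of hc hj (h1 (h.mem j hj))

theorem DgP.eq_or (h : DgP t z L J) (hc : z * t = t * z) {K : Subgroup G} (hK : CP K (cen1 t))
    (h1 : ¬ L ≤ CO.cen K) : K = J ∨ K = H98.cj z J := by
  by_contra h2
  rw [not_or] at h2
  exact h1 (h.le.trans (sup_le (cen_of_comm ((h.cp.eq_or_commute hK).resolve_left (Ne.symm h2.1)))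
    (cen_of_comm (((h.cp' hc).eq_or_commute hK).resolve_left (Ne.symm h2.2)))))

theorem DgP.cj_or (h : DgP t z L J) (hc : z * t = t * z) {g : G} (h1 : g ∈ cen1 t) (h2 : g ∈ nor L) :
    H98.cj g J = J ∨ H98.cj g J = H98.cj z J :=
  h.eq_or hc (h.cp.cj_of_mem_normalizer (nor_cen1 h1)) fun h3 => h.not_le hc (by
    rwa [CO.cen, ← cj_centralizer, ← cj_eq_self h2, cj_le_cj_iff] at h3)

theorem DgP.cen_fix (h : DgP t z L J) (hz : CO.Inv z) (hc : z * t = t * z) {r : G} (h1 : r ∈ cen1 t)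
    (h2 : r ∈ CO.cen L) (h3 : H98.cj r J = J) : r ∈ CO.cen (J ⊔ H98.cj z J) := by
  have h4 : H98.cj r (H98.cj z J) = H98.cj z J :=
    ((h.symm hz hc).cj_or hc h1 (CO.cen_le_nor _ h2)).resolve_right fun h4 => by
      rw [cj_cj_inv2 hz] at h4
      exact h.ne (cj_inj.1 (h4.trans h3.symm))
  have h5 : ∀ j ∈ J, r * j * r⁻¹ * (r * (z * j * z⁻¹) * r⁻¹) = j * (z * j * z⁻¹) := fun j hj => by
    rw [← CO.cj_eq_of_comm (mem_cen.1 h2 _ (h.mem j hj)).symm]; group
  have h6 : r ∈ CO.cen J := cen_of_perfect h.cp.perfect fun j hj => by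
    refine ⟨J.mul_mem (J.inv_mem hj) (h3.le (conj_mem_cj hj)), h.cen hc ?_⟩
    have : j⁻¹ * (r * j * r⁻¹) = z * j * z⁻¹ * (r * (z * j * z⁻¹) * r⁻¹)⁻¹ := by
      rw [eq_mul_inv_iff_mul_eq, mul_assoc, h5 j hj, inv_mul_cancel_left]
    rw [this]
    exact mul_mem (conj_mem_cj hj) (inv_mem (h4.le (conj_mem_cj (conj_mem_cj hj))))
  refine mem_cen_of_le (sup_le (le_cen1 h6) ?_)
  rintro _ ⟨j, hj, rfl⟩
  have h7 := h5 j hj
  rw [CO.cj_eq_of_comm (mem_cen.1 h6 j hj).symm, mul_right_inj, mul_inv_eq_iff_eq_mul] at h7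
  exact mem_cen1.2 h7.symm

end Dg

variable [Finite G]

theorem two_dvd_cp {L H : Subgroup G} (h : CP L H) : 2 ∣ Nat.card L := H3.KF.two_dvd_of_quasi h.2

theorem TH.pump (h : TH G) (z t : G) (L : Subgroup G) (hz : CO.Inv z) (ht : CO.Inv t)
    (hc : z * t = t * z) (hL : CP L (cen1 z ⊓ cen1 t)) :
    CP L (cen1 t) ∨ (∃ J, VtP t z L J) ∨ ∃ J, DgP t z L J := by
  have hn : z ∈ nor (cen1 t) := nor_cen1 (mem_cen1.2 hc)
  have hL' : CP L (cen1 t ⊓ cen1 z) := inf_comm (cen1 z) _ ▸ hL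
  have h1 : L ≤ layerOf (cen1 t) := pLayerOf_eq_layerOf (h.odd t ht) ▸
    PC.le_two' hz.tw.zp hn (hL'.pc (two_dvd_cp hL))
  obtain ⟨J, hJ, h2⟩ := exists_cp_commutator_ne_bot (quasi_sub_commutator_ne_bot hL.2) h1
  have z2 : z ^ 2 = 1 := by rw [pow_two, hz.2]
  have h3 := hJ.cp_le_orbP (zpowers_le.2 hn) (by rwa [H14.centralizer_zpowers]) h1 h2
  by_cases h4 : z ∈ nor J
  · rw [orbP_eq_self (zpowers_le.2 h4)] at h3
    by_cases h5 : z ∈ cen J
    · exact .inl (hL.eq_of_le (hJ.of_le (le_inf (le_cen1 h5) hJ.le) inf_le_right) h3 ▸ hJ)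
    · exact .inr (.inl ⟨J, hJ, hz, hJ.2, h.z2 t J ht hJ, h4, h5,
        hL'.of_le (le_inf h3 (hL.le.trans inf_le_left)) (inf_le_inf_right _ hJ.le)⟩)
  · rw [orbP_zpowers two_pos (z2 ▸ one_mem _)] at h3
    have h5 := hJ.sep Nat.prime_two hn (z2 ▸ one_mem _) h4
    have h6 := hJ.eq_range hn h5 two_pos (z2 ▸ one_mem _) hL'.1 hL.perfect hL.ne_bot h3
    refine .inr (.inr ⟨J, hJ, fun h7 => h4 (cj_eq_self_iff.1 h7), fun j hj => ?_, fun l hl => ?_⟩)
    · rw [h6, ← nrm_two]; exact h5.nrm_mem_range hj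
    · obtain ⟨j, hj, h7⟩ := h5.mem_range.1 (h6 ▸ hl)
      exact ⟨j, hj, by rw [← h7, nrm_two]⟩

theorem jobPk : JobPk.{u} := fun G _ _ h => {
  pump := h.pump
  vtn := fun z t L J hv g hg => by
    have h1 : L ≤ J := hv.2.cp.le.trans inf_le_left
    refine cj_eq_self_iff.1 (((hv.1.cj_of_mem_normalizer (nor_cen1 hg.1)).eq_or_commute hv.1).resolve_right
      fun h2 => not_le_cen_self hv.2.cp.2 ?_)
    exact ((cj_eq_self hg.2).ge.trans ((cj_mono g h1).trans (cen_of_comm h2))).trans (centralizer_le h1)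
  vts := fun z t L J hv hs => by
    have h1 : L ≤ J := hv.2.cp.le.trans inf_le_left
    rcases quasi_sub_subnormal hv.2.qs hs.isSubnormal_subgroupOf with h2 | h2
    · exact hv.2.nc (mem_cen_of_le (h2.trans (hv.2.cp.le.trans inf_le_right)))
    · rw [inf_eq_left.2 h1] at h2
      exact not_le_cen_self hv.2.cp.2 ((cen_of_comm h2).trans (centralizer_le h1))
  dgn := fun z t L J hz hc hd g hg => by
    refine mem_normalizer_of_cj_le ?_
    rw [cj_sup]
    refine sup_le ?_ ?_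
    · rcases hd.cj_or hc hg.1 hg.2 with h1 | h1 <;> rw [h1]
      exacts [le_sup_left, le_sup_right]
    · rcases (hd.symm hz hc).cj_or hc hg.1 hg.2 with h1 | h1 <;> rw [h1]
      exacts [le_sup_right, (cj_cj_inv2 hz J).le.trans le_sup_left]
  dgc := fun z t L J hz hc hd r h1 h2 => by
    rcases hd.cj_or hc h1 (CO.cen_le_nor _ h2) with h3 | h3
    · exact .inl (hd.cen_fix hz hc h1 h2 h3)
    · refine .inr (hd.cen_fix hz hc (mul_mem h1 (mem_cen1.2 hc))
        (mul_mem h2 (mem_cen_of_le (hd.lz hz hc))) ?_)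
      rw [← cj_cj]
      rcases (hd.symm hz hc).cj_or hc h1 (CO.cen_le_nor _ h2) with h4 | h4
      · exact (hd.ne (cj_inj.1 (h4.trans h3.symm))).elim
      · rw [h4, cj_cj_inv2 hz]
  dgs := fun z t L J hz hc hd _ hs => by
    rcases (hd.cp.of_le le_sup_left (sup_le hd.cp.le (hd.cp' hc).le)).le_or_of_subN hs with h1 | h1
    · exact hd.ne (cj_eq_self (CO.cen_le_nor _ (mem_cen_of_le (h1.trans (hd.lz hz hc)))))
    · exact hd.not_le hc (CO.cen_symm (cen_of_comm h1))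
  bc := fun z t L T D hz ht hc hL hT hD hcard hcm => by
    have zt : ∀ J, CP J (cen1 t) → zpowers t ≤ cen J := fun J hJ => zpowers_le.2 (mem_cen_of_le hJ.le)
    rcases h.pump z t L hz ht hc hL with h1 | ⟨J, h1⟩ | ⟨J, h1⟩
    · exact h1
    · have h2 := card_le_two_inf hD (inf_le_left : T ⊓ J ≤ T) hcard
      have h3 := (h.gv t z L J ht h1.1 h1.2).four _ (D ⊓ (T ⊓ J)) (hT.inf_subN h1.1.1) inf_le_right
        fun d hd => zt J h1.1 (hcm d hd.1)
      have h4 : 0 < Nat.card (D ⊓ (T ⊓ J) : Subgroup G) := Nat.card_pos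
      omega
    · have h2 := card_le_two_inf hD (inf_le_left : T ⊓ J ≤ T) hcard
      have h3 : D ⊓ (T ⊓ J) ≤ cen J := fun d hd => by
        have := mul_mem (zt J h1.cp (hcm d hd.1)) (h1.cen hc (conj_mem_cj hd.2.2))
        simpa [cm, mul_assoc] using this
      have h4 := fun u hu => quasi_syl_two_not_le h1.cp.2 (two_dvd_cp h1.cp) (hT.inf_subN h1.cp.1)
        (t := u) hu
      by_cases h5 : T ⊓ J ≤ D ⊓ (T ⊓ J)
      · exact (h4 1 (one_mem _) ((h5.trans h3).trans le_sup_left)).elim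
      · obtain ⟨u, h6, h7⟩ := SetLike.not_le_iff_exists.1 h5
        exact (h4 u h6.2 ((le_of_index_two h2 le_sup_left (sup_le inf_le_right (zpowers_le.2 h6))
          fun h8 => h7 (h8 (mem_sup_right (mem_zpowers u)))).trans (sup_le_sup_right h3 _))).elim
  three := fun t A B C p ht hA hB hC ab ac bc hp h2 dA dB dC => by
    obtain ⟨E1, l1, e1, c1⟩ := ea_step hp h2 (E := ⊥) ⟨inferInstance, by simp⟩ bot_le (h.z2 t A ht hA) dA
    rw [bot_sup_eq] at l1
    obtain ⟨E2, l2, e2, c2⟩ := ea_step hp h2 e1 (l1.trans (cen_of_comm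
      ((hA.eq_or_commute hB).resolve_left ab))) (h.z2 t B ht hB) dB
    replace l2 := l2.trans (sup_le_sup_right l1 B)
    obtain ⟨E3, l3, e3, c3⟩ := ea_step hp h2 e2 (l2.trans (sup_le (cen_of_comm
      ((hA.eq_or_commute hC).resolve_left ac)) (cen_of_comm ((hB.eq_or_commute hC).resolve_left bc))))
      (h.z2 t C ht hC) dC
    have h3 := prankLE_iff.1 (h.qt t ht p hp h2) E3
      (l3.trans (sup_le (l2.trans (sup_le hA.le hB.le)) hC.le)) e3
    rw [c3, c2, c1, card_bot] at h3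
    have := hp.one_lt
    nlinarith
  thin := fun t A B ht hA hB ab hc p hp h2 => prankLE_iff.2 fun E l e => by
    by_contra h3
    have := Fact.mk hp
    obtain ⟨k, hk⟩ := (IsPGroup.iff_card (p := p) (G := E)).1 fun a =>
      ⟨1, Subtype.ext (by simpa using e.2 a a.2)⟩
    have h4 : p ∣ Nat.card E := hk ▸ dvd_pow_self p (by
      rintro rfl; rw [hk] at h3; exact h3 (Nat.pow_le_pow_right hp.pos zero_le_one))
    obtain ⟨E2, l2, e2, c2⟩ := ea_step hp h2 e (l.trans (cen_of_comm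
      ((hA.eq_or_commute hB).resolve_left ab))) (h.z2 t B ht hB) (hc ▸ h4.trans (card_dvd_of_le l))
    have h5 := prankLE_iff.1 (h.qt t ht p hp h2) E2 (l2.trans (sup_le (l.trans hA.le) hB.le)) e2
    rw [c2, pow_two] at h5
    exact h3 (by simpa using Nat.le_of_mul_le_mul_left h5 hp.pos) }

end H36.QE
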