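import Cfsg.Agent.H36.QESt
import Cfsg.Agent.H14.AutInn

/-! Tower QE: from automorphisms of `J / Z(J)` to the ambient group (`JobTr`). -/

set_option autoImplicit false

namespace H36.QE

open Cfsg Subgroup H14 H98 H97
open H14.CO (cen cen1 nor cm Tw mem_cen mem_cen1)

universe u

section Lift

variable {X S : Type u} [Group X] [Group S] [Finite X]

omit [Finite X] in
theorem Cy2.of_map {f : X →* S} (hf : Function.Injective f) {Q : Subgroup X} (h : Cy2 (Q.map f)) :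
    Cy2 Q := by
  obtain ⟨_, ⟨g, hg, rfl⟩, h⟩ := h
  exact ⟨g, hg, by rwa [card_map_of_injective hf, orderOf_injective f hf] at h⟩

theorem lift_dp [Finite S] {π : X →* S} (h1 : Function.Surjective π) (h2 : π.ker ≤ center X)
    (h3 : IsPGroup 2 π.ker) {p : ℕ} (hp : p.Prime) (hp2 : p ≠ 2) {x : X} {f0 : S} (a1 : f0 ∈ cen1 (π x))
    (a2 : f0 ^ p = 1) {Q0 : Subgroup S} (a3 : Q0 ≤ cen1 (π x)) (a4 : IsPGroup 2 Q0) (a5 : f0 ∈ nor Q0)
    (a6 : Q0 ≤ ⁅Q0, zpowers f0⁆) (a7 : ¬ Cy2 Q0) :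
    ∃ f ∈ cen1 x, f ^ p = 1 ∧ ∃ Q : Subgroup X, Q ≤ cen1 x ∧ IsPGroup 2 Q ∧ f ∈ nor Q ∧
      ¬ Cy2 ⁅Q, zpowers f⁆ := by
  obtain ⟨f1, rfl⟩ := h1 f0
  obtain ⟨n, hn⟩ := CO.tw_of_mem h3 (x := f1 ^ p) (by rw [MonoidHom.mem_ker, map_pow, a2])
  obtain ⟨m, hm⟩ := exists_pow_eq_self_of_coprime (x := π f1) (n := 2 ^ n) (Nat.Coprime.pow_left _
    (((Nat.coprime_primes Nat.prime_two hp).2 hp2.symm).of_dvd_right (orderOf_dvd_of_pow_eq_one a2)))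
  have b1 : π ((f1 ^ 2 ^ n) ^ m) = π f1 := by rw [map_pow, map_pow, hm]
  have b2 : ((f1 ^ 2 ^ n) ^ m) ^ p = 1 := by
    rw [← pow_mul, mul_comm m, pow_mul, ← pow_mul f1, mul_comm _ p, pow_mul, hn, one_pow]
  generalize (f1 ^ 2 ^ n) ^ m = f at b1 b2
  rw [← b1] at a1 a5 a6
  have cz : ∀ q, π q ∈ cen1 (π x) → cm q x ∈ π.ker := fun q hq => by
    rw [MonoidHom.mem_ker]; simpa [cm, mul_inv_eq_iff_eq_mul] using mem_cen1.1 hq
  have b3 : f ∈ cen1 x := by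
    have c1 := inv_mem (cz f a1)
    rw [CO.cm_inv] at c1
    have c2 : x * f * x⁻¹ = cm x f * f := by simp [cm]
    have c3 : cm x f ^ p = 1 := by
      have := congrArg (· ^ p) c2
      simp only [conj_pow, b2, mul_one, mul_inv_cancel] at this
      rwa [Commute.mul_pow (mem_center_iff.1 (h2 c1) f).symm, b2, mul_one, eq_comm] at this
    exact mem_cen1.2 (CO.cm_eq_one.1 ((CO.tw_of_mem h3 c1).eq_one_of_odd ((hp.odd_of_ne_two hp2).of_dvd_nat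
      (orderOf_dvd_of_pow_eq_one c3)))).symm
  have b4 : zpowers f ≤ nor (Q0.comap π) := zpowers_le.2 (le_normalizer_comap _ a5)
  have b5 : ⁅Q0.comap π, zpowers f⁆ ≤ Q0.comap π ⊓ cen1 x := CO.comm_le_of_cm fun q hq g hg => by
    refine ⟨CO.cm_mem_left hq (b4 hg), mem_cen1.2 ?_⟩
    have c1 := mem_center_iff.1 (h2 (cz q (a3 hq)))
    have c2 := mem_cen1.1 (zpowers_le.2 b3 hg)
    have c3 : q * x * q⁻¹ = cm q x * x := by simp [cm, mul_assoc]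
    generalize cm q x = w at c1 c3
    have c4 : ∀ y, y * (w⁻¹ * x) * y⁻¹ = w⁻¹ * (y * x * y⁻¹) := fun y => by
      rw [← mul_assoc, (Commute.inv_right (c1 y)).eq]; group
    have c5 : q * (w⁻¹ * x) * q⁻¹ = x := by rw [c4, c3, inv_mul_cancel_left]
    calc cm q g * x = q * (g * (q⁻¹ * (g⁻¹ * x * g) * q) * g⁻¹) * q⁻¹ * cm q g := by simp only [cm]; group
      _ = _ := by
        rw [mul_assoc g⁻¹, ← c2, inv_mul_cancel_left, show q⁻¹ * x * q = w⁻¹ * x by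
          nth_rewrite 1 [← c5]; group, c4 g, CO.cj_eq_of_comm c2, c5]
  have b6 : Q0 ≤ (Q0.comap π ⊓ cen1 x).map π := a6.trans (le_trans (by
    rw [map_commutator, map_comap_eq_self_of_surjective h1, MonoidHom.map_zpowers]) (map_mono b5))
  refine ⟨f, b3, b2, Q0.comap π ⊓ cen1 x, inf_le_right, (a4.comap_of_ker_isPGroup π h3).to_le inf_le_left,
    zpowers_le.1 (le_normalizer_inf b4 (zpowers_le.2 (nor_cen1 b3))), fun h => a7 ((h.map π).mono ?_)⟩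
  rw [map_commutator, MonoidHom.map_zpowers]
  exact a6.trans (commutator_mono b6 le_rfl)

omit [Finite X] in
theorem Al.two {a : MulAut S} {L : Subgroup S} (h : Al a L) (n : ℕ) :
    ∀ b : MulAut S, L ≤ Fix b → a * b = b * a → b ^ 2 ^ n = 1 → b = 1 ∨ b = a := by
  induction n with
  | zero => exact fun b _ _ h3 => .inl (by simpa using h3)
  | succ n ih =>
    exact fun b h1 h2 h3 => h b h1 h2 (ih (b * b) (fun x hx => by
      rw [mem_Fix, MulAut.mul_apply, mem_Fix.1 (h1 hx), mem_Fix.1 (h1 hx)])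
      (Commute.mul_right h2 h2) (by rw [← pow_two, ← pow_mul, ← pow_succ', h3]))

omit [Finite X] in
theorem sq_of_four {L : Subgroup S} (h : ∀ b : MulAut S, L ≤ Fix b → b ^ 4 = 1 → b * b = 1) (n : ℕ) :
    ∀ b : MulAut S, L ≤ Fix b → b ^ 2 ^ n = 1 → b * b = 1 := by
  induction n with
  | zero => exact fun b _ h3 => by simp [show b = 1 by simpa using h3]
  | succ n ih =>
    exact fun b h1 h3 => h b h1 (by
      rw [← ih (b * b) (fun x hx => by rw [mem_Fix, MulAut.mul_apply, mem_Fix.1 (h1 hx), mem_Fix.1 (h1 hx)])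
        (by rw [← pow_two, ← pow_mul, ← pow_succ', h3])]
      simp [pow_succ, mul_assoc])

end Lift

variable {G : Type u} [Group G]

theorem cen_of_perfect' {L J : Subgroup G} (hL : ⁅L, L⁆ = L) (hJ : L ≤ J) {r : G}
    (h : ∀ j ∈ L, j⁻¹ * (r * j * r⁻¹) ∈ J ⊓ cen J) : r ∈ cen L := by
  refine mem_cen_of_le (hL.ge.trans (commutator_le.2 fun a ha b hb => mem_cen1.2 ?_))
  obtain ⟨u1, u2⟩ := h a ha
  obtain ⟨v1, v2⟩ := h b hb
  have e1 := mem_cen.1 u2 _ (mul_mem (hJ hb) v1)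
  have e2 := mem_cen.1 v2 _ (inv_mem (hJ ha))
  rw [eq_comm, ← mul_inv_eq_iff_eq_mul, commutatorElement_def]
  generalize hu : a⁻¹ * (r * a * r⁻¹) = u at *
  generalize hv : b⁻¹ * (r * b * r⁻¹) = v at *
  calc r * (a * b * a⁻¹ * b⁻¹) * r⁻¹ = a * (u * (b * v)) * u⁻¹ * a⁻¹ * v⁻¹ * b⁻¹ := by
        rw [← hu, ← hv]; group
    _ = a * b * (v * a⁻¹) * v⁻¹ * b⁻¹ := by rw [← e1]; group
    _ = _ := by rw [← e2]; group

/-- `π : J → S` has kernel `Z(J)` and `ρ` is the induced action of `N(J)`. -/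
structure Rp {S : Type u} [Group S] (J : Subgroup G) (π : J →* S) (ρ : nor J →* MulAut S) : Prop where
  sur : Function.Surjective π
  ker : ∀ j : J, π j = 1 ↔ (j : G) ∈ cen J
  act : ∀ (g : nor J) (j : J), ρ g (π j) = π (J.normalizerMonoidHom g j)
  one : ∀ g : nor J, ρ g = 1 ↔ (g : G) ∈ cen J

theorem rp_center {J : Subgroup G} (h : ⁅J, J⁆ = J) : Rp J (QuotientGroup.mk' (center J))
    ((autQ (center J)).comp J.normalizerMonoidHom) where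
  sur := QuotientGroup.mk'_surjective _
  ker := fun j => by
    rw [QuotientGroup.mk'_apply, QuotientGroup.eq_one_iff, mem_center_iff, mem_cen]
    exact ⟨fun h x hx => congrArg Subtype.val (h ⟨x, hx⟩), fun h x => Subtype.ext (h x x.2)⟩
  act := fun _ _ => autQ_mk _ _ _
  one := fun _ => (isAutRep_center h).eq_one_iff

variable [Finite G] {S : Type u} [Group S] [Finite S] {L J : Subgroup G} {π : J →* S}
  {ρ : nor J →* MulAut S} {z : G}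

namespace Rp

omit [Finite G] [Finite S]

theorem fix (h : Rp J π ρ) {g : G} (hg : g ∈ nor J) (j : J) :
    π j ∈ Fix (ρ ⟨g, hg⟩) ↔ (j : G)⁻¹ * (g * j * g⁻¹) ∈ cen J := by
  rw [mem_Fix, h.act, eq_comm, ← inv_mul_eq_one, ← map_inv, ← map_mul, h.ker]
  rfl

theorem ker_le (h : Rp J π ρ) : π.ker ≤ center J := fun j hj => mem_center_iff.2 fun x =>
  Subtype.ext (mem_cen.1 ((h.ker j).1 hj) x x.2)

theorem ker_map (h : Rp J π ρ) : π.ker.map J.subtype = J ⊓ cen J := by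
  ext x
  exact ⟨fun ⟨j, hj, e⟩ => e ▸ ⟨j.2, (h.ker j).1 hj⟩, fun hx => ⟨⟨x, hx.1⟩, (h.ker _).2 hx.2, rfl⟩⟩

theorem ker_two (h : Rp J π ρ) (h2 : IsPGroup 2 (J ⊓ cen J : Subgroup G)) : IsPGroup 2 π.ker :=
  CO.isPGroup_of_tw fun j hj =>
    let ⟨n, hn⟩ := CO.tw_of_mem h2 (x := j) ⟨j.2, (h.ker j).1 hj⟩
    ⟨n, Subtype.ext hn⟩

theorem stem (h : Rp J π ρ) (hq : IsQuasisimple J) : IsStemExtension π :=
  ⟨h.sur, h.ker_le, hq.1.commutator_eq_top ▸ le_top⟩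

theorem le_fix (h : Rp J π ρ) {r : G} (h1 : r ∈ nor J) (h2 : r ∈ cen L) :
    (L.subgroupOf J).map π ≤ Fix (ρ ⟨r, h1⟩) := by
  rintro _ ⟨l, hl, rfl⟩
  rw [h.fix, CO.cj_eq_of_comm (mem_cen.1 h2 l hl).symm, inv_mul_cancel]
  exact one_mem _

theorem cp (h : Rp J π ρ) (v : Vt z L J) : CP ((L.subgroupOf J).map π) (Fix (ρ ⟨z, v.nz⟩)) := by
  have LJ : L ≤ J := v.cp.le.trans inf_le_left
  have h1 : CP (L.subgroupOf J) ((J ⊓ cen1 z).subgroupOf J) :=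
    ⟨v.cp.1.comap J.subtype, (quasi_subgroupOf_iff LJ).2 v.cp.2⟩
  refine (h1.map π fun h2 => not_le_cen_self v.cp.2 fun l hl => centralizer_le LJ ((h.ker ⟨l, LJ hl⟩).1
    (mem_bot.1 (h2 ▸ mem_map_of_mem π hl)))).trans (SubN.of_normal ?_ fun f hf => ?_)
  · rintro _ ⟨l, hl, rfl⟩
    rw [h.fix, CO.cj_eq_of_comm (x := (l : G)) (mem_cen1.1 hl.2).symm, inv_mul_cancel]
    exact one_mem _
  · obtain ⟨f, rfl⟩ := h.sur f
    have key : ∀ f : J, π f ∈ Fix (ρ ⟨z, v.nz⟩) → ∀ c ∈ (J ⊓ cen1 z).subgroupOf J,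
        f * c * f⁻¹ ∈ (J ⊓ cen1 z).subgroupOf J := fun f hf c hc => ⟨(f * c * f⁻¹).2, mem_cen1.2 (by
      have a1 := mem_cen.1 ((h.fix v.nz f).1 hf) c c.2
      have a2 : (c : G) * z = z * c := mem_cen1.1 hc.2
      show (f : G) * c * (f : G)⁻¹ * z = z * (f * c * (f : G)⁻¹)
      calc (f : G) * c * (f : G)⁻¹ * z = f * (c * ((f : G)⁻¹ * (z * f * z⁻¹))) * z * (f : G)⁻¹ := by group
        _ = z * f * (z⁻¹ * (c * z)) * (f : G)⁻¹ := by rw [a1]; group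
        _ = _ := by rw [a2]; group)⟩
    refine le_normalizer_map _ (mem_map_of_mem _ (mem_normalizer_iff.2 fun c => ⟨key f hf c, fun hc => ?_⟩))
    simpa [mul_assoc] using key f⁻¹ (map_inv π f ▸ inv_mem hf) _ hc

theorem syl [Finite G] (h : Rp J π ρ) {U : Subgroup G} (hU : IsSyl 2 U J) :
    IsSyl 2 ((U.subgroupOf J).map π) ⊤ :=
  map_top_of_surjective π h.sur ▸ hU.subgroupOf_top.map π

theorem rho_tw {r : G} (h1 : r ∈ nor J) (h2 : Tw r) : ∃ n, ρ ⟨r, h1⟩ ^ 2 ^ n = 1 :=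
  let ⟨n, hn⟩ := h2
  ⟨n, by rw [← map_pow, show (⟨r, h1⟩ : nor J) ^ 2 ^ n = 1 from Subtype.ext hn, map_one]⟩

theorem gal (h : Rp J π ρ) (v : Vt z L J) (a : Al (ρ ⟨z, v.nz⟩) ((L.subgroupOf J).map π)) : GAl z L J :=
  fun r h1 h2 h3 h4 => by
  obtain ⟨n, hn⟩ := rho_tw (ρ := ρ) h2 h1
  refine (a.two n _ (h.le_fix h2 h3) (by
    rw [← map_mul, ← map_mul]; exact congrArg ρ (Subtype.ext (mem_cen1.1 h4).symm)) hn).imp
    (h.one ⟨r, h2⟩).1 fun e => (h.one (⟨r, h2⟩ * ⟨z, v.nz⟩)).1 ?_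
  rw [map_mul, e, ← map_mul, ← map_one ρ]
  exact congrArg ρ (Subtype.ext v.inv.2)

theorem ep [Finite G] [Finite S] (h : Rp J π ρ) (a : Ep (⊤ : Subgroup S)) : Ep J := fun U hU hc =>
  a _ (h.syl hU) (Cy2.map π (Cy2.of_map J.subtype_injective (by
    rwa [subgroupOf_map_subtype, inf_eq_left.2 hU.le])))

theorem gde [Finite G] (h : Rp J π ρ) (v : Vt z L J) (a : De (ρ ⟨z, v.nz⟩)) : GDe z J :=
  fun U hU h1 g hg => by
  obtain ⟨_, ⟨x, hx, rfl⟩, h2⟩ := a _ (h.syl hU) (by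
    rintro _ ⟨x, hx, rfl⟩
    rw [h.act]
    exact mem_map_of_mem _ (conj_mem_of_mem_normalizer h1 hx)) _
      (mem_map_of_mem π (show (⟨g, hU.le hg⟩ : J) ∈ U.subgroupOf J from hg))
  refine ⟨x, hx, fun ⟨k, hk⟩ => h2 ⟨k, ?_⟩⟩
  rw [h.act, ← map_inv, ← map_mul]
  show π _ ^ k = _
  rw [← map_zpow]
  exact congrArg π (Subtype.ext hk)

theorem gga [Finite G] (h : Rp J π ρ) (v : Vt z L J) (a : Ga.{u} ((L.subgroupOf J).map π)) : GGa L J := by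
  have LJ : L ≤ J := v.cp.le.trans inf_le_left
  obtain ⟨a1, x, a2, a3, a4⟩ := a
  refine ⟨fun r h1 h2 h3 => ?_, fun h1 => ?_⟩
  · obtain ⟨n, hn⟩ := rho_tw (ρ := ρ) h2 h1
    exact (h.one (⟨r, h2⟩ * ⟨r, h2⟩)).1 (by rw [map_mul, sq_of_four a1 n _ (h.le_fix h2 h3) hn])
  · obtain ⟨x, rfl⟩ := h.sur x
    refine ⟨x, x.2, cen_of_perfect' v.cp.perfect LJ fun l hl => ⟨J.mul_mem (J.inv_mem (LJ hl))
      (J.mul_mem (J.mul_mem x.2 (LJ hl)) (J.inv_mem x.2)), (h.ker ((⟨l, LJ hl⟩ : J)⁻¹ *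
        (x * ⟨l, LJ hl⟩ * x⁻¹))).1 ?_⟩, (CO.tw_of_mem v.z2 ⟨(x * x).2, (h.ker (x * x)).1
          (by rw [map_mul, a3])⟩).of_sq, fun h2 => a4 J π (h.stem v.qs) (h.ker_two v.z2)
            (fun h3 => h1 (by rw [← h.ker_map, h3, Subgroup.map_bot])) x rfl (Subtype.ext h2)⟩
    simp only [map_mul, map_inv]
    rw [← mem_cen.1 a2 _ (mem_map_of_mem π (show (⟨l, LJ hl⟩ : J) ∈ L.subgroupOf J from hl))]
    group

theorem exists_equiv (h : Rp J π ρ) (LJ : L ≤ J) (zl : L ⊓ cen L = ⊥) :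
    ∃ e : L ≃* (L.subgroupOf J).map π, ∀ l : L, (e l : S) = π ⟨l, LJ l.2⟩ := by
  have h1 : Function.Injective (π.comp (inclusion LJ)) := (injective_iff_map_eq_one _).2 fun l hl =>
    Subtype.ext (mem_bot.1 (zl ▸ ⟨l.2, centralizer_le LJ ((h.ker _).1 hl)⟩))
  refine ⟨(MonoidHom.ofInjective h1).trans (MulEquiv.subgroupCongr ?_), fun _ => rfl⟩
  rw [MonoidHom.range_comp, inclusion_range]

end Rp

theorem jobTr : JobTr.{u} := by
  intro G _ _ z L J v kv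
  have h := rp_center (quasi_sub_perfect v.qs)
  generalize QuotientGroup.mk' (center J) = π, (autQ (center J)).comp J.normalizerMonoidHom = ρ at h
  have LJ : L ≤ J := v.cp.le.trans inf_le_left
  have pv := kv (ρ ⟨z, v.nz⟩) (by rw [← map_mul, ← map_one ρ]; exact congrArg ρ (Subtype.ext v.inv.2))
    (fun e => v.nc ((h.one _).1 e)) _ (h.cp v)
  have aj : ∀ x : J, (π x)⁻¹ * ρ ⟨z, v.nz⟩ (π x) = π (x⁻¹ * J.normalizerMonoidHom ⟨z, v.nz⟩ x) :=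
    fun x => by rw [h.act, map_mul, map_inv]
  have cj : ∀ x : J, ((x⁻¹ * J.normalizerMonoidHom ⟨z, v.nz⟩ x : J) : G) = (x : G)⁻¹ * z * x * z :=
    fun x => by
      show (x : G)⁻¹ * (z * x * z⁻¹) = _
      rw [v.inv.inv, ← mul_assoc, ← mul_assoc]
  refine ⟨fun x h1 h2 h3 => (h.ker ⟨x, LJ h1⟩).1 (by_contra fun h4 => ?_), fun U D hU h1 h2 => ?_,
    fun zl => ?_⟩
  · have m1 : π ⟨x, LJ h1⟩ ∈ (L.subgroupOf J).map π := mem_map_of_mem π h1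
    have m2 : π ⟨x, LJ h1⟩ ∈ cen ((L.subgroupOf J).map π) := mem_cen.2 (by
      rintro _ ⟨l, hl, rfl⟩
      rw [← map_mul, ← map_mul]; exact congrArg π (Subtype.ext (mem_cen.1 h2 l hl)))
    obtain ⟨n, hn⟩ := h3
    obtain ⟨m, hm⟩ := CO.Tw.exists_inv ⟨n, by
      rw [← map_pow, show (⟨x, LJ h1⟩ : J) ^ 2 ^ n = 1 from Subtype.ext hn, map_one]⟩ h4
    exact hm.1 (pv.zl _ (pow_mem m1 m) (pow_mem m2 m) hm.2)
  · have a1 : D.subgroupOf J ≤ (Fix (ρ ⟨z, v.nz⟩)).comap π := fun d hd => (h.fix v.nz d).2 (by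
      simpa [cm, mul_assoc] using h2 _ (inv_mem hd))
    have a2 := card_mul_index ((Fix (ρ ⟨z, v.nz⟩)).comap π)
    rw [index_comap_of_surjective _ h.sur] at a2
    obtain ⟨k, hk⟩ := IsPGroup.iff_card.1 (hU.isPGroup.to_le h1)
    have a3 := card_dvd_of_le a1
    rw [Nat.card_congr (subgroupOfEquivOfLe (h1.trans hU.le)).toEquiv, hk] at a3
    have a4 := le_card_syl hU.subgroupOf_top (k := k + 2) (a2 ▸ pow_add 2 k 2 ▸ Nat.mul_dvd_mul a3 pv.four)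
    rw [Nat.card_congr (subgroupOfEquivOfLe hU.le).toEquiv, pow_add] at a4
    omega
  obtain ⟨e, he⟩ := h.exists_equiv LJ zl
  have he' : ∀ c, π ⟨e.symm c, LJ (e.symm c).2⟩ = c := fun c => by rw [← he, e.apply_symm_apply]
  have sw : Sw (ρ ⟨z, v.nz⟩) ((L.subgroupOf J).map π) → GSw z L J := fun ⟨x, c, a1, a2, a3⟩ => by
    obtain ⟨x, rfl⟩ := h.sur x
    refine ⟨x, x.2, e.symm c, a1.congr _, cj x ▸ (h.ker (_ * ⟨e.symm c, LJ (e.symm c).2⟩)).1 ?_,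
      (h.ker (cm x ⟨e.symm c, LJ (e.symm c).2⟩)).1 ?_⟩
    · rw [map_mul, ← aj, a2, he']; exact congrArg Subtype.val a1.1.1.2
    · simp only [cm, map_mul, map_inv, he', a3]; group
  have bot : π.ker = ⊥ → J ⊓ cen J = ⊥ := fun a => by rw [← h.ker_map, a, Subgroup.map_bot]
  rcases pv.main with ⟨a1, a2 | ⟨a2, a3, a4⟩ | a2⟩ | ⟨a1, a2, ⟨y, a3, a4, a5⟩, a6, a7⟩
  · exact .inl ⟨sw a1, .inl (bot (a2 J π (h.stem v.qs) (h.ker_two v.z2)))⟩
  · refine .inr ⟨h.gal v a2, h.ep a3, .inl ⟨sw a1, a4.imp (h.gde v) fun ⟨p, hp, h2, b1, b2⟩ =>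
      ⟨p, hp, h2, fun c hc b hb hbp => ?_, fun x x1 x2 x3 U hU x4 => ?_⟩⟩⟩
    · exact (map_eq_one_iff _ (MulAut.congr e).injective).1 (b1 (e c) (hc.congr e) (MulAut.congr e b)
        (by show e (b (e.symm (e c))) = e c; rw [e.symm_apply_apply, hb]) (by rw [← map_pow, hbp, map_one]))
    · obtain ⟨f0, c1, c2, Q0, c3, c4, c5, c6, c7⟩ := b2 (π ⟨x, x1⟩) (zi_iff.2 ⟨⟨fun e => x2 ((h.ker _).1 e),
        by rw [← map_mul, ← map_one π]; exact congrArg π (Subtype.ext x3)⟩, _, h.syl hU, by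
          rintro _ ⟨u, hu, rfl⟩
          rw [mem_cen1, ← map_mul, ← map_mul]; exact congrArg π (Subtype.ext (mem_cen1.1 (x4 hu)))⟩)
      obtain ⟨f, d1, d2, Q, d3, d4, d5, d6⟩ := lift_dp h.sur h.ker_le (h.ker_two v.z2) hp h2 c1 c2 c3 c4 c5 c6 c7
      refine ⟨f, ⟨f.2, mem_cen1.2 (congrArg Subtype.val (mem_cen1.1 d1))⟩, congrArg Subtype.val d2,
        Q.map J.subtype, ?_, d4.map _, le_normalizer_map _ (mem_map_of_mem _ d5), fun d7 =>
          d6 (Cy2.of_map J.subtype_injective (by rwa [map_commutator, MonoidHom.map_zpowers]))⟩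
      rintro _ ⟨q, hq, rfl⟩
      exact ⟨q.2, mem_cen1.2 (congrArg Subtype.val (mem_cen1.1 (d3 hq)))⟩
  · exact .inl ⟨sw a1, .inr (h.gga v a2)⟩
  · have k0 : π.ker = ⊥ := by_contra fun b => a5 J π (h.stem v.qs) (h.ker_two v.z2) b _ (he' ⟨y, a3⟩)
      (Subtype.ext (congrArg (fun l : L => (l : G)) (show e.symm ⟨y, a3⟩ * e.symm ⟨y, a3⟩ = 1 by
        rw [← map_mul, ← map_one e.symm]; exact congrArg e.symm (Subtype.ext a4))))
    have inj := (MonoidHom.ker_eq_bot_iff π).1 k0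
    refine .inr ⟨h.gal v a1, h.ep a2, .inr ⟨bot k0, a6.congr e.symm, fun x x1 x2 => ?_⟩⟩
    rw [← cj ⟨x, x1⟩] at x2 ⊢
    obtain ⟨c, b1, b2⟩ := a7 (π ⟨x, x1⟩) (by
      rw [aj]
      exact ⟨fun b => x2.1 (congrArg Subtype.val (inj (b.trans (map_one π).symm))), by
        rw [← map_mul, ← map_one π]; exact congrArg π (Subtype.ext x2.2)⟩)
    obtain ⟨s, hs⟩ := isConj_iff.1 b2
    obtain ⟨s, rfl⟩ := h.sur s
    rw [aj, ← he', ← map_inv, ← map_mul, ← map_mul] at hs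
    exact ⟨e.symm c, b1.congr _, isConj_iff.2 ⟨s, congrArg Subtype.val (inj hs)⟩⟩

end H36.QE
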