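import Cfsg.Agent.H36.QESt
import Cfsg.Agent.H3.DSQ

/-! Tower QE: the vertical pumpup (`JobVt`). -/

set_option autoImplicit false

namespace H36.QE

open Cfsg Subgroup H14 H98 H97
open H14.CO (cen cen1 nor cm Tw mem_cen mem_cen1)

universe u

variable {G : Type u} [Group G] [Finite G] {z t y : G} {L J P : Subgroup G}

theorem exists_cj_mem {S H : Subgroup G} (h : IsSyl 2 S H) {x : G} (hx : Tw x) (h1 : x ∈ H) :
    ∃ g ∈ H, g * x * g⁻¹ ∈ S :=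
  let ⟨g, h2, h3⟩ := h.exists_cj_le hx.zp (zpowers_le.2 h1)
  ⟨g, h2, h3 (conj_mem_cj (mem_zpowers x))⟩

omit [Finite G] in
theorem card_four {X : Subgroup G} (hz : CO.Inv z) (ht : CO.Inv t) (hne : t ≠ z)
    (h1 : t ∈ X) (h2 : z ∈ X) (h : ∀ r ∈ X, r = 1 ∨ r = t ∨ r = z ∨ r = t * z) : Nat.card X = 4 := by
  have : (X : Set G) = {1, t, z, t * z} := Set.ext fun r =>
    ⟨h r, by rintro (rfl | rfl | rfl | rfl); exacts [one_mem _, h1, h2, mul_mem h1 h2]⟩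
  have h3 : t * z ≠ 1 := fun h3 => hne (by rw [← hz.inv]; exact eq_inv_of_mul_eq_one_left h3)
  rw [← SetLike.coe_sort_coe, this, Nat.card_coe_set_eq, Set.ncard_insert_of_notMem, Set.ncard_insert_of_notMem,
    Set.ncard_pair]
  · simpa using ht.1
  · simpa using ⟨hne, hz.1⟩
  · simpa using ⟨ht.1.symm, hz.1.symm, h3.symm⟩

theorem exists_cyc {R : Subgroup G} (hR : IsPGroup 2 R) (hz : CO.Inv z) (h1 : t ∈ R) (h2 : z ∈ R)
    (h3 : R ≤ cen1 z) (h4 : Nat.card (R ⊓ cen1 t : Subgroup G) = 4) :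
    ∃ g ∈ R, z ∈ zpowers g ∧ Nat.card R = 2 * orderOf g := by
  by_cases hc : IsMulCommutative R
  · refine ⟨z, h2, mem_zpowers z, ?_⟩
    rw [inf_eq_left.2 fun r hr => mem_cen1.2 (congrArg Subtype.val (hc.1.1 ⟨r, hr⟩ ⟨t, h1⟩))] at h4
    rw [hz.orderOf, h4]
  · obtain ⟨m, a, b, h⟩ := H3.exists_dsq_of_card_centralizer hR hc (x := ⟨t, h1⟩) (by
      rw [← h4, ← card_map_of_injective R.subtype_injective]
      congr 2
      ext x
      exact ⟨fun ⟨y, hy, h⟩ => h ▸ ⟨y.2, mem_cen1.2 (congrArg Subtype.val (mem_cen1.1 hy))⟩,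
        fun h => ⟨⟨x, h.1⟩, mem_cen1.2 (Subtype.ext (mem_cen1.1 h.2)), rfl⟩⟩)
    have h5 : (⟨z, h2⟩ : R) ∈ zpowers a := zpowers_le.2 (pow_mem (mem_zpowers a) (2 ^ m)) (h.center_eq ▸
      mem_center_iff.2 fun g => Subtype.ext (mem_cen1.1 (h3 g.2)))
    obtain ⟨k, hk⟩ := mem_zpowers_iff.1 h5
    exact ⟨a, a.2, ⟨k, congrArg Subtype.val hk⟩, by rw [Subgroup.orderOf_coe, h.card, h.ord]; ring⟩

theorem cy2_of_cen (hP : IsSyl 2 P (nor L)) (h : Cy2 (P ⊓ cen L)) {X : Subgroup G} (h1 : IsPGroup 2 X)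
    (h2 : X ≤ cen L) : Cy2 X := by
  by_contra h3
  exact ep_of_sub h1 h2 h3 _ (hP.inf_of_le_normalizer (CO.cen_le_nor L)
    (le_normalizer_centralizer hP.le)) h

omit [Finite G] in
theorem Tb.ne (h : Tb z t y L P) : t ≠ z := fun e => h.bad (e ▸ h.st.cp)

omit [Finite G] in
theorem Tb.comm (h : Tb z t y L P) : t * z = z * t := mem_cen1.1 (h.st.cz h.mem)

omit [Finite G] in
theorem Tb.zmem (h : Tb z t y L P) : z ∈ P ⊓ cen1 t := ⟨h.st.mem, mem_cen1.2 h.comm.symm⟩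

theorem jobVt : JobVt.{u} := by
  intro G _ _ h k sw z t y L J P tb vt
  have st := tb.st
  have LJ : L ≤ J := vt.2.cp.le.trans inf_le_left
  have Lz : L ≤ cen1 z := st.cp.le
  have cJL : cen J ≤ cen L := centralizer_le LJ
  have nJ : nor L ⊓ cen1 t ≤ nor J := inf_comm (nor L) _ ▸ k.vtn z t L J vt
  have qq := tb.qq J LJ (tb.syl.le.trans nJ) (k.vts z t L J vt)
  have gv := h.gv t z L J tb.inv vt.1 vt.2
  have yL : y ∈ nor L := st.syl.le tb.ymem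
  have tw : ∀ r ∈ P, Tw r := fun r => CO.tw_of_mem st.syl.isPGroup
  have zl : L ⊓ cen L = ⊥ := eq_bot_iff.2 fun x hx => by
    have h1 := h.z2 z L st.inv st.cp
    have h2 := st.syl.le_of_le_normalizer h1 (inf_le_left.trans le_normalizer)
      (le_normalizer_inf st.syl.le (le_normalizer_centralizer st.syl.le)) hx
    have h3 := CO.tw_of_mem h1 hx
    exact qq x ⟨h2, le_cen1 tb.cl hx.1⟩ (gv.zl x hx.1 hx.2 h3)
      (gv.zl _ (conj_mem_of_mem_normalizer yL hx.1) (cj_mem_cen yL hx.2) (h3.cj y))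
  have yP : ∀ r ∈ P ⊓ cen1 t, y * r * y⁻¹ ∈ P ⊓ cen1 t := fun r => conj_mem_of_mem_normalizer tb.yn
  rcases gv.main zl with ⟨⟨x, x1, c, c1, x2, x3⟩, h1⟩ | ⟨al, ep, h1⟩
  · exfalso
    by_cases h2 : J ⊓ cen J = ⊥
    · have ci : CO.Inv (c : G) := ⟨fun e => c1.1.1.1 (Subtype.ext e), congrArg Subtype.val c1.1.1.2⟩
      have h3 : x⁻¹ * z * x * z * c = 1 := mem_bot.1 (h2 ▸ ⟨by
        have := mul_mem (mul_mem (inv_mem x1) (conj_mem_of_mem_normalizer vt.2.nz x1)) (LJ c.2)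
        rwa [st.inv.inv, ← mul_assoc, ← mul_assoc] at this, x2⟩)
      refine sw z L P st zl c x c1 ?_ (CO.cm_eq_one.1 (mem_bot.1 (h2 ▸ ⟨CO.cm_mem x1 (LJ c.2), x3⟩)))
      rw [mul_assoc, mul_eq_one_iff_eq_inv, mul_inv_rev, ci.inv, st.inv.inv] at h3
      rw [h3, mem_cen1.1 (Lz c.2)]
    · obtain ⟨g1, g2⟩ := h1.resolve_left h2
      obtain ⟨w, w1, w2, w3, w4⟩ := g2 h2
      obtain ⟨g, g3, g4⟩ := exists_cj_mem tb.syl w3 ⟨CO.cen_le_nor _ w2, vt.1.le w1⟩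
      have g5 := cj_mem_cen g3.1 w2
      have g6 := qq _ (mul_mem g4 g4) (g1 _ (w3.cj g) (nJ (tb.syl.le g4)) g5) (by
        have := g1 _ ((w3.cj g).cj y) (nJ (tb.syl.le (yP _ g4))) (cj_mem_cen yL g5)
        convert this using 1; group)
      exact w4 ((conj_eq_one_iff (a := g)).1 (by rw [← g6]; group))
  have al' : ∀ r ∈ P ⊓ cen1 t, r ∈ cen L → r ∈ cen J ∨ r * z ∈ cen J := fun r r1 r2 =>
    al r (tw r r1.1) (nJ (tb.syl.le r1)) r2 (st.cz r1.1)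
  have q1 : ∀ q ∈ P ⊓ cen1 t, q ∈ cen J → q ≠ 1 → y * q * y⁻¹ * z ∈ cen J := fun q a1 a2 a3 =>
    (al' _ (yP q a1) (cj_mem_cen yL (cJL a2))).resolve_left fun a4 => a3 (qq q a1 a2 a4)
  have tP : t ∈ P ⊓ cen1 t := ⟨tb.mem, mem_cen1.2 rfl⟩
  have tJ : t ∈ cen J := mem_cen_of_le vt.1.le
  have q2 : ∀ q ∈ P ⊓ cen1 t, q ∈ cen J → q = 1 ∨ q = t := fun q a1 a2 => or_iff_not_imp_left.2 fun a3 =>
    mul_inv_eq_one.1 (qq _ (mul_mem a1 (inv_mem tP)) (mul_mem a2 (inv_mem tJ)) (by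
      convert mul_mem (q1 q a1 a2 a3) (inv_mem (q1 t tP tJ tb.inv.1)) using 1; group))
  have mz : ∀ {a b : G}, a * z = b → a = b * z := fun e => by rw [← e, mul_assoc, st.inv.2, mul_one]
  have rt : ∀ r ∈ P, r ∈ cen L → r ∈ cen1 t → r = 1 ∨ r = t ∨ r = z ∨ r = t * z := fun r a1 a2 a3 => by
    rcases al' r ⟨a1, a3⟩ a2 with a4 | a4
    · exact (q2 r ⟨a1, a3⟩ a4).imp_right .inl
    · exact .inr (.inr ((q2 _ (mul_mem ⟨a1, a3⟩ tb.zmem) a4).imp (fun e => by simpa using mz e) mz))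
  have zc : z ∈ cen L := mem_cen_of_le Lz
  have cyc := exists_cyc (R := P ⊓ cen L) (t := t) (st.syl.isPGroup.to_le inf_le_left) st.inv
    ⟨tb.mem, tb.cl⟩ ⟨st.mem, zc⟩ (inf_le_left.trans st.cz) (card_four st.inv tb.inv tb.ne
      ⟨⟨tb.mem, tb.cl⟩, tP.2⟩ ⟨⟨st.mem, zc⟩, tb.zmem.2⟩ fun r hr => rt r hr.1.1 hr.1.2 hr.2)
  have cy : ∀ {X : Subgroup G}, IsPGroup 2 X → X ≤ cen L → Cy2 X :=
    cy2_of_cen st.syl (let ⟨g, a1, _, a2⟩ := cyc; ⟨g, a1, a2.le⟩)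
  have hB : IsSyl 2 P ⊤ ∧ cen1 z ≤ nor L := st.cases.resolve_right fun ⟨T, s, _, _, _, a1, a2, a3⟩ => by
    have b1 := st.cp.cj_of_mem_normalizer (nor_cen1 (a1 a2))
    have b2 := cen_of_comm ((b1.eq_or_commute st.cp).resolve_left a3)
    obtain ⟨A, b3, b4, b5⟩ := h.rk z _ st.inv b1
    have b6 : A.map (H98.cj s L).subtype ≤ H98.cj s L := map_subtype_le _
    have b7 : IsElementaryAbelian 2 (A.map (H98.cj s L).subtype ⊔ zpowers z) :=
      ea_sup ⟨inferInstance, by rintro _ ⟨a, ha, rfl⟩; exact congrArg Subtype.val (b4 a ha)⟩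
        ⟨inferInstance, fun a ha => by
          obtain ⟨k, rfl⟩ := mem_zpowers_iff.1 ha
          rw [← zpow_natCast, ← zpow_mul, mul_comm, zpow_mul, zpow_natCast, pow_two, st.inv.2, one_zpow]⟩
        (comm_of_cen (by rw [CO.cen, H14.centralizer_zpowers]; exact b6.trans b1.le))
    have b8 : ∀ x ∈ A.map (H98.cj s L).subtype ⊔ zpowers z, x * x = 1 := fun x hx => by
      rw [← pow_two, b7.2 x hx]
    refine not_cy2_of_e8 b8 (le_trans ?_ (two_card_le le_sup_left fun b9 => ?_))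
      (cy (CO.isPGroup_of_tw fun x hx => CO.tw_of_sq (b8 x hx)) (sup_le (b6.trans b2) (zpowers_le.2 zc)))
    · rw [card_map_of_injective (subtype_injective _)]; omega
    · have : z ∈ H98.cj s (L ⊓ cen L) := by
        rw [cj_inf, cj_centralizer]
        exact ⟨b6 (b9 (mem_sup_right (mem_zpowers z))), mem_cen_of_le b1.le⟩
      rw [zl, cj_bot] at this
      exact st.inv.1 (mem_bot.1 this)
  refine ⟨⟨tb, vt, zl, fun w w1 w2 => ?_, rt, ?_, hB.1, hB.2, fun hc => ?_, cyc⟩, h1⟩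
  · obtain ⟨g, g3, g4⟩ := exists_cj_mem tb.syl (CO.tw_of_mem vt.2.z2 ⟨w1, w2⟩)
      ⟨CO.cen_le_nor _ (cJL w2), vt.1.le w1⟩
    refine (q2 _ g4 (cj_mem_cen (nJ g3) w2)).imp (fun e => by simpa using e) fun e => ?_
    rw [← CO.cj_eq_of_comm (mem_cen1.1 g3.2)] at e
    simpa using e
  · refine mz ((q2 _ (mul_mem (yP t tP) tb.zmem) (q1 t tP tJ tb.inv.1)).resolve_left fun e => tb.ne ?_)
    have e1 := mz e
    rw [one_mul, ← CO.cj_eq_of_comm (mem_cen1.1 (st.cz tb.ymem))] at e1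
    simpa using e1
  · obtain ⟨g, hg⟩ := isConj_iff.1 hc.symm
    have a1 : CP (H98.cj g J) (cen1 z) := hg ▸ cj_cen1 g t ▸ vt.1.cj g
    have a2 := cen_of_comm ((a1.eq_or_commute st.cp).resolve_left fun e => vt.2.nc (mem_cen_of_le
      ((CO.eq_of_le_of_card_le LJ (by rw [← e, card_cj])).ge.trans Lz)))
    obtain ⟨U, hU⟩ := exists_isSyl 2 J
    have a3 := (cy (hU.cj g).isPGroup ((cj_mono g hU.le).trans a2)).cj g⁻¹
    exact ep U hU (H98.cj_inv_cj g U ▸ a3)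

end H36.QE
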