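import Cfsg.Agent.H36.QEList
import Cfsg.Agent.H14.CompFinal

/-! Tower QE: from `TH` and `Term` to the texts of S1849 and S1848. -/

set_option autoImplicit false

namespace H36.QE

open Cfsg Subgroup H14 H98 H97
open H14.CO (cen cen1 nor cm Tw mem_cen mem_cen1)

universe u

variable {G : Type u} [Group G] [Finite G] [IsSimpleGroup G]

theorem std_of (h : TH G) (ht : Term G) {z : G} {L : Subgroup G} (hz : ZI z) (hL : CP L (cen1 z)) :
    IsStandardSubgroup L :=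
  CO.st1796 z L ⟨hz.1.orderOf, cp_iff.1 hL, hL.dvd_card (h.odd z hz.1), fun y hy h2 =>
    cp_iff.1 (ht z L hz hL y hy (CO.inv_of_orderOf h2))⟩ (h.rk z L hz.1 hL)

omit [IsSimpleGroup G] in
theorem nor_of_std {L : Subgroup G} (h : IsStandardSubgroup L) {z : G} (hz : CO.Inv z)
    (hc : z ∈ cen L) : cen1 z ≤ nor L := fun g hg => by
  rw [nor, h.2.2.2]
  by_contra hn
  have h1 := h.2.1.2 g hn
  have h2 : z ∈ cen L ⊓ H98.cj g (cen L) :=
    ⟨hc, by rw [← CO.cj_eq_of_comm (mem_cen1.1 hg)]; exact conj_mem_cj hc⟩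
  have h3 := orderOf_dvd_natCard (⟨z, h2⟩ : (cen L ⊓ H98.cj g (cen L) : Subgroup G))
  rw [← Subgroup.orderOf_coe, hz.orderOf] at h3
  exact absurd (even_iff_two_dvd.2 h3) (Nat.not_even_iff_odd.2 h1)

omit [IsSimpleGroup G] in
theorem zi_of_sylow (T : Sylow 2 G) {z : G} (hzc : ∀ t ∈ (T : Subgroup G), t * z = z * t)
    (hz2 : orderOf z = 2) : ZI z :=
  zi_iff.2 ⟨CO.inv_of_orderOf hz2, T, isSyl_sylow T, fun t ht => mem_cen1.2 (hzc t ht)⟩

theorem s1849_of (h : TH G) (ht : Term G) (T : Sylow 2 G) {z : G}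
    (hzc : ∀ t ∈ (T : Subgroup G), t * z = z * t) (hz2 : orderOf z = 2) (L : Subgroup (cen1 z))
    (hL : IsComponent L) : IsStandardSubgroup (L.map (cen1 z).subtype) :=
  std_of h ht (zi_of_sylow T hzc hz2) (cp_map_subtype hL)

theorem s1848_of (h : TH G) (ht : Term G) (T : Sylow 2 G) {z : G}
    (hzc : ∀ t ∈ (T : Subgroup G), t * z = z * t) (hz2 : orderOf z = 2) (L : Subgroup (cen1 z))
    (hL : IsComponent L) : L.Normal := by
  have h1 := nor_of_std (s1849_of h ht T hzc hz2 L hL) (CO.inv_of_orderOf hz2) (mem_cen.2 (by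
    rintro _ ⟨x, -, rfl⟩; exact mem_cen1.1 x.2))
  refine ⟨fun x hx g => ?_⟩
  obtain ⟨y, hy, h2⟩ := conj_mem_of_mem_normalizer (h1 g.2) (mem_map_of_mem _ hx)
  rwa [show g * x * g⁻¹ = y from Subtype.ext h2.symm]

end H36.QE
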