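import Cfsg.Agent.H36.QFK0

/-! Tower QF: the extra facts on `A_6` and `A_8`. -/

set_option autoImplicit false

namespace H36.QF

open Cfsg Subgroup H14 H98 H97 H36.QE
open H14.CO (cen cen1 nor cm Tw)

universe u w

variable {S : Type w} [Group S]

/-- the subgroup generated by the fixed elements of order three -/
def F3 (a : MulAut S) : Subgroup S := closure {x | a x = x ∧ x ^ 3 = 1}

/-- the facts on an outer involution `a` of `A_6` that centralises the Sylow subgroup `U` -/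
def A6a (U : Subgroup S) (a : MulAut S) : Prop :=
  ∃ c ∈ U, CO.Inv c ∧ (∀ x ∈ U, x ∈ cen U ↔ x = 1 ∨ x = c) ∧
    (∀ b : MulAut S, Tw b → U ≤ Fix b → b = 1 ∨ b = MulAut.conj c ∨ b = a ∨ b = a * MulAut.conj c) ∧
    (∀ b : MulAut S, a * b = b * a → b ∈ Inn S ∨ b * a ∈ Inn S) ∧ (∀ x ∈ U ⊓ F3 a, x * x = 1) ∧
    (∀ x ∈ U, CO.Inv x → x ∉ F3 a → Tws a x) ∧
    (∀ x ∈ U ⊓ F3 a, ∀ y ∈ U ⊓ F3 (a * MulAut.conj c), x ∉ cen U → y ∉ cen U →
      cm x y = c ∧ U ≤ closure {x, y} ∧ y ∉ F3 a) ∧ ∃ v ∈ U ⊓ F3 a, v ∉ cen U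

def A6F (S : Type w) [Group S] : Prop :=
  ¬ PRankLE 3 1 S ∧ ∀ U : Subgroup S, IsSyl 2 U ⊤ → ∀ a : MulAut S, Ou a → U ≤ Fix a → A6a U a

/-- the facts on an involution `w` of `A_8` that is not `2`-central -/
def A8a (w : S) (Q : Subgroup S) : Prop :=
  ∃ w' ∈ X3 w, ZI (w * w') ∧ w * w' ∉ X3 w ∧
    (∀ x ∈ Q, x ∈ cen Q → x = 1 ∨ x = w ∨ x = w' ∨ x = w * w') ∧ X3 w ≤ cen (X3 w') ∧
    ∃ h ∈ cen1 w, h ^ 3 = 1 ∧ h ∉ cen (X3 w) ∧ ∃ D ≤ X3 w, IsPGroup 2 D ∧ D ≠ ⊥ ∧ h ∈ nor D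

def A8F (S : Type w) [Group S] : Prop :=
  ¬ PRankLE 3 1 S ∧ QT.Alt 8 S ∧
    ∀ (w : S) (Q : Subgroup S), CO.Inv w → ¬ ZI w → IsSyl 2 Q (cen1 w) → A8a w Q

def JobFA6b : Prop := Fam.{u} (fun S _ => QT.Alt 6 S) fun S _ => A6F S
def JobFA8b : Prop := Fam.{u} (fun S _ => QT.Ln2 4 S) fun S _ => A8F S

variable {S' : Type u} [Group S'] (e : S ≃* S')

theorem mp_F3 (a : MulAut S) : F3 (MulAut.congr e a) = (F3 a).map e.toMonoidHom := mp_fix3 e a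

theorem mp_cl2 (x y : S) : closure {e x, e y} = (closure {x, y}).map e.toMonoidHom := by
  rw [MonoidHom.map_closure, Set.image_pair]; rfl

theorem mp_a6a {U : Subgroup S} {a : MulAut S} : A6a (U.map e.toMonoidHom) (MulAut.congr e a) ↔ A6a U a := by
  unfold A6a; tr_simp e
  simp only [mp_cm, mp_F3, mp_cl2, mp_inf, mp_mem, mp_le, EmbeddingLike.apply_eq_iff_eq]

theorem mp_a8a {w : S} {Q : Subgroup S} : A8a (e w) (Q.map e.toMonoidHom) ↔ A8a w Q := by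
  unfold A8a; tr_simp e

include e in
theorem A6F.congr (h : A6F S) : A6F S' := by
  unfold A6F at *; tr_simp e; simp only [mp_a6a]; exact h

include e in
theorem A8F.congr (h : A8F S) : A8F S' := by
  refine ⟨mt (mp_rank e).1 h.1, h.2.1.elim fun f => ⟨e.symm.trans f⟩, ?_⟩
  tr_simp e; simp only [mp_a8a]; exact h.2.2

end H36.QF
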