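import Cfsg.Agent.H36.QFOut

/-! Tower QF: the job `S4`. -/

set_option autoImplicit false

namespace H36.QF

open Cfsg Subgroup H14 H98 H97 H36.QE
open H14.CO (cen cen1 nor cm Tw mem_cen mem_cen1)

universe u

variable {G : Type u} [Group G] [Finite G] {L S I J : Subgroup G}

/-- If the involutions of the `Z_Y`, `Y ∈ N`, are the products `k d` then `N` is odd. -/
theorem Mx.cnt (h : Hy L) (m : Mx L S) (hz : L ⊓ cen L = ⊥) {N : Set (Subgroup G)}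
    (n1 : ∀ Y ∈ N, Kap L S Y) {D : Set G} (d1 : ∀ d ∈ D, d ∈ L ∧ Ce S d ∧ d ≠ 1) (d2 : Odd D.ncard)
    (h1 : ∀ Y ∈ N, ∀ y, Ce S y → y ∈ cen Y → y ≠ 1 → ∃ k ∈ cen L, k ≠ 1 ∧ ∃ d ∈ D, y = k * d)
    (h2 : ∀ k ∈ cen L, Ce S k → k ≠ 1 → ∀ d ∈ D, ∃ Y ∈ N, k * d ∈ cen Y) : Odd N.ncard := by
  have ne : ∀ k ∈ cen L, ∀ d ∈ D, k * d ≠ 1 := fun k a d b e => (d1 d b).2.2 (mem_bot.1 (hz ▸ mem_inf.2
    ⟨(d1 d b).1, eq_inv_of_mul_eq_one_right e ▸ inv_mem a⟩))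
  let B := {y | Ce S y ∧ y ≠ 1 ∧ ∃ Y ∈ N, y ∈ cen Y}
  have a := even_fib (B := B) (I := N) (Set.toFinite _) (Set.toFinite _) (fun y Y => y ∈ cen Y)
    (fun y hy => hy.2.2) (fun y hy i hi j hj => h.uniq (n1 i hi).1 (n1 j hj).1 (hy.1.toInv hy.2.1))
    fun Y hY => by
      convert odd_sharp ((Om_pg m.pg).to_le inf_le_left) ((n1 Y hY).Z_ne m.pg) using 2
      ext x
      exact ⟨fun a => ⟨⟨a.1.1, a.2⟩, a.1.2.1⟩, fun a => ⟨⟨a.1.1, a.2, Y, hY, a.1.2⟩, a.1.2⟩⟩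
  have b := even_fib (B := B) (I := {x | x ∈ Om S ⊓ cen L ∧ x ≠ 1}) (Set.toFinite _) (Set.toFinite _)
    (fun y k => k⁻¹ * y ∈ D) (fun y ⟨p, q, Y, r, s⟩ => by
      obtain ⟨k, i, j, d, l, rfl⟩ := h1 Y r y p s q
      exact ⟨k, ⟨⟨mem_Om.2 (by simpa [mul_assoc, (d1 d l).2.1.2.2] using p.mul (d1 d l).2.1), i⟩, j⟩,
        by simpa using l⟩)
    (fun y _ i hi j hj p q => by
      have : i⁻¹ * j ∈ L ⊓ cen L := mem_inf.2 ⟨by simpa [mul_assoc] using mul_mem (d1 _ p).1 (inv_mem (d1 _ q).1),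
        mul_mem (inv_mem (mem_inf.1 hi.1).2) (mem_inf.1 hj.1).2⟩
      rwa [hz, mem_bot, inv_mul_eq_one] at this)
    fun k hk => by
      convert d2 using 1
      rw [← Set.ncard_image_of_injective D (mul_right_injective k)]
      congr 1
      ext y
      refine ⟨fun p => ⟨_, p.2, by simp⟩, ?_⟩
      rintro ⟨x, hx, rfl⟩
      exact ⟨⟨Ce.mul hk.1.1 (d1 x hx).2.1, ne k hk.1.2 x hx, h2 k hk.1.2 hk.1.1 hk.2 x hx⟩, by simpa using hx⟩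
  rw [← Nat.not_even_iff_odd, ← a, b, Nat.not_even_iff_odd]
  exact odd_sharp ((Om_pg m.pg).to_le inf_le_left) (m.one.Z_ne m.pg)

/-- `Dt` read in the group -/
def DtG (L : Subgroup G) (w : G) : Prop := IsPGroup 2 (L ⊓ cen1 w : Subgroup G)

omit [Finite G] in
theorem dt_iff {w : G} (hw : w ∈ L) : Dt (⟨w, hw⟩ : L) ↔ DtG L w := by
  rw [Dt, cen1_sub, DtG, inf_comm, ← subgroupOf_map_subtype]
  exact ⟨fun h => h.map _, isPGroup_of_map_injective L.subtype_injective⟩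

omit [Finite G] in
theorem DtG.cj {w : G} (h : DtG L w) (g : G) : DtG (H98.cj g L) (g * w * g⁻¹) := by
  rw [DtG, ← cj_cen1, ← cj_inf]; exact isPGroup_cj g h

/-- some central involution of `C(Y)` has a projection to `X` whose centraliser is not a `2`-group -/
def Nd (S X Y : Subgroup G) : Prop :=
  ∃ k ∈ cen X, ∃ w ∈ X, Ce S (k * w) ∧ k * w ∈ cen Y ∧ k * w ≠ 1 ∧ ¬ DtG X w

omit [Finite G] in
theorem Nd.cj {X Y : Subgroup G} (h : Nd S X Y) {g : G} (hg : g ∈ nor S) :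
    Nd S (H98.cj g X) (H98.cj g Y) := by
  obtain ⟨k, a, w, b, c, d, e, f⟩ := h
  refine ⟨_, cen_cj g X ▸ conj_mem_cj a, _, conj_mem_cj b, ?_, ?_, ?_, fun i => f ?_⟩
  · rw [conj_mul]; exact c.cj hg
  · rw [conj_mul, cen_cj]; exact conj_mem_cj d
  · rw [conj_mul]; exact ((c.toInv e).cj g).1
  · simpa [H98.cj_inv_cj, mul_assoc] using i.cj g⁻¹

/-- the data of the job -/
structure S4D (L S : Subgroup G) : Prop where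
  h : Hy L
  m : Mx L S
  z : L ⊓ cen L = ⊥
  d : OutD L
  s : S4F L
  u : Ut L S

namespace S4D

variable (x : S4D L S)

include x

theorem mv (hJ : Kap L S J) : S4D J S :=
  ⟨x.h.to hJ.1, x.m.to hJ, hJ.1.zc x.z, x.d.to hJ.1, hJ.1.equiv.elim fun e => x.s.congr e, x.u.to x.h x.m hJ⟩

omit [Finite G] in
theorem syl : IsSyl 2 ((S ⊓ L).subgroupOf L) ⊤ := (syl_sub_top inf_le_right).2 x.u

omit [Finite G] in
theorem ein (e : G) (he : Ce S e) : e ∈ L ⊔ cen L :=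
  (x.s.cu _ x.syl).inn (x.m.le he.1) (CO.tw_of_sq he.2.2) (ce_cen he L)

omit [Finite G] in
theorem dec {e : G} (he : Ce S e) : ∃ k ∈ cen L, ∃ w ∈ L, Ce S k ∧ Ce S w ∧ e = k * w :=
  x.h.dec_ce x.m.pg x.m.le x.u x.z he (x.ein e he)

omit [Finite G] in
theorem ce {k w : G} (a : k ∈ cen L) (b : w ∈ L) (c : Ce S (k * w)) : Ce S k ∧ Ce S w := by
  obtain ⟨k', a', w', b', p, q, e⟩ := x.dec c
  obtain ⟨rfl, rfl⟩ := dec_eq x.z b b' a a' ((mem_cen.1 a w b).trans (e.trans (mem_cen.1 a' w' b').symm))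
  exact ⟨p, q⟩

theorem fin (hJ : Kap L S J) (hne : J ≠ L) (hW : Om S ⊓ L ⊓ cen J = ⊥)
    (hD : ∀ d ∈ L, Ce S d → d ≠ 1 → DtG L d → KI L d) : False := by
  have hY := Y_elem x.h x.m x.u (x.s.cu _ x.syl) hJ hne hW x.m.one
  obtain ⟨d, a, b, c, e, f, g⟩ := x.s.dp _ x.syl (im (bt L) S) (im_pg _ x.m.pg) mapconj_le_im
  have d1 : Ce S d := ⟨a.1, mem_cen_of_le fun s hs => mem_cen1_symm (bt_fix.1
    (e _ (mem_im.2 ⟨s, x.m.le hs, hs, rfl⟩))), congrArg Subtype.val b.2⟩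
  have d2 := hD d d.2 d1 (inv_sub.1 b).1 ((dt_iff d.2).1 c)
  by_cases k : S ≤ L ⊔ cen L
  · refine x.m.not_ki x.h x.z (nor_comm S) (comm_le_L x.h x.m x.u hY k) ?_ d1 d2
    have l : ((S ⊓ L).subgroupOf L).map L.subtype ≤ S := (subgroupOf_map_subtype _ _).le.trans
      (inf_le_left.trans inf_le_left)
    exact commutator_mono l l (comm_sub f)
  · have l := sq_le_L x.h x.m x.u x.d hY
    refine x.m.not_ki x.h x.z ((nor_comm S).trans (nor_Sq _)) l ?_ d1 d2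
    have := g (mt (im_le_inn x.m.le).1 k)
    rw [im_comm _ x.m.le x.m.le] at this
    obtain ⟨c, p, q, r⟩ := mem_im.1 ((closure_le (im (bt L) (Sq ⁅S, S⁆))).2 (by
      rintro _ ⟨_, i, rfl⟩
      obtain ⟨y, j, n, rfl⟩ := mem_im.1 i
      exact mem_im.2 ⟨y * y, mul_mem j j, subset_closure ⟨y, n, rfl⟩, map_mul (bt L) ⟨y, j⟩ ⟨y, j⟩⟩) this)
    have s : c⁻¹ * d ∈ L ⊓ cen L := mem_inf.2 ⟨mul_mem (inv_mem (l q)) d.2, bt_eq_iff.1 (r.trans (bt_mem d).symm)⟩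
    rw [x.z, mem_bot, inv_mul_eq_one] at s
    exact s ▸ q

theorem nd_sym (hJ : Kap L S J) (hne : J ≠ L) (n : Nd S L J) :
    S ⊓ L = S ⊓ J ∧ ∀ k ∈ cen J, ∀ w ∈ J, k * w ∈ cen L → ¬ DtG J w := by
  obtain ⟨k, a, w, b, c, d, e, f⟩ := n
  have w1 := (x.ce a b c).2
  obtain ⟨X, p, q, r, s⟩ := x.s.nd ⟨w, b⟩ (inv_sub.2 (w1.toInv (proj_ne x.h hJ.1 hne a c.2.2 d e)))
    (mt (dt_iff b).1 f) _ x.syl fun y hy => (cen1_sub _).ge (w1.le hy.1)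
  have t := x.h.gd_le x.z x.d hJ.1 (c.toInv e) d r (by
    rintro _ ⟨y, hy, rfl⟩
    rw [← mem_cen.1 a w b]
    exact ((inf_cen1_dec a).ge ⟨y.2, (cen1_sub _).le (q hy)⟩).2)
  refine ⟨CO.eq_of_le_of_card_le (fun y hy => ⟨hy.1, t ⟨⟨y, hy.2⟩, p hy, rfl⟩⟩)
    (x.m.card_inf x.h hJ le_rfl).2.le, fun k' a' w' b' c' i => s ?_⟩
  refine isPGroup_of_map_injective L.subtype_injective (i.to_le fun y hy => (inf_cen1_dec a').le ⟨t hy, ?_⟩)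
  rw [mem_cen.1 a' w' b']
  exact le_cen1 c' (map_subtype_le X hy)

theorem nd_symm (hJ : Kap L S J) (hne : J ≠ L) (n : Nd S L J) : Nd S J L := by
  obtain ⟨z, a, b, c⟩ := x.m.one.exists_ce x.m.pg
  obtain ⟨k, p, w, q, -, -, rfl⟩ := (x.mv hJ).dec c
  exact ⟨k, p, w, q, c, a, b, (x.nd_sym hJ hne n).2 k p w q a⟩

theorem nd_all (hJ : Kap L S J) (hne : J ≠ L) (n : Nd S L J) :
    (∀ k ∈ cen L, ∀ w ∈ L, k * w ∈ cen J → ¬ DtG L w) ∧ Om S ⊓ L ⊓ cen J = ⊥ :=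
  ⟨((x.mv hJ).nd_sym (x.m.one.to hJ.1) hne.symm (x.nd_symm hJ hne n)).2, eq_bot_iff.2 fun _ hy =>
    (hJ.1.zc x.z).le ⟨((x.nd_sym hJ hne n).1.le ⟨hy.1.1.1, hy.1.2⟩).2, hy.2⟩⟩

theorem even_nd : Even {Y | (Y ≠ L ∧ Kap L S Y) ∧ Nd S L Y}.ncard := by
  by_contra k
  have a := even_of_invol (B := {p : Subgroup G × Subgroup G | Kap L S p.1 ∧ (p.2 ≠ p.1 ∧ Kap L S p.2) ∧
    Nd S p.1 p.2}) Prod.swap (fun p ⟨i, ⟨j, l⟩, n⟩ => ⟨l, ⟨j.symm, i⟩, (x.mv i).nd_symm (l.to i.1) j n⟩)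
    (fun _ _ => rfl) fun p i e => i.2.1.1 (congrArg Prod.fst e)
  refine Nat.not_even_iff_odd.2 (x.m.odd x.h) ((even_fib (Set.toFinite _) (Set.toFinite _) (fun p X => p.1 = X)
    (fun p i => ⟨_, i.1, rfl⟩) (fun p _ a _ b _ (i : p.1 = a) (j : p.1 = b) => i.symm.trans j) fun X hX => ?_).1 a)
  obtain ⟨g, hg, rfl⟩ := x.m.trans x.h x.m.one hX
  convert Nat.not_even_iff_odd.1 k using 1
  rw [← Set.ncard_image_of_injective {Y | (Y ≠ L ∧ Kap L S Y) ∧ Nd S L Y}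
    (f := fun Y => (H98.cj g L, H98.cj g Y)) fun _ _ e => cj_inj.1 (congrArg Prod.snd e)]
  congr 1
  ext ⟨A, B⟩
  refine ⟨?_, ?_⟩
  · rintro ⟨⟨-, ⟨i, j⟩, l⟩, rfl⟩
    refine ⟨H98.cj g⁻¹ B, ⟨⟨fun e => i (by rw [← e, H98.cj_cj_inv]), j.cj (inv_mem hg)⟩, ?_⟩, by
      simp only [H98.cj_cj_inv]⟩
    simpa only [H98.cj_inv_cj] using l.cj (inv_mem hg)
  · rintro ⟨Y, ⟨⟨i, j⟩, l⟩, e⟩
    obtain ⟨rfl, rfl⟩ := Prod.ext_iff.1 e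
    exact ⟨⟨hX, ⟨mt cj_inj.1 i, j.cj hg⟩, l.cj hg⟩, rfl⟩

theorem even_dd : Even {Y | (Y ≠ L ∧ Kap L S Y) ∧ ¬ Nd S L Y}.ncard := by
  have a := x.m.even x.h x.m.one
  rw [← Set.ncard_sdiff_add_ncard_of_subset (s := {Y | (Y ≠ L ∧ Kap L S Y) ∧ Nd S L Y})
    (t := {Y | Y ≠ L ∧ Kap L S Y}) (fun _ i => i.1),
    Nat.even_add, iff_true_right x.even_nd] at a
  convert a using 2
  ext Y
  exact ⟨fun i => ⟨i.1, fun j => i.2 j.2⟩, fun i => ⟨i.1, fun j => i.2 ⟨i.1, j⟩⟩⟩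

end S4D

/-- the two root groups in the centre of `S ⊓ L` -/
structure ABG (L S A B : Subgroup G) : Prop where
  a : A ≤ S ⊓ L ⊓ cen (S ⊓ L)
  b : B ≤ S ⊓ L ⊓ cen (S ⊓ L)
  i : A ⊓ B = ⊥
  a0 : A ≠ ⊥
  b0 : B ≠ ⊥
  d : ∀ w ∈ S ⊓ L, w ∈ cen (S ⊓ L) → w ≠ 1 → (¬ DtG L w ↔ w ∈ A ∨ w ∈ B)
  ca : ∀ x ∈ A, ∀ y ∈ A, x ≠ 1 → y ≠ 1 → ∃ g ∈ L, g * x * g⁻¹ = y
  cb : ∀ x ∈ B, ∀ y ∈ B, x ≠ 1 → y ≠ 1 → ∃ g ∈ L, g * x * g⁻¹ = y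

namespace ABG

variable {A B : Subgroup G} (y : ABG L S A B)

include y

omit [Finite G]

theorem symm : ABG L S B A :=
  ⟨y.b, y.a, inf_comm A B ▸ y.i, y.b0, y.a0, fun w i j k => (y.d w i j k).trans or_comm, y.cb, y.ca⟩

theorem dt_mul {a b : G} (a1 : a ∈ A) (a2 : a ≠ 1) (b1 : b ∈ B) (b2 : b ≠ 1) : a * b ≠ 1 ∧ DtG L (a * b) := by
  have n : a * b ∉ A := fun k => b2 (mem_bot.1 (y.i ▸ mem_inf.2 ⟨by simpa using mul_mem (inv_mem a1) k, b1⟩))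
  have n1 : a * b ≠ 1 := fun k => n (k ▸ one_mem _)
  refine ⟨n1, by_contra fun k => ((y.d _ (mul_mem (y.a a1).1 (y.b b1).1) (mul_mem (y.a a1).2 (y.b b1).2) n1).1
    k).elim n fun k => a2 (mem_bot.1 (y.i ▸ mem_inf.2 ⟨a1, by simpa using mul_mem k (inv_mem b1)⟩))⟩

theorem ne_bot [Finite G] (m : Mx L S) (h : Om S ⊓ A ≠ ⊥) : Om S ⊓ B ≠ ⊥ := by
  obtain ⟨⟨w, w1, w2⟩, w3⟩ := ne_bot_iff_exists_ne_one.1 h
  have w3 : w ≠ 1 := fun e => w3 (Subtype.ext e)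
  obtain ⟨d, p, q, r⟩ := exists_ce m.pg (y.b.trans (inf_le_left.trans inf_le_left)) (fun s hs =>
    mem_normalizer_of_cj_le (by
      rintro _ ⟨b, hb, rfl⟩
      by_cases e : b = 1
      · simp [e]
      have n := m.one.nor_U hs
      have t : ∀ v, DtG L v → DtG L (s * v * s⁻¹) := fun v i => cj_eq_self (m.le hs) ▸ i.cj s
      have t' : ∀ v, DtG L (s * v * s⁻¹) → DtG L v := fun v i => by
        simpa [cj_eq_self (inv_mem (m.le hs)), mul_assoc] using i.cj s⁻¹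
      refine ((y.d (s * b * s⁻¹) (conj_mem_of_mem_normalizer n (y.b hb).1) (cj_mem_cen n (y.b hb).2)
        (by simpa using e)).1 (mt (t' b) ((y.d b (y.b hb).1 (y.b hb).2 e).2 (Or.inr hb)))).resolve_left fun k => ?_
      have u := mul_mem w2 k
      obtain ⟨u1, u2⟩ := y.dt_mul w2 w3 hb e
      have v : s * (w * b) * s⁻¹ = w * (s * b * s⁻¹) := by rw [← conj_mul, CO.cj_eq_of_comm (Ce.comm w1 hs)]
      exact (y.d _ (y.a u).1 (y.a u).2 (by rw [← v]; simpa using u1)).2 (Or.inl u) (v ▸ t _ u2))) y.b0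
  exact fun k => q (mem_bot.1 (k ▸ mem_inf.2 ⟨r, p⟩))

end ABG

namespace S4D

variable (x : S4D L S)

include x

omit [Finite G] in
theorem exists_ab : ∃ A B, ABG L S A B := by
  obtain ⟨A, B, a, b, c, d, e, f, g, i⟩ := x.s.ab _ x.syl
  have k : ∀ X : Subgroup L, X ≤ (S ⊓ L).subgroupOf L ⊓ cen ((S ⊓ L).subgroupOf L) →
      X.map L.subtype ≤ S ⊓ L ⊓ cen (S ⊓ L) := fun X j => by
    rintro _ ⟨y, hy, rfl⟩
    exact ⟨(j hy).1, (cen_sub inf_le_right).le (j hy).2⟩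
  have l : ∀ X : Subgroup L, (∀ x ∈ X, ∀ y ∈ X, x ≠ 1 → y ≠ 1 → IsConj x y) → ∀ x ∈ X.map L.subtype,
      ∀ y ∈ X.map L.subtype, x ≠ 1 → y ≠ 1 → ∃ g ∈ L, g * x * g⁻¹ = y := fun X j => by
    rintro _ ⟨p, hp, rfl⟩ _ ⟨q, hq, rfl⟩ r s
    exact conj_sub (j p hp q hq (fun e => r (congrArg Subtype.val e)) fun e => s (congrArg Subtype.val e))
  refine ⟨_, _, k A a, k B b, by rw [← map_inf _ _ _ L.subtype_injective, c, Subgroup.map_bot],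
    mt (map_eq_bot_iff_of_injective _ L.subtype_injective).1 d,
    mt (map_eq_bot_iff_of_injective _ L.subtype_injective).1 e, fun w p q r => ?_, l A g, l B i⟩
  rw [← dt_iff p.2, f ⟨w, p.2⟩ p (mem_cen_sub p.2 q) fun e => r (congrArg Subtype.val e),
    ← mem_map_iff_mem L.subtype_injective, ← mem_map_iff_mem (K := B) L.subtype_injective]
  rfl

/-- the set of central involutions of type `Dt` -/
def DS (L S : Subgroup G) : Set G := {d | d ∈ L ∧ Ce S d ∧ d ≠ 1 ∧ DtG L d}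

theorem odd_DS : Odd (DS L S).ncard := by
  obtain ⟨A, B, y⟩ := x.exists_ab
  obtain ⟨w, a, b, c⟩ := x.u.exists_w x.h x.m
  have p := odd_sharp ((Om_pg x.m.pg).to_le inf_le_left) fun k => b (mem_bot.1 (k ▸ mem_inf.2 ⟨c, a⟩ :
    w ∈ (⊥ : Subgroup G)))
  have e : {d | d ∈ Om S ⊓ L ∧ d ≠ 1} = DS L S ∪ ({d | d ∈ Om S ⊓ A ∧ d ≠ 1} ∪ {d | d ∈ Om S ⊓ B ∧ d ≠ 1}) := by
    ext d
    refine ⟨fun i => ?_, ?_⟩
    · by_cases k : DtG L d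
      · exact Or.inl ⟨i.1.2, i.1.1, i.2, k⟩
      · exact Or.inr (((y.d d ⟨i.1.1.1, i.1.2⟩ (ce_cen i.1.1 L) i.2).1 k).imp (fun j => ⟨⟨i.1.1, j⟩, i.2⟩)
          fun j => ⟨⟨i.1.1, j⟩, i.2⟩)
    · rintro (i | i | i)
      · exact ⟨⟨i.2.1, i.1⟩, i.2.2.1⟩
      · exact ⟨⟨i.1.1, (y.a i.1.2).1.2⟩, i.2⟩
      · exact ⟨⟨i.1.1, (y.b i.1.2).1.2⟩, i.2⟩
  rw [e, Set.ncard_union_eq (Set.disjoint_left.2 fun d i j => (y.d d ⟨i.2.1.1, i.1⟩ (ce_cen i.2.1 L) i.2.2.1).2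
    (j.imp (·.1.2) (·.1.2)) i.2.2.2), Set.ncard_union_eq (Set.disjoint_left.2 fun d i j =>
      i.2 (mem_bot.1 (y.i ▸ mem_inf.2 ⟨i.1.2, j.1.2⟩))), Nat.odd_add] at p
  refine p.2 ?_
  by_cases k : Om S ⊓ A = ⊥
  · have k' : Om S ⊓ B = ⊥ := by_contra fun j => y.symm.ne_bot x.m j k
    simp [k, k']
  · exact (odd_sharp ((Om_pg x.m.pg).to_le inf_le_left) k).add_odd
      (odd_sharp ((Om_pg x.m.pg).to_le inf_le_left) (y.ne_bot x.m k))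

omit [Finite G] in
theorem conj_DS {d d' : G} (i : d ∈ DS L S) (j : d' ∈ DS L S) : ∃ g ∈ L, g * d * g⁻¹ = d' :=
  conj_sub (x.s.dd ⟨d, i.1⟩ ⟨d', j.1⟩ (inv_sub.2 (i.2.1.toInv i.2.2.1)) (inv_sub.2 (j.2.1.toInv j.2.2.1))
    ((dt_iff _).2 i.2.2.2) ((dt_iff _).2 j.2.2.2))

omit x [Finite G] in
theorem ki_mv {k d d' : G} (hk : k ∈ cen L) (h : ∃ g ∈ L, g * d * g⁻¹ = d') (e : KI L (k * d)) : KI L (k * d') := by
  obtain ⟨g, hg, rfl⟩ := h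
  have := e.conj g
  rwa [← conj_mul, CO.cj_eq_of_comm (mem_cen.1 hk g hg)] at this

omit [Finite G] in
theorem nk {k d : G} (a : k ∈ cen L) (b : d ∈ L) (c : d ≠ 1) : k * d ∉ cen L := fun e =>
  c (mem_bot.1 (x.z ▸ mem_inf.2 ⟨b, by simpa using mul_mem (inv_mem a) e⟩))

theorem onto (hJ : Kap L S J) (hW : Om S ⊓ L ⊓ cen J = ⊥) {k : G} (a : k ∈ cen L) (b : Ce S k) :
    ∃ w ∈ L, Ce S w ∧ k * w ∈ cen J :=
  let ⟨w, p, q⟩ := x.m.onto x.h (W := Om S ⊓ L) (fun _ i => i.1) (W_dec x.h x.m x.z x.u x.ein) hJ hW b a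
  ⟨w, p.2, p.1, q⟩

/-- A `Dd` neighbour whose centraliser misses `W` is absurd. -/
theorem dd (hJ : Kap L S J) (hne : J ≠ L) (hW : Om S ⊓ L ⊓ cen J = ⊥) : Nd S L J := by
  by_contra n
  refine x.fin hJ hne hW fun d a b c e => by_contra fun f => Nat.not_even_iff_odd.2 (x.m.cnt x.h x.z
    (fun _ i => i.1.2) (D := DS L S) (fun _ i => ⟨i.1, i.2.1, i.2.2.1⟩) x.odd_DS (fun Y i y p q r => ?_)
    fun k p q r d' s => ?_) x.even_dd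
  · obtain ⟨k, t, w, u, -, v, rfl⟩ := x.dec p
    have o : w ∈ DS L S := ⟨u, v, proj_ne x.h i.1.2.1 i.1.1 t p.2.2 q r, by_contra fun j =>
      i.2 ⟨k, t, w, u, p, q, r, j⟩⟩
    exact ⟨k, t, fun j => f (by simpa [j] using ki_mv t (x.conj_DS o ⟨a, b, c, e⟩) ⟨p.toInv r, Y, i.1.2.1, q⟩),
      w, o, rfl⟩
  · obtain ⟨w, t, u, v⟩ := x.onto hJ hW p q
    have o : k * w ≠ 1 := fun j => r (mem_bot.1 (x.z ▸ mem_inf.2 ⟨eq_inv_of_mul_eq_one_left j ▸ inv_mem t, p⟩))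
    obtain ⟨Y, i, j⟩ := x.h.kap_of_ki (q.mul s.2.1) (ki_mv p (x.conj_DS ⟨t, u, proj_ne x.h hJ.1 hne p
      (q.mul u).2.2 v o, by_contra fun j => n ⟨k, p, w, t, q.mul u, v, o, j⟩⟩ s) ⟨(q.mul u).toInv o, J, hJ.1, v⟩)
    have l : Y ≠ L := fun l => x.nk p s.1 s.2.2.1 (l ▸ j)
    exact ⟨Y, ⟨⟨l, i⟩, fun l' => (x.nd_all i l l').1 k p d' s.1 j s.2.2.2⟩, j⟩

/-- Both root groups occur as projections. -/
theorem both {A B : Subgroup G} (y : ABG L S A B) (hJ : Kap L S J) (hne : J ≠ L) (n : Nd S L J) :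
    ∃ k ∈ cen L, ∃ w ∈ B, Ce S (k * w) ∧ w ≠ 1 ∧ KI L (k * w) := by
  by_contra f
  push Not at f
  have pr : ∀ Y, Y ≠ L → Kap L S Y → Nd S L Y → ∀ k ∈ cen L, ∀ w ∈ L, Ce S (k * w) → k * w ∈ cen Y →
      k * w ≠ 1 → k ≠ 1 ∧ w ∈ Om S ⊓ A ∧ w ≠ 1 := fun Y i j l k p w q r s t => by
    have u := proj_ne x.h j.1 i p r.2.2 s t
    have v := (x.ce p q r).2
    refine ⟨fun e => u (mem_bot.1 ((x.nd_all j i l).2 ▸ mem_inf.2 ⟨⟨v, q⟩, by simpa [e] using s⟩)), ⟨v, ?_⟩, u⟩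
    exact ((y.d w ⟨v.1, q⟩ (ce_cen v L) u).1 ((x.nd_all j i l).1 k p w q s)).resolve_right fun e =>
      f k p w e r u ⟨r.toInv t, Y, j.1, s⟩
  obtain ⟨k0, p0, w0, q0, r0, s0, t0, -⟩ := id n
  refine Nat.not_even_iff_odd.2 (x.m.cnt x.h x.z (fun _ i => i.1.2) (D := {d | d ∈ Om S ⊓ A ∧ d ≠ 1})
    (fun _ i => ⟨(y.a i.1.2).1.2, i.1.1, i.2⟩) (odd_sharp ((Om_pg x.m.pg).to_le inf_le_left) fun e =>
      (pr J hne hJ n k0 p0 w0 q0 r0 s0 t0).2.2 (mem_bot.1 (e ▸ (pr J hne hJ n k0 p0 w0 q0 r0 s0 t0).2.1)))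
    (fun Y i z p q r => ?_) fun k p q r d s => ?_) x.even_nd
  · obtain ⟨k, t, w, u, -, -, rfl⟩ := x.dec p
    exact ⟨k, t, (pr Y i.1.1 i.1.2 i.2 k t w u p q r).1, w, (pr Y i.1.1 i.1.2 i.2 k t w u p q r).2, rfl⟩
  · obtain ⟨w, t, u, v⟩ := x.onto hJ (x.nd_all hJ hne n).2 p q
    have o : k * w ≠ 1 := fun j => r (mem_bot.1 (x.z ▸ mem_inf.2 ⟨eq_inv_of_mul_eq_one_left j ▸ inv_mem t, p⟩))
    have o' := (pr J hne hJ n k p w t (q.mul u) v o).2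
    have ki := ki_mv p (y.ca w o'.1.2 d s.1.2 o'.2 s.2) ⟨(q.mul u).toInv o, J, hJ.1, v⟩
    obtain ⟨Y, i, j⟩ := x.h.kap_of_ki (q.mul s.1.1) ki
    exact ⟨Y, ⟨⟨fun l => x.nk p (y.a s.1.2).1.2 s.2 (l ▸ j), i⟩, k, p, d, (y.a s.1.2).1.2, q.mul s.1.1, j, ki.1.1,
      (y.d d (y.a s.1.2).1 (y.a s.1.2).2 s.2).2 (Or.inl s.1.2)⟩, j⟩

omit [Finite G] in
theorem dt_sq {w : G} (a : w ∈ L) (b : Ce S w) (c : w ≠ 1) : DtG L w ↔ ∃ v ∈ S ⊓ L, v * v = w := by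
  rw [← dt_iff a, x.s.sq _ x.syl ⟨w, a⟩ ⟨b.1, a⟩ (mem_cen_sub a (ce_cen b L)) fun e => c (congrArg Subtype.val e)]
  exact ⟨fun ⟨v, p, q⟩ => ⟨v, p, congrArg Subtype.val q⟩, fun ⟨v, p, q⟩ => ⟨⟨v, p.2⟩, p, Subtype.ext q⟩⟩

theorem false : False := by
  by_cases k : ∃ J, J ≠ L ∧ Kap L S J ∧ Nd S L J
  swap
  · push Not at k
    obtain ⟨-, J, a, b, c⟩ := jobU1 G L S x.h x.m (Om S ⊓ L) (DS L S) inf_le_right (fun _ k => k.1) (W_bot x.z)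
      (W_dec x.h x.m x.z x.u x.ein) (fun _ i => ⟨⟨i.2.1, i.1⟩, i.2.2.1⟩) (fun J i j k' l w n o p q =>
        ⟨n.2, n.1, proj_ne x.h j.1 i l o.2.2 p q, by_contra fun r => k J i j ⟨k', l, w, n.2, o, p, q, r⟩⟩)
      (fun _ i _ j => x.conj_DS i j) x.odd_DS
    exact k J a b (x.dd b a c)
  obtain ⟨J0, a0, b0, c0⟩ := k
  obtain ⟨A, B, y⟩ := x.exists_ab
  have nb : ∀ A B, ABG L S A B → ∃ J, J ≠ L ∧ Kap L S J ∧ Nd S L J ∧ ∃ k ∈ cen L, ∃ w ∈ B, Ce S k ∧ Ce S w ∧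
      k ≠ 1 ∧ w ≠ 1 ∧ k * w ∈ cen J := fun A B y => by
    obtain ⟨k, p, w, q, r, s, t⟩ := x.both y b0 a0 c0
    obtain ⟨J, i, j⟩ := x.h.kap_of_ki r t
    have l : J ≠ L := fun l => x.nk p (y.b q).1.2 s (l ▸ j)
    have n : Nd S L J := ⟨k, p, w, (y.b q).1.2, r, j, t.1.1, (y.d w (y.b q).1 (y.b q).2 s).2 (Or.inr q)⟩
    obtain ⟨u, v⟩ := x.ce p (y.b q).1.2 r
    exact ⟨J, l, i, n, k, p, w, q, u, v, fun e => s (mem_bot.1 ((x.nd_all i l n).2 ▸ mem_inf.2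
      ⟨⟨v, (y.b q).1.2⟩, by simpa [e] using j⟩)), s, j⟩
  obtain ⟨J, j1, j2, j3, k1, p1, w1, q1, r1, s1, -, u1, v1⟩ := nb B A y.symm
  obtain ⟨I, i1, i2, i3, k2, p2, w2, q2, r2, s2, t2, u2, v2⟩ := nb A B y
  obtain ⟨w, a, b, c⟩ := x.onto j2 (x.nd_all j2 j1 j3).2 p2 r2
  have o : k2 * w ≠ 1 := fun j => t2 (mem_bot.1 (x.z ▸ mem_inf.2 ⟨eq_inv_of_mul_eq_one_left j ▸ inv_mem a, p2⟩))
  have d := proj_ne x.h j2.1 j1 p2 (r2.mul b).2.2 c o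
  have e : w ∈ A := ((y.d w ⟨b.1, a⟩ (ce_cen b L) d).1 ((x.nd_all j2 j1 j3).1 k2 p2 w a c)).resolve_right fun e =>
    (x.nd_all j2 j1 j3).1 _ (mul_mem p1 p2) _ (mul_mem (y.a q1).1.2 a) (by
      rw [mul_assoc, ← mul_assoc k2, ← r2.comm s1.1, mul_assoc, ← mul_assoc]; exact mul_mem v1 c)
      (y.dt_mul q1 u1 e d).2
  obtain ⟨f, g⟩ := y.dt_mul e d q2 u2
  have eJ := (x.nd_sym j2 j1 j3).1
  have eI := (x.nd_sym i2 i1 i3).1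
  have m1 : w * w2 ∈ J := (eJ.le ⟨mul_mem b.1 s2.1, mul_mem a (y.b q2).1.2⟩).2
  have m2 : k2 * w * (w * w2) ∈ cen I := by rwa [mul_assoc, ← mul_assoc w, b.2.2, one_mul]
  have m3 : I ≠ J := fun l => f (mem_bot.1 (j2.1.zc x.z ▸ mem_inf.2 ⟨m1, by
    have := mul_mem (inv_mem c) (l ▸ m2)
    rwa [_root_.inv_mul_cancel_left] at this⟩))
  refine ((x.mv j2).nd_all (i2.to j2.1) m3 ((x.mv j2).dd (i2.to j2.1) m3 (eq_bot_iff.2 fun v hv =>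
    (i2.1.zc x.z).le ⟨((eJ.symm.trans eI).le ⟨hv.1.1.1, hv.1.2⟩).2, hv.2⟩))).1 _ c _ m1 m2 ?_
  rw [(x.mv j2).dt_sq m1 (b.mul s2) f, ← eJ, ← x.dt_sq (mul_mem a (y.b q2).1.2) (b.mul s2) f]
  exact g

end S4D

theorem jobS4 : JobS4.{u} := fun _ _ _ _ _ h m z d s u => S4D.false ⟨h, m, z, d, s, u⟩

end H36.QF
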