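import Cfsg.Agent.H36.QFK0
import Cfsg.Agent.H36.QEWrap
import Cfsg.Agent.H36.QESt
import Cfsg.Agent.H91.CompKLA

/-! Tower QF: the configuration of a maximal `2`-subgroup that belongs to two conjugates of a standard
subgroup. -/

set_option autoImplicit false

namespace H36.QF

open Cfsg Subgroup H14 H98 H97 H36.QE
open H14.CO (cen cen1 nor cm Tw mem_cen mem_cen1)

universe u

variable {G : Type u} [Group G] {L S I J : Subgroup G} {g x y z e : G}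

/-! ### Conjugates -/

theorem cen_cj (g : G) (L : Subgroup G) : cen (H98.cj g L) = H98.cj g (cen L) := (cj_centralizer g L).symm

theorem nor_cj (g : G) (L : Subgroup G) : nor (H98.cj g L) = H98.cj g (nor L) := (cj_normalizer g L).symm

theorem Cj.refl (L : Subgroup G) : Cj L L := ⟨1, H98.cj_one L⟩

theorem Cj.symm (h : Cj L J) : Cj J L := by
  obtain ⟨g, rfl⟩ := h; exact ⟨g⁻¹, H98.cj_inv_cj g L⟩

theorem Cj.trans (h : Cj L I) (k : Cj I J) : Cj L J := by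
  obtain ⟨g, rfl⟩ := h; obtain ⟨g', rfl⟩ := k; exact ⟨g' * g, (cj_cj _ _ _).symm⟩

theorem Cj.cj (h : Cj L J) (g : G) : Cj L (H98.cj g J) := h.trans ⟨g, rfl⟩

theorem Cj.equiv (h : Cj L J) : Nonempty (L ≃* J) := by
  obtain ⟨g, rfl⟩ := h; exact ⟨(MulAut.conj g).subgroupMap L⟩

theorem Cj.card (h : Cj L J) : Nat.card J = Nat.card L := by
  obtain ⟨g, rfl⟩ := h; exact card_cj g L

theorem Cj.zc (h : Cj L J) (hz : L ⊓ cen L = ⊥) : J ⊓ cen J = ⊥ := by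
  obtain ⟨g, rfl⟩ := h; rw [cen_cj, ← cj_inf, hz, cj_bot]

theorem KI.conj (h : KI L y) (g : G) : KI L (g * y * g⁻¹) :=
  let ⟨h1, _, h2, h3⟩ := h
  ⟨h1.cj g, _, h2.cj g, by rw [cen_cj]; exact conj_mem_cj h3⟩

theorem KI.isConj (h : KI L y) (hc : IsConj y x) : KI L x := by
  obtain ⟨g, rfl⟩ := isConj_iff.1 hc; exact h.conj g

theorem KI.to (h : KI L y) (hJ : Cj L J) : KI J y :=
  let ⟨h1, I, h2, h3⟩ := h
  ⟨h1, I, hJ.symm.trans h2, h3⟩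

theorem KI.of_cen (hJ : Cj L J) (h1 : CO.Inv y) (h2 : y ∈ cen J) : KI L y := ⟨h1, J, hJ, h2⟩

theorem Kap.to (h : Kap L S I) (hJ : Cj L J) : Kap J S I := ⟨hJ.symm.trans h.1, h.2⟩

theorem Kap.cj' (h : Kap L S J) (g : G) : Kap L (H98.cj g S) (H98.cj g J) :=
  ⟨h.1.cj g, by rw [nor_cj]; exact cj_mono g h.2.1, by
    rw [cen_cj, ← cj_inf]; exact mt cj_eq_bot_iff.1 h.2.2⟩

theorem Kap.cj (h : Kap L S J) (hg : g ∈ nor S) : Kap L S (H98.cj g J) := by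
  have := h.cj' g
  rwa [cj_eq_self hg] at this

theorem Kap.mono {S' : Subgroup G} (h : Kap L S J) (h1 : S ≤ S') (h2 : S' ≤ nor J) : Kap L S' J :=
  ⟨h.1, h2, fun k => h.2.2 (le_bot_iff.1 ((inf_le_inf_right _ h1).trans k.le))⟩

theorem Kap.nc (h : Kap L S J) : S ≤ nor (cen J) := le_normalizer_centralizer h.2.1

theorem Tk.to (h : Tk L S) (hJ : Cj L J) : Tk J S :=
  let ⟨h1, I, I', h2, h3, h4⟩ := h
  ⟨h1, I, I', h2, h3.to hJ, h4.to hJ⟩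

theorem Tk.cj (h : Tk L S) (g : G) : Tk L (H98.cj g S) :=
  let ⟨h1, _, _, h2, h3, h4⟩ := h
  ⟨isPGroup_cj g h1, _, _, mt cj_inj.1 h2, h3.cj' g, h4.cj' g⟩

theorem Mx.to (h : Mx L S) (hJ : Kap L S J) : Mx J S :=
  ⟨h.tk.to hJ.1, hJ.to hJ.1, fun S' k => h.max S' (k.to hJ.1.symm)⟩

theorem Mx.cj (h : Mx L S) (g : G) : Mx (H98.cj g L) (H98.cj g S) :=
  ⟨(h.tk.cj g).to ⟨g, rfl⟩, (h.one.cj' g).to ⟨g, rfl⟩, fun S' k => by
    rw [card_cj]; exact h.max S' (k.to (Cj.symm ⟨g, rfl⟩))⟩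

theorem Mx.pg (h : Mx L S) : IsPGroup 2 S := h.tk.1

theorem Mx.le (h : Mx L S) : S ≤ nor L := h.one.2.1

/-- A second group of at least the same order is maximal as well. -/
theorem Mx.of_card {S' : Subgroup G} (h : Mx L S) (h1 : Tk L S') (h2 : Kap L S' L)
    (h3 : Nat.card S ≤ Nat.card S') : Mx L S' := ⟨h1, h2, fun S'' k => (h.max S'' k).trans h3⟩

theorem Mx.exists_ne (h : Mx L S) : ∃ J, J ≠ L ∧ Kap L S J := by
  obtain ⟨-, I, J, h1, h2, h3⟩ := h.tk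
  by_cases k : I = L
  · exact ⟨J, fun e => h1 (k.trans e.symm), h3⟩
  · exact ⟨I, k, h2⟩

theorem Ce.one (S : Subgroup G) : Ce S 1 := ⟨one_mem _, one_mem _, one_mul _⟩

theorem Ce.comm (h : Ce S e) (hx : x ∈ S) : x * e = e * x := mem_cen.1 h.2.1 x hx

theorem Ce.le (h : Ce S e) : S ≤ cen1 e := fun _ hx => mem_cen1.2 (h.comm hx)

theorem Ce.inv (h : Ce S e) : e⁻¹ = e := inv_eq_of_mul_eq_one_right h.2.2

theorem Ce.mul (h : Ce S x) (k : Ce S y) : Ce S (x * y) :=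
  ⟨mul_mem h.1 k.1, mul_mem h.2.1 k.2.1, by
    rw [mul_assoc, ← mul_assoc y, h.comm k.1, mul_assoc, k.2.2, mul_one, h.2.2]⟩

theorem Ce.cj (h : Ce S e) (hg : g ∈ nor S) : Ce S (g * e * g⁻¹) :=
  ⟨conj_mem_of_mem_normalizer hg h.1, cj_mem_cen hg h.2.1, by
    rw [conj_mul, h.2.2, mul_one, mul_inv_cancel]⟩

theorem Ce.toInv (h : Ce S e) (h1 : e ≠ 1) : CO.Inv e := ⟨h1, h.2.2⟩

/-- `Ω_1(Z(S))` as a subgroup -/
def Om (S : Subgroup G) : Subgroup G where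
  carrier := {e | Ce S e}
  one_mem' := Ce.one S
  mul_mem' := Ce.mul
  inv_mem' := fun h => (Ce.inv h).symm ▸ h

theorem mem_Om : e ∈ Om S ↔ Ce S e := Iff.rfl

theorem nor_Om : nor S ≤ nor (Om S) := fun _ hg => mem_normalizer_iff.2 fun x =>
  ⟨fun h => Ce.cj h hg, fun h => mem_Om.2 (by simpa [mul_assoc] using Ce.cj h (inv_mem hg))⟩

theorem Ut.cj (h : Ut L S) (hg : g ∈ nor S) : Ut (H98.cj g L) S := by
  have := IsSyl.cj h g
  rwa [cj_inf, cj_eq_self hg] at this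

theorem mem_LK : x ∈ L ⊔ cen L ↔ ∃ l ∈ L, ∃ k ∈ cen L, x = l * k :=
  mem_sup_right_norm (CO.cen_le_nor L)

theorem LK_le : L ⊔ cen L ≤ nor L := sup_le le_normalizer (CO.cen_le_nor L)

theorem nor_LK : nor L ≤ nor (L ⊔ cen L) :=
  le_normalizer_sup le_rfl (normalizer_le_normalizer_centralizer L)

theorem LK_cj (g : G) (L : Subgroup G) : H98.cj g L ⊔ cen (H98.cj g L) = H98.cj g (L ⊔ cen L) := by
  rw [cen_cj, cj_sup]

theorem NoIn.to (h : NoIn L) (hJ : Cj L J) : NoIn J := by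
  obtain ⟨g, rfl⟩ := hJ
  intro y h1 h2
  rw [LK_cj, H98.mem_cj] at h2
  rw [cen_cj, H98.mem_cj]
  exact h _ (by simpa using (h1.to (Cj.symm ⟨g, rfl⟩)).conj g⁻¹) h2

theorem AllIn.cj (h : AllIn L S) (hg : g ∈ nor S) : AllIn (H98.cj g L) S := fun J h1 h2 y h3 h4 => by
  rw [LK_cj, H98.mem_cj]
  refine h (H98.cj g⁻¹ J) (fun k => h1 (by rw [← k, H98.cj_cj_inv])) ((h2.to (Cj.symm ⟨g, rfl⟩)).cj (inv_mem hg)) _
    (by simpa using h3.cj (inv_mem hg)) ?_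
  rw [cen_cj]
  simpa using conj_mem_cj (g := g⁻¹) h4

/-- `Ω_1(Z(S))` is inner on a conjugate under `N(S)`. -/
theorem ein_cj (h : ∀ e, Ce S e → e ∈ L ⊔ cen L) (hg : g ∈ nor S) :
    ∀ e, Ce S e → e ∈ H98.cj g L ⊔ cen (H98.cj g L) := fun e he => by
  rw [LK_cj, H98.mem_cj]
  exact h _ (by simpa using he.cj (inv_mem hg))

/-- uniqueness of the decomposition in `L × C(L)` -/
theorem dec_eq (hz : L ⊓ cen L = ⊥) {l l' k k' : G} (hl : l ∈ L) (hl' : l' ∈ L) (hk : k ∈ cen L)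
    (hk' : k' ∈ cen L) (h : l * k = l' * k') : l = l' ∧ k = k' := by
  have h1 : l'⁻¹ * l = k' * k⁻¹ := by
    rw [inv_mul_eq_iff_eq_mul, ← mul_assoc, ← h, mul_inv_cancel_right]
  have h2 : l'⁻¹ * l = 1 := mem_bot.1 (hz ▸ mem_inf.2 ⟨mul_mem (inv_mem hl') hl, h1 ▸ mul_mem hk' (inv_mem hk)⟩)
  exact ⟨(inv_mul_eq_one.1 h2).symm, (mul_inv_eq_one.1 (h1 ▸ h2)).symm⟩

/-- An element that normalises `L` and centralises `l k` centralises both parts. -/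
theorem dec_cen (hz : L ⊓ cen L = ⊥) {l k : G} (hl : l ∈ L) (hk : k ∈ cen L) (hg : g ∈ nor L)
    (h : g ∈ cen1 (l * k)) : g ∈ cen1 l ∧ g ∈ cen1 k := by
  have := dec_eq hz (conj_mem_of_mem_normalizer hg hl) hl (cj_mem_cen hg hk) hk (by
    rw [conj_mul, CO.cj_eq_of_comm (mem_cen1.1 h)])
  exact ⟨mem_cen1.2 (mul_inv_eq_iff_eq_mul.1 this.1), mem_cen1.2 (mul_inv_eq_iff_eq_mul.1 this.2)⟩

theorem dec_sq (hz : L ⊓ cen L = ⊥) {l k : G} (hl : l ∈ L) (hk : k ∈ cen L) (h : l * k * (l * k) = 1) :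
    l * l = 1 ∧ k * k = 1 :=
  dec_eq hz (mul_mem hl hl) (one_mem _) (mul_mem hk hk) (one_mem _) (by
    rw [one_mul, ← h, mul_assoc, mul_assoc, ← mul_assoc k, ← mem_cen.1 hk l hl, mul_assoc])

theorem inf_cen1_dec {l k : G} (hk : k ∈ cen L) : L ⊓ cen1 (l * k) = L ⊓ cen1 l := by
  ext x
  rw [mem_inf, mem_inf]
  refine and_congr_right fun hx => ?_
  rw [mem_cen1, mem_cen1, mul_assoc, ← mem_cen.1 hk x hx, ← mul_assoc, ← mul_assoc, mul_left_inj]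

/-! ### The hypotheses -/

theorem Hy.qs (h : Hy L) : IsQuasisimple L := h.std.1

theorem Hy.perf (h : Hy L) : ⁅L, L⁆ = L := quasi_sub_perfect h.qs

theorem Hy.nor_cen (h : Hy L) : nor (cen L) = nor L := h.std.2.2.2.symm

theorem Hy.cj (h : Hy L) (g : G) : Hy (H98.cj g L) where
  sim := h.sim
  std := by
    obtain ⟨h1, ⟨h2, h3⟩, h4, h5⟩ := h.std
    refine ⟨quasi_of_mulEquiv h1 ((MulAut.conj g).subgroupMap L), ⟨by rwa [← cj_centralizer, card_cj], fun a ha => ?_⟩,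
      fun a ha k => h4 (g⁻¹ * a * g) (fun e => ha ?_) ?_, by
        rw [← cj_centralizer, ← cj_normalizer, ← cj_normalizer, h5]⟩
    · rw [← cj_centralizer, ← cj_normalizer, H98.mem_cj] at ha
      have := h3 _ ha
      rw [← card_cj g, cj_inf] at this
      rw [← cj_centralizer]
      change Odd (Nat.card ↥(H98.cj g _ ⊓ H98.cj g (H98.cj _ _))) at this
      change Odd (Nat.card ↥(_ ⊓ H98.cj a (H98.cj g _)))
      rwa [cj_cj, show a * g = g * (g⁻¹ * a * g) by group, ← cj_cj]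
    · change H98.cj a (H98.cj g L) = _
      change H98.cj _ L = L at e
      rw [cj_cj, show a * g = g * (g⁻¹ * a * g) by group, ← cj_cj, e]
    · change ⁅H98.cj g L, H98.cj a (H98.cj g L)⁆ = ⊥ at k
      rwa [cj_cj, show a * g = g * (g⁻¹ * a * g) by group, ← cj_cj, ← cj_commutator, cj_eq_bot_iff] at k
  idx := by rw [nor_cj, index_map_of_bijective (f := (MulAut.conj g).toMonoidHom) (MulAut.conj g).bijective]; exact h.idx
  odd := h.odd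
  qt := h.qt
  z2 := by rw [cen_cj, ← cj_inf]; exact isPGroup_cj g h.z2
  rk := by
    obtain ⟨A, a, b, c⟩ := h.rk
    obtain ⟨f⟩ := Cj.equiv (L := L) ⟨g, rfl⟩
    exact ⟨A.map f.toMonoidHom, (mp_ab f).2 a, by
      rintro _ ⟨x, hx, rfl⟩; rw [← map_pow, b x hx, map_one], by rwa [mp_card]⟩

theorem Hy.to (h : Hy L) (hJ : Cj L J) : Hy J := by
  obtain ⟨g, rfl⟩ := hJ; exact h.cj g

theorem Hy.cen1_le [Finite G] (h : Hy L) (hJ : Cj L J) (h1 : CO.Inv y) (h2 : y ∈ cen J) : cen1 y ≤ nor J :=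
  nor_of_std (h.to hJ).std h1 h2

/-- An involution centralises at most one conjugate of `L`. -/
theorem Hy.uniq (h : Hy L) (hI : Cj L I) (hJ : Cj L J) (h1 : CO.Inv y) (h2 : y ∈ cen I) (h3 : y ∈ cen J) :
    I = J := by
  obtain ⟨g, rfl⟩ := hI.symm.trans hJ
  have k := h.to hI
  refine (cj_eq_self ?_).symm
  rw [← nor, ← k.nor_cen]
  by_contra hn
  have h5 := orderOf_dvd_natCard (⟨y, h2, cen_cj g I ▸ h3⟩ : (cen I ⊓ H98.cj g (cen I) : Subgroup G))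
  rw [← Subgroup.orderOf_coe, h1.orderOf] at h5
  exact absurd (even_iff_two_dvd.2 h5) (Nat.not_even_iff_odd.2 (k.std.2.1.2 g hn))

theorem Hy.inf_bot (h : Hy L) (hI : Cj L I) (hJ : Cj L J) (hne : I ≠ J) {D : Subgroup G} (hD : IsPGroup 2 D)
    (h1 : D ≤ cen I) (h2 : D ≤ cen J) : D = ⊥ := by
  by_contra k
  obtain ⟨s, hs, h3⟩ := CO.exists_inv_mem hD k
  exact hne (h.uniq hI hJ h3 (h1 hs) (h2 hs))

theorem Hy.eq_one (h : Hy L) (hI : Cj L I) (hJ : Cj L J) (hne : I ≠ J) (ht : Tw y) (h1 : y ∈ cen I)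
    (h2 : y ∈ cen J) : y = 1 :=
  zpowers_eq_bot.1 (h.inf_bot hI hJ hne ht.zp (zpowers_le.2 h1) (zpowers_le.2 h2))

theorem Hy.nor_le (h : Hy L) (hJ : Cj L J) {D : Subgroup G} (hD : IsPGroup 2 D) (h1 : D ≤ cen J)
    (h2 : D ≠ ⊥) : nor D ≤ nor J := fun g hg => by
  obtain ⟨s, hs, h3⟩ := CO.exists_inv_mem hD h2
  refine cj_eq_self_iff.1 (h.uniq (hJ.cj g) hJ (h3.cj g) ?_ (h1 (conj_mem_of_mem_normalizer hg hs)))
  rw [cen_cj]; exact conj_mem_cj (h1 hs)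

theorem Hy.kap [Finite G] (h : Hy L) (hJ : Cj L J) (h1 : Ce S y) (h2 : y ≠ 1) (h3 : y ∈ cen J) : Kap L S J :=
  ⟨hJ, h1.le.trans (h.cen1_le hJ (h1.toInv h2) h3), fun k => h2 (mem_bot.1 (k ▸ ⟨h1.1, h3⟩))⟩

/-- A central `KI` involution belongs to a member of `Kap`. -/
theorem Hy.kap_of_ki [Finite G] (h : Hy L) (h1 : Ce S y) (h2 : KI L y) : ∃ J, Kap L S J ∧ y ∈ cen J :=
  let ⟨h3, J, h4, h5⟩ := h2
  ⟨J, h.kap h4 h1 h3.1 h5, h5⟩

theorem Hy.qt2 (h : Hy L) {D : Subgroup G} (hD : IsPGroup 2 D) (h1 : D ≠ ⊥) {p : ℕ} (hp : p.Prime)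
    (h2 : p ≠ 2) {A : Subgroup G} (hA : A ≤ nor D) (ha : IsMulCommutative A) (he : ∀ a ∈ A, a ^ p = 1) :
    Nat.card A ≤ p ^ 2 := by
  have := h.qt p hp h2 (nor D) ⟨D, hD, h1, rfl⟩ (A.subgroupOf (nor D)) inferInstance
    fun a h => Subtype.ext (he a h)
  rwa [Nat.card_congr (subgroupOfEquivOfLe hA).toEquiv] at this

variable [Finite G]

theorem exists_ce (hS : IsPGroup 2 S) {D : Subgroup G} (h1 : D ≤ S) (h2 : S ≤ nor D) (h3 : D ≠ ⊥) :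
    ∃ d ∈ D, d ≠ 1 ∧ Ce S d :=
  let ⟨s, a, b, c⟩ := CO.exists_inv_cen hS (hS.to_le h1) h2 h3
  ⟨s, a, b.1, h1 a, c, b.2⟩

theorem eq_bot_of_ce (hS : IsPGroup 2 S) {D : Subgroup G} (h1 : D ≤ S) (h2 : S ≤ nor D)
    (h3 : ∀ d ∈ D, Ce S d → d = 1) : D = ⊥ := by
  by_contra k
  obtain ⟨d, a, b, c⟩ := exists_ce hS h1 h2 k
  exact b (h3 d a c)

omit [Finite G] in
theorem Kap.nor_Y (h : Kap L S J) : S ≤ nor (S ⊓ cen J) := le_normalizer_inf le_normalizer h.nc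

omit [Finite G] in
theorem Kap.nor_U (h : Kap L S J) : S ≤ nor (S ⊓ J) := le_normalizer_inf le_normalizer h.2.1

theorem Kap.exists_ce (h : Kap L S J) (hS : IsPGroup 2 S) : ∃ z ∈ cen J, z ≠ 1 ∧ Ce S z :=
  let ⟨d, a, b⟩ := QF.exists_ce hS inf_le_left h.nor_Y h.2.2
  ⟨d, a.2, b⟩

/-- Two normal subgroups of `S` without a common central involution commute. -/
theorem cen_of_ce (hS : IsPGroup 2 S) {A B : Subgroup G} (a1 : A ≤ S) (a2 : S ≤ nor A) (b1 : B ≤ S)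
    (b2 : S ≤ nor B) (h : ∀ d ∈ A, d ∈ B → Ce S d → d = 1) : A ⊓ B = ⊥ ∧ A ≤ cen B := by
  have k := eq_bot_of_ce hS (inf_le_left.trans a1) (le_normalizer_inf a2 b2) fun d hd => h d hd.1 hd.2
  refine ⟨k, fun a ha => mem_cen.2 fun b hb => (CO.cm_eq_one.1 (mem_bot.1 (k ▸ ?_))).symm⟩
  exact ⟨CO.cm_mem_left ha (a2 (b1 hb)), CO.cm_mem_right (b2 (a1 ha)) hb⟩

theorem Mx.Y_cen (h : Hy L) (m : Mx L S) (hI : Kap L S I) (hJ : Kap L S J) (hne : I ≠ J) :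
    S ⊓ cen I ≤ cen (S ⊓ cen J) :=
  (cen_of_ce m.pg inf_le_left hI.nor_Y inf_le_left hJ.nor_Y fun _ a b c =>
    h.eq_one hI.1 hJ.1 hne (CO.tw_of_sq c.2.2) a.2 b.2).2

theorem Mx.eq_of_le (m : Mx L S) (hI : Kap L S I) (hJ : Kap L S J) (hne : I ≠ J) {P : Subgroup G}
    (hP : IsPGroup 2 P) (h1 : S ≤ P) (h2 : P ≤ nor I) (h3 : P ≤ nor J) : P = S :=
  (CO.eq_of_le_of_card_le h1 (m.max P ⟨hP, I, J, hne, hI.mono h1 h2, hJ.mono h1 h3⟩)).symm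

theorem Mx.syl (m : Mx L S) (hI : Kap L S I) (hJ : Kap L S J) (hne : I ≠ J) : IsSyl 2 S (nor I ⊓ nor J) :=
  ⟨le_inf hI.2.1 hJ.2.1, m.pg, fun _ hP h1 h2 =>
    m.eq_of_le hI hJ hne hP h1 (h2.trans inf_le_left) (h2.trans inf_le_right)⟩

section Y

variable (h : Hy L) (m : Mx L S) (hI : Kap L S I) (hJ : Cj L J) (hne : I ≠ J) (h1 : Ce S y) (h2 : y ≠ 1)
  (h3 : y ∈ cen J)

include h m hI hJ hne h1 h2 h3

theorem Mx.syl_y : IsSyl 2 S (nor I ⊓ cen1 y) :=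
  (m.syl hI (h.kap hJ h1 h2 h3) hne).of_le (le_inf hI.2.1 h1.le)
    (inf_le_inf_left _ (h.cen1_le hJ (h1.toInv h2) h3))

theorem Mx.syl_N {N : Subgroup G} (n1 : N ≤ nor I) (n2 : S ≤ nor N) : IsSyl 2 (S ⊓ N) (N ⊓ cen1 y) := by
  have := (m.syl_y h hI hJ hne h1 h2 h3).inf_of_le_normalizer (inf_le_inf_right (cen1 y) n1)
    (le_normalizer_inf n2 (h1.le.trans le_normalizer))
  rwa [← inf_assoc, inf_right_comm, inf_eq_left.2 h1.le] at this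

/-- `S ⊓ I` is a Sylow subgroup of `C_I(y)`. -/
theorem Mx.syl_L : IsSyl 2 (S ⊓ I) (I ⊓ cen1 y) := m.syl_N h hI hJ hne h1 h2 h3 le_normalizer hI.2.1

/-- `S ⊓ C(I)` is a Sylow subgroup of `C_{C(I)}(y)`. -/
theorem Mx.syl_K : IsSyl 2 (S ⊓ cen I) (cen I ⊓ cen1 y) :=
  m.syl_N h hI hJ hne h1 h2 h3 (CO.cen_le_nor I) hI.nc

/-- A `2`-subgroup of `N(I)` over `S` meets `C(y)` in `S`. -/
theorem Mx.inf_cen1 {T : Subgroup G} (hT : IsPGroup 2 T) (t1 : S ≤ T) (t2 : T ≤ nor I) : T ⊓ cen1 y = S :=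
  (m.syl_y h hI hJ hne h1 h2 h3).eq_of_le (hT.to_le inf_le_left) (le_inf t1 h1.le) (inf_le_inf_right _ t2)

/-- If `y` centralises a Sylow subgroup of `I` then `S` contains one. -/
theorem Mx.ut_of {V : Subgroup G} (hV : IsSyl 2 V I) (hc : V ≤ cen1 y) : Ut I S :=
  hV.of_card_ge (m.pg.to_le inf_le_left) inf_le_right
    ((m.syl_L h hI hJ hne h1 h2 h3).card_le hV.isPGroup (le_inf hV.le hc))

end Y

theorem Hy.syl_top (h : Hy L) {T : Subgroup G} (hT : IsSyl 2 T (nor L)) : IsSyl 2 T ⊤ :=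
  isSyl_of_not_dvd_relIndex le_top hT.isPGroup fun h2 => by
    rw [relIndex_top_right, ← relIndex_mul_index hT.le] at h2
    rcases (Nat.Prime.dvd_mul Nat.prime_two).1 h2 with h2 | h2
    · exact hT.not_dvd_relIndex h2
    · exact (Nat.not_even_iff_odd.2 h.idx) (even_iff_two_dvd.2 h2)

theorem Hy.exists_syl (h : Hy L) (hS : IsPGroup 2 S) (h1 : S ≤ nor L) :
    ∃ T, IsSyl 2 T (nor L) ∧ IsSyl 2 T ⊤ ∧ S ≤ T ∧ IsSyl 2 (T ⊓ L) L ∧ IsSyl 2 (T ⊓ cen L) (cen L) :=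
  let ⟨T, a, b⟩ := exists_isSyl_le hS h1
  ⟨T, a, h.syl_top a, b, a.inf_of_le_normalizer le_normalizer a.le,
    a.inf_of_le_normalizer (CO.cen_le_nor L) (le_normalizer_centralizer a.le)⟩

/-- The step: an element of a normalised `2`-group `R` outside `S` that normalises `S`. -/
theorem exists_step' (hS : IsPGroup 2 S) {R : Subgroup G} (hR : IsPGroup 2 R) (h1 : S ≤ nor R) (h2 : ¬ R ≤ S) :
    ∃ u ∈ R, u ∉ S ∧ u ∈ nor S ∧ u * u ∈ S := by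
  obtain ⟨u, a, b, -, c, d⟩ := H91.KLA.fp hS hR h1 (le_normalizer_inf le_normalizer h1) (inf_le_right (a := S))
    fun k => h2 (k.trans inf_le_left)
  refine ⟨u, a, fun k => b ⟨k, a⟩, mem_normalizer_of_cj_le ?_, c.1⟩
  rintro _ ⟨s, hs, rfl⟩
  simpa [cm] using mul_mem (d s hs).1 hs

/-- If `S` contains no Sylow subgroup of `L`, some `u ∈ L` outside `S` normalises `S`. -/
theorem Mx.step_L (h : Hy L) (m : Mx L S) (hn : ¬ Ut L S) : ∃ u ∈ L, u ∉ S ∧ u ∈ nor S ∧ u * u ∈ S := by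
  obtain ⟨T, a, -, b, c, -⟩ := h.exists_syl m.pg m.le
  obtain ⟨u, d, e⟩ := exists_step' m.pg c.isPGroup (le_normalizer_inf (b.trans le_normalizer) m.le) fun k =>
    hn (by rwa [Ut, le_antisymm (inf_le_inf_right L b) (le_inf k inf_le_right)])
  exact ⟨u, d.2, e⟩

omit [Finite G] in
theorem two_sup {u : G} (hS : IsPGroup 2 S) (h1 : u ∈ nor S) (h2 : u * u ∈ S) :
    IsPGroup 2 (zpowers u ⊔ S : Subgroup G) :=
  CO.isPGroup_sup (CO.tw_of_mem hS h2).of_sq.zp hS (zpowers_le.2 h1)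

/-- A `2`-element of `N(S)` outside `S` fixes at most one member of `Kap`. -/
theorem Mx.fix_one (m : Mx L S) (hI : Kap L S I) (hJ : Kap L S J) {u : G} (h0 : u ∉ S) (h1 : u ∈ nor S)
    (h2 : u * u ∈ S) (h3 : u ∈ nor I) (h4 : u ∈ nor J) : I = J := by
  by_contra hne
  exact h0 ((m.eq_of_le hI hJ hne (two_sup m.pg h1 h2) le_sup_right (sup_le (zpowers_le.2 h3) hI.2.1)
    (sup_le (zpowers_le.2 h4) hJ.2.1)).le (mem_sup_left (mem_zpowers u)))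

/-- The step element moves the central involutions of the other centralisers. -/
theorem Mx.step_ne (h : Hy L) (m : Mx L S) (hI : Kap L S I) (hJ : Cj L J) (hne : I ≠ J) (h1 : Ce S y)
    (h2 : y ≠ 1) (h3 : y ∈ cen J) {u : G} (u0 : u ∉ S) (u1 : u ∈ nor S) (u2 : u * u ∈ S) (u3 : u ∈ nor I) :
    u ∉ nor J ∧ u * y * u⁻¹ ≠ y :=
  have k : u ∉ nor J := fun k => hne (m.fix_one hI (h.kap hJ h1 h2 h3) u0 u1 u2 u3 k)
  ⟨k, fun e => k (h.cen1_le hJ (h1.toInv h2) h3 (mem_cen1.2 (mul_inv_eq_iff_eq_mul.1 e)))⟩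

/-- `N(S) ∩ N(J)` contains a Sylow subgroup of `N(S)`. -/
theorem Mx.syl_nor (h : Hy L) (m : Mx L S) (hJ : Kap L S J) {P : Subgroup G}
    (hP : IsSyl 2 P (nor S ⊓ nor J)) : IsSyl 2 P (nor S) ∧ S ≤ P ∧ (P = S → IsSyl 2 S ⊤) := by
  have h1 : S ≤ P := hP.le_of_le_normalizer m.pg (le_inf le_normalizer hJ.2.1) (hP.le.trans inf_le_left)
  have h2 : P = S → IsSyl 2 S ⊤ := fun e =>
    (h.to hJ.1).syl_top (isSyl_of_isSyl_normalizer (by rw [inf_comm]; exact e ▸ hP))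
  refine ⟨?_, h1, h2⟩
  by_cases e : P = S
  · exact e ▸ (h2 e).of_le le_normalizer le_top
  obtain ⟨Q, hQ, h3⟩ := exists_isSyl_le hP.isPGroup (hP.le.trans inf_le_left)
  by_cases k : Q ≤ P
  · exact le_antisymm k h3 ▸ hQ
  obtain ⟨x, a, b, c, d⟩ := exists_step hQ.isPGroup h3 k
  have h4 : P ≤ nor J := hP.le.trans inf_le_right
  refine absurd (m.eq_of_le (hJ.cj (hQ.le a)) hJ (fun e => b ?_) hP.isPGroup h1 ?_ h4) e
  · exact (hP.eq_of_le (two_sup hP.isPGroup c d) le_sup_right (sup_le (zpowers_le.2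
      ⟨hQ.le a, cj_eq_self_iff.1 e⟩) hP.le)).le (mem_sup_left (mem_zpowers x))
  · rw [nor_cj, ← cj_eq_self c]; exact cj_mono x h4

/-- `N(S)` is transitive on `Kap`. -/
theorem Mx.trans (h : Hy L) (m : Mx L S) (hI : Kap L S I) (hJ : Kap L S J) :
    ∃ g ∈ nor S, H98.cj g I = J := by
  obtain ⟨P, hP⟩ := exists_isSyl 2 (nor S ⊓ nor I)
  obtain ⟨Q, hQ⟩ := exists_isSyl 2 (nor S ⊓ nor J)
  obtain ⟨p1, p2, p3⟩ := m.syl_nor h hI hP
  obtain ⟨q1, q2, q3⟩ := m.syl_nor h hJ hQ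
  by_cases e : Q = S
  · obtain ⟨g, rfl⟩ := hI.1.symm.trans hJ.1
    have a : IsSyl 2 (H98.cj g S) (nor (H98.cj g I)) := by
      rw [nor_cj]; exact ((q3 e).of_le hI.2.1 le_top).cj g
    obtain ⟨k, hk, b⟩ := a.exists_cj_eq ((q3 e).of_le hJ.2.1 le_top)
    exact ⟨k * g, cj_eq_self_iff.1 (by rwa [← cj_cj]), by rw [← cj_cj, cj_eq_self hk]⟩
  · obtain ⟨g, hg, b⟩ := p1.exists_cj_eq q1
    refine ⟨g, hg, by_contra fun k => e (m.eq_of_le (hI.cj hg) hJ k hQ.isPGroup q2 ?_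
      (hQ.le.trans inf_le_right))⟩
    rw [nor_cj, ← b]; exact cj_mono g (hP.le.trans inf_le_right)

theorem Ut.to (u : Ut L S) (h : Hy L) (m : Mx L S) (hJ : Kap L S J) : Ut J S := by
  obtain ⟨g, hg, rfl⟩ := m.trans h m.one hJ; exact u.cj hg

theorem AllIn.to (u : AllIn L S) (h : Hy L) (m : Mx L S) (hJ : Kap L S J) : AllIn J S := by
  obtain ⟨g, hg, rfl⟩ := m.trans h m.one hJ; exact u.cj hg

theorem ein_to (u : ∀ e, Ce S e → e ∈ L ⊔ cen L) (h : Hy L) (m : Mx L S) (hJ : Kap L S J) :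
    ∀ e, Ce S e → e ∈ J ⊔ cen J := by
  obtain ⟨g, hg, rfl⟩ := m.trans h m.one hJ; exact ein_cj u hg

theorem Mx.card_inf (h : Hy L) (m : Mx L S) (hJ : Kap L S J) {X : Subgroup G} (hX : nor S ≤ nor X) :
    Nat.card (X ⊓ cen J : Subgroup G) = Nat.card (X ⊓ cen L : Subgroup G) ∧
      Nat.card (X ⊓ J : Subgroup G) = Nat.card (X ⊓ L : Subgroup G) := by
  obtain ⟨g, hg, rfl⟩ := m.trans h m.one hJ
  rw [cen_cj, ← card_cj g (X ⊓ cen L), ← card_cj g (X ⊓ L), cj_inf, cj_inf, cj_eq_self (hX hg)]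
  exact ⟨rfl, rfl⟩

/-- The number of members of `Kap` is odd. -/
theorem Mx.odd (h : Hy L) (m : Mx L S) : Odd {J | Kap L S J}.ncard := by
  obtain ⟨P, hP⟩ := exists_isSyl 2 (nor S ⊓ nor L)
  have h1 := (m.syl_nor h m.one hP).1.not_dvd_relIndex
  rw [← relIndex_mul_relIndex P (nor S ⊓ nor L) (nor S) hP.le inf_le_left] at h1
  have h2 : Odd ((nor S ⊓ nor L).relIndex (nor S)) :=
    Nat.not_even_iff_odd.1 fun k => h1 ((even_iff_two_dvd.1 k).mul_left _)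
  convert h2 using 1
  rw [relIndex, index, ← Nat.card_coe_set_eq]
  refine (Nat.card_congr (Equiv.ofBijective (Quotient.lift (fun g : nor S =>
    (⟨H98.cj (g : G) L, m.one.cj g.2⟩ : {J | Kap L S J})) fun a b hab => Subtype.ext ?_) ⟨?_, ?_⟩)).symm
  · have : (a : G)⁻¹ * b ∈ nor L := (QuotientGroup.leftRel_apply.1 hab).2
    change H98.cj (a : G) L = H98.cj (b : G) L
    rw [show (b : G) = a * ((a : G)⁻¹ * b) by group, ← cj_cj, cj_eq_self this]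
  · rintro ⟨a⟩ ⟨b⟩ hab
    refine Quotient.sound (QuotientGroup.leftRel_apply.2 ⟨(a⁻¹ * b).2, cj_eq_self_iff.1 ?_⟩)
    have : H98.cj (a : G) L = H98.cj (b : G) L := congrArg Subtype.val hab
    change H98.cj ((a : G)⁻¹ * b) L = L
    rw [← cj_cj, ← this, H98.cj_inv_cj]
  · rintro ⟨J, hJ⟩
    obtain ⟨g, hg, rfl⟩ := m.trans h m.one hJ
    exact ⟨Quotient.mk _ ⟨g, hg⟩, rfl⟩

/-- The number of the other members is even. -/
theorem Mx.even (h : Hy L) (m : Mx L S) (hI : Kap L S I) : Even {J | J ≠ I ∧ Kap L S J}.ncard := by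
  have h1 := m.odd h
  rw [← Set.ncard_sdiff_singleton_add_one (s := {J | Kap L S J}) hI, Nat.odd_add_one,
    Nat.not_odd_iff_even] at h1
  convert h1 using 2
  ext J; exact and_comm

/-- a third member -/
theorem Mx.three (h : Hy L) (m : Mx L S) (hI : Kap L S I) (hJ : Kap L S J) (hne : J ≠ I) :
    ∃ X, Kap L S X ∧ X ≠ I ∧ X ≠ J := by
  by_contra k
  push Not at k
  have h1 := m.even h hI
  rw [show {X | X ≠ I ∧ Kap L S X} = {J} from Set.eq_singleton_iff_unique_mem.2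
    ⟨⟨hne, hJ⟩, fun X hX => k X hX.2 hX.1⟩, Set.ncard_singleton] at h1
  exact absurd h1 (by decide)

/-- `N(S)` fixes no `KI` involution of `Z(S)`. -/
theorem Mx.not_fix (h : Hy L) (m : Mx L S) (h1 : Ce S y) (h2 : KI L y) : ¬ nor S ≤ cen1 y := fun k => by
  obtain ⟨J, hJ, h3⟩ := h.kap_of_ki h1 h2
  obtain ⟨I, a, b⟩ := (m.to hJ).exists_ne
  obtain ⟨g, hg, c⟩ := m.trans h hJ (b.to hJ.1.symm)
  exact a (c ▸ cj_eq_self (h.cen1_le hJ.1 h2.1 h3 (k hg)))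

/-- A subgroup normalised by `N(S)` that lies in `L` lies in every member of `Kap`. -/
theorem Mx.le_all (h : Hy L) (m : Mx L S) {C : Subgroup G} (h1 : nor S ≤ nor C) (h2 : C ≤ L)
    (hJ : Kap L S J) : C ≤ J := by
  obtain ⟨g, hg, rfl⟩ := m.trans h m.one hJ
  rw [← cj_eq_self (h1 hg)]; exact cj_mono g h2

/-! ### Decompositions inside `S` -/

omit [Finite G] in
theorem Hy.tw_left (h : Hy L) {l k : G} (hl : l ∈ L) (hk : k ∈ cen L) (ht : Tw (l * k)) : Tw l ∧ Tw k := by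
  obtain ⟨n, hn⟩ := ht
  rw [Commute.mul_pow (mem_cen.1 hk l hl), mul_eq_one_iff_eq_inv] at hn
  obtain ⟨j, hj⟩ := CO.tw_of_mem h.z2 (x := l ^ 2 ^ n) ⟨pow_mem hl _, hn ▸ inv_mem (pow_mem hk _)⟩
  refine ⟨⟨n + j, by rw [pow_add, pow_mul, hj]⟩, n + j, ?_⟩
  rw [hn, inv_pow, inv_eq_one] at hj
  rw [pow_add, pow_mul, hj]

omit [Finite G] in
/-- If a `2`-group `S ≤ N(L)` contains a Sylow subgroup of `L`, its inner elements split inside `S`. -/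
theorem Hy.dec_ut (h : Hy L) (hS : IsPGroup 2 S) (h1 : S ≤ nor L) (u : Ut L S) {l k : G} (hl : l ∈ L)
    (hk : k ∈ cen L) (hs : l * k ∈ S) : l ∈ S ∧ k ∈ S := by
  have a : l ∈ nor (S ⊓ L) := by
    have := mul_mem (le_normalizer_inf le_normalizer h1 hs)
      (inv_mem (CO.cen_le_nor (S ⊓ L) (centralizer_le (inf_le_right (a := S)) hk)))
    rwa [mul_inv_cancel_right] at this
  have b : l ∈ S := (u.le_of_le_normalizer' (h.tw_left hl hk (CO.tw_of_mem hS hs)).1.zp (zpowers_le.2 hl)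
    (zpowers_le.2 a) (mem_zpowers l)).1
  exact ⟨b, by simpa using mul_mem (inv_mem b) hs⟩

/-- The two parts of a central involution of `S` that is inner on `I`. -/
theorem Mx.dec_ce (h : Hy L) (m : Mx L S) (hz : L ⊓ cen L = ⊥) (hI : Kap L S I) (hJ : Cj L J) (hne : I ≠ J)
    {w k : G} (hw : w ∈ I) (hk : k ∈ cen I) (h1 : Ce S (w * k)) (h2 : w * k ≠ 1) (h3 : w * k ∈ cen J) :
    Ce S w ∧ Ce S k ∧ w ≠ 1 ∧ IsSyl 2 (S ⊓ I) (I ⊓ cen1 w) := by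
  have z := hI.1.zc hz
  have a := m.syl_L h hI hJ hne h1 h2 h3
  rw [inf_cen1_dec hk] at a
  obtain ⟨b, c⟩ := dec_sq z hw hk h1.2.2
  have d : ∀ s ∈ S, s ∈ cen1 w ∧ s ∈ cen1 k := fun s hs => dec_cen z hw hk (hI.2.1 hs) (h1.le hs)
  have e : w ∈ S := (mem_syl_of_cen a (CO.tw_of_sq b) ⟨hw, mem_cen1.2 rfl⟩ fun s hs => (d s hs.1).1).1
  refine ⟨⟨e, mem_cen_of_le fun s hs => (d s hs).1, b⟩,
    ⟨by simpa using mul_mem (inv_mem e) h1.1, mem_cen_of_le fun s hs => (d s hs).2, c⟩, fun f => ?_, a⟩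
  rw [f, one_mul] at h1 h2 h3
  exact hne (h.uniq hI.1 hJ (h1.toInv h2) hk h3)

omit [Finite G] in
/-- The same when `S` contains a Sylow subgroup of `L`. -/
theorem Hy.dec_ce (h : Hy L) (hS : IsPGroup 2 S) (h0 : S ≤ nor L) (u : Ut L S) (hz : L ⊓ cen L = ⊥)
    (h1 : Ce S e) (h2 : e ∈ L ⊔ cen L) : ∃ k ∈ cen L, ∃ w ∈ L, Ce S k ∧ Ce S w ∧ e = k * w := by
  obtain ⟨w, hw, k, hk, rfl⟩ := mem_LK.1 h2
  obtain ⟨a, b⟩ := h.dec_ut hS h0 u hw hk h1.1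
  obtain ⟨c, d⟩ := dec_sq hz hw hk h1.2.2
  have f : ∀ s ∈ S, s ∈ cen1 w ∧ s ∈ cen1 k := fun s hs => dec_cen hz hw hk (h0 hs) (h1.le hs)
  exact ⟨k, hk, w, hw, ⟨b, mem_cen_of_le fun s hs => (f s hs).2, d⟩,
    ⟨a, mem_cen_of_le fun s hs => (f s hs).1, c⟩, mem_cen.1 hk w hw⟩

/-! ### Other `KI` involutions -/

/-- A `2`-subgroup of `N(L)` centralises an involution of `C(L)`. -/
theorem Hy.exists_z (h : Hy L) {D : Subgroup G} (hD : IsPGroup 2 D) (h1 : D ≤ nor L) :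
    ∃ z ∈ cen L, CO.Inv z ∧ z ∈ cen D := by
  obtain ⟨T, a, -, b, -, c⟩ := h.exists_syl hD h1
  obtain ⟨s, d, e⟩ := CO.exists_inv_cen hD c.isPGroup (le_normalizer_inf (b.trans le_normalizer)
    (le_normalizer_centralizer h1)) (mt c.eq_bot_iff.1 (not_not.2 (even_iff_two_dvd.1 h.std.2.1.1)))
  exact ⟨s, d.2, e⟩

/-- The group that belongs to a `KI` involution `y` of `N(L)` outside `C(L)`: it contains `y` and a given
`2`-subgroup `D` of `C_{N(L)}(y)`. -/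
theorem Hy.exists_tk (h : Hy L) (hJ : Cj L J) (h1 : CO.Inv y) (h2 : y ∈ cen J) (h3 : y ∈ nor L)
    (h4 : y ∉ cen L) {D : Subgroup G} (hD : IsPGroup 2 D) (d1 : D ≤ nor L) (d2 : D ≤ cen1 y) :
    ∃ S', D ≤ S' ∧ y ∈ S' ∧ IsSyl 2 S' (nor L ⊓ nor J) ∧ Tk L S' ∧ Kap L S' L ∧ Kap L S' J ∧
      ∃ z ∈ S', z ∈ cen L ∧ CO.Inv z ∧ z ∈ cen D ∧ z ∈ cen1 y := by
  have a : IsPGroup 2 (D ⊔ zpowers y : Subgroup G) :=
    CO.isPGroup_sup hD h1.tw.zp (d2.trans (cen1_le_nor y))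
  have b : D ⊔ zpowers y ≤ cen1 y := sup_le d2 (zpowers_le.2 (mem_cen1.2 rfl))
  obtain ⟨z, z1, z2, z3⟩ := h.exists_z a (sup_le d1 (zpowers_le.2 h3))
  have z4 : z ∈ cen1 y := mem_cen1.2 (mem_cen.1 z3 y (mem_sup_right (mem_zpowers y))).symm
  obtain ⟨S', c, d⟩ := exists_isSyl_le (CO.isPGroup_sup z2.tw.zp a (zpowers_le.2 (CO.cen_le_nor _ z3)))
    (le_inf (sup_le (zpowers_le.2 (CO.cen_le_nor _ z1)) (sup_le d1 (zpowers_le.2 h3)))
      ((sup_le (zpowers_le.2 z4) b).trans (h.cen1_le hJ h1 h2)))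
  have e : z ∈ S' := d (mem_sup_left (mem_zpowers z))
  have f : y ∈ S' := d (mem_sup_right (mem_sup_right (mem_zpowers y)))
  have k1 : Kap L S' L := ⟨Cj.refl L, c.le.trans inf_le_left, fun k => z2.1 (mem_bot.1 (k ▸ ⟨e, z1⟩))⟩
  have k2 : Kap L S' J := ⟨hJ, c.le.trans inf_le_right, fun k => h1.1 (mem_bot.1 (k ▸ ⟨f, h2⟩))⟩
  exact ⟨S', (le_sup_left.trans le_sup_right).trans d, f, c,
    ⟨c.isPGroup, L, J, fun k => h4 (k ▸ h2), k1, k2⟩, k1, k2, z, e, z1, z2,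
    centralizer_le (le_sup_left (a := D) (b := zpowers y)) z3, z4⟩

end H36.QF
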