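import Cfsg.Agent.H36.QFKit
import Cfsg.Agent.H36.QETr
import Cfsg.Agent.H36.QEEx
import Cfsg.Agent.H14.Tight
import Cfsg.Agent.H8.TransferEval
import Cfsg.Agent.H42.OddOrder

/-! Tower QF: the action of `N(J)` on `J`, the rank lemma, the four-relation, symmetry. -/

set_option autoImplicit false

namespace H36.QF

open Cfsg Subgroup H14 H98 H97 H36.QE
open H14.CO (cen cen1 nor cm Tw mem_cen mem_cen1)

universe u

variable {G : Type u} [Group G] {L S I J : Subgroup G} {g x y z e : G}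

/-! ### The action on `J` -/

/-- the action of `N(J)` on `J` -/
abbrev bt (J : Subgroup G) : nor J →* MulAut J := J.normalizerMonoidHom

theorem bt_apply (a : nor J) (j : J) : (bt J a j : G) = a * j * (a : G)⁻¹ := rfl

theorem bt_eq_one {a : nor J} : bt J a = 1 ↔ (a : G) ∈ cen J :=
  ⟨fun h => mem_cen.2 fun x hx => (mul_inv_eq_iff_eq_mul.1
    (congrArg (fun b : MulAut J => (b ⟨x, hx⟩ : G)) h)).symm, fun h => MulEquiv.ext fun j =>
    Subtype.ext (CO.cj_eq_of_comm (mem_cen.1 h j j.2).symm)⟩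

theorem bt_eq_iff {a b : nor J} : bt J a = bt J b ↔ (a : G)⁻¹ * b ∈ cen J := by
  rw [← inv_mul_eq_one, ← map_inv, ← map_mul, bt_eq_one]; rfl

theorem bt_mem (j : J) : bt J ⟨j, le_normalizer j.2⟩ = MulAut.conj j := MulEquiv.ext fun _ => rfl

theorem bt_inn {a : nor J} : bt J a ∈ Inn J ↔ (a : G) ∈ J ⊔ cen J := by
  constructor
  · rintro ⟨j, hj⟩
    have := bt_eq_iff.1 ((bt_mem j).trans hj)
    simpa using mul_mem (mem_sup_left j.2 : (j : G) ∈ J ⊔ cen J) (mem_sup_right this)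
  · intro h
    obtain ⟨l, hl, k, hk, e⟩ := mem_LK.1 h
    exact ⟨⟨l, hl⟩, (bt_mem _).symm.trans (bt_eq_iff.2 (by simpa [e] using hk))⟩

theorem bt_fix {a : nor J} {j : J} : j ∈ Fix (bt J a) ↔ (j : G) ∈ cen1 (a : G) := by
  rw [mem_Fix, Subtype.ext_iff, bt_apply, mul_inv_eq_iff_eq_mul, mem_cen1, eq_comm]

theorem Fix_bt (a : nor J) : Fix (bt J a) = (cen1 (a : G)).subgroupOf J := Subgroup.ext fun _ => bt_fix

theorem bt_ou {a : nor J} (h1 : (a : G) * a ∈ cen J) (h2 : (a : G) ∉ J ⊔ cen J) : Ou (bt J a) :=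
  ⟨by rw [← map_mul]; exact bt_eq_one.2 h1, mt bt_inn.1 h2⟩

theorem bt_tws {a : nor J} {c : J} : Tws (bt J a) c ↔ ∃ x ∈ J, x⁻¹ * a * x = c * a :=
  ⟨fun ⟨x, hx⟩ => ⟨x, x.2, by rw [← hx, coe_mul, bt_apply, coe_inv]; group⟩, fun ⟨x, hx, h⟩ =>
    ⟨⟨x, hx⟩, Subtype.ext (by
      rw [coe_mul, bt_apply, coe_inv, ← mul_assoc, ← mul_assoc, mul_inv_eq_iff_eq_mul]; exact h)⟩⟩

theorem KI.tws {a : nor J} {c : J} (h : KI L (a : G)) (ht : Tws (bt J a) c) : KI L (c * a) := by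
  obtain ⟨x, -, hx⟩ := bt_tws.1 ht
  simpa [hx] using h.conj x⁻¹

theorem bt_tw {a : nor J} (h : Tw (a : G)) : Tw (bt J a) :=
  let ⟨n, hn⟩ := h
  ⟨n, by rw [← map_pow, show a ^ 2 ^ n = 1 from Subtype.ext hn, map_one]⟩

theorem cen1_sub (w : J) : cen1 w = (cen1 (w : G)).subgroupOf J :=
  Subgroup.ext fun _ => by rw [mem_subgroupOf, mem_cen1, mem_cen1, Subtype.ext_iff]; rfl

theorem cen_sub {Q : Subgroup G} (h : Q ≤ J) : cen (Q.subgroupOf J) = (cen Q).subgroupOf J :=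
  centralizer_subgroupOf h

theorem inv_sub {w : J} : CO.Inv w ↔ CO.Inv (w : G) := by
  simp only [CO.Inv, ne_eq, Subtype.ext_iff, coe_one, coe_mul]

theorem syl_sub {p : ℕ} {Q H : Subgroup G} (h : Q ≤ J) :
    IsSyl p (Q.subgroupOf J) (H.subgroupOf J) ↔ IsSyl p Q (J ⊓ H) := by
  refine ⟨fun k => ?_, fun k => ?_⟩
  · have := k.map_of_injective J.subtype_injective
    rwa [subgroupOf_map_subtype, subgroupOf_map_subtype, inf_eq_left.2 h, inf_comm] at this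
  · have := k.subgroupOf inf_le_left
    rwa [inf_comm, inf_subgroupOf_right] at this

theorem syl_sub_top {p : ℕ} {Q : Subgroup G} (h : Q ≤ J) : IsSyl p (Q.subgroupOf J) ⊤ ↔ IsSyl p Q J := by
  rw [← top_subgroupOf, syl_sub h, inf_top_eq]

theorem comm_sub {A B : Subgroup J} {x : J} (h : x ∈ ⁅A, B⁆) : (x : G) ∈ ⁅A.map J.subtype, B.map J.subtype⁆ := by
  rw [← map_commutator]; exact mem_map_of_mem _ h

theorem card_sub {Q : Subgroup G} (h : Q ≤ J) : Nat.card (Q.subgroupOf J) = Nat.card Q :=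
  Nat.card_congr (subgroupOfEquivOfLe h).toEquiv

/-- `OutD` read in the group -/
theorem OutD.mem (h : OutD J) (h1 : x ∈ ⁅nor J, nor J⁆) (h2 : Tw x) : x ∈ J ⊔ cen J := by
  have h3 : x ∈ nor J := commutator_le_of_le le_rfl le_rfl h1
  refine (bt_inn (a := ⟨x, h3⟩)).1 (h _ ?_ (bt_tw h2))
  have h4 : (⟨x, h3⟩ : nor J) ∈ ⁅(⊤ : Subgroup (nor J)), (⊤ : Subgroup (nor J))⁆ := by
    rw [← mem_map_iff_mem (nor J).subtype_injective, map_commutator, ← MonoidHom.range_eq_map, range_subtype]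
    exact h1
  have := mem_map_of_mem (bt J) h4
  rw [map_commutator] at this
  exact commutator_mono le_top le_top this

/-- the image of `P` under a representation of `N(J)` -/
abbrev im {A : Type*} [Group A] (ρ : nor J →* A) (P : Subgroup G) : Subgroup A := (P.subgroupOf (nor J)).map ρ

theorem mem_im {A : Type*} [Group A] {ρ : nor J →* A} {P : Subgroup G} {a : A} :
    a ∈ im ρ P ↔ ∃ (x : G) (h : x ∈ nor J), x ∈ P ∧ ρ ⟨x, h⟩ = a :=
  ⟨fun ⟨x, h1, h2⟩ => ⟨x, x.2, h1, h2⟩, fun ⟨x, h, h1, h2⟩ => ⟨⟨x, h⟩, h1, h2⟩⟩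

theorem im_pg {A : Type*} [Group A] (ρ : nor J →* A) {p : ℕ} {P : Subgroup G} (h : IsPGroup p P) :
    IsPGroup p (im ρ P) := (isPGroup_subgroupOf h _).map ρ

theorem im_comm {A : Type*} [Group A] (ρ : nor J →* A) {P Q : Subgroup G} (hP : P ≤ nor J) (hQ : Q ≤ nor J) :
    ⁅im ρ P, im ρ Q⁆ = im ρ ⁅P, Q⁆ := by
  rw [im, im, im, ← map_commutator]
  congr 1
  apply map_injective (nor J).subtype_injective
  rw [map_commutator, subgroupOf_map_subtype, subgroupOf_map_subtype, subgroupOf_map_subtype,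
    inf_eq_left.2 hP, inf_eq_left.2 hQ, inf_eq_left.2 (commutator_le_of_le hP hQ)]

theorem card_im {A : Type*} [Group A] {ρ : nor J →* A} (hρ : ∀ a, ρ a = 1 ↔ (a : G) ∈ cen J) {P : Subgroup G}
    (h : P ≤ nor J) : Nat.card P = Nat.card (im ρ P) * Nat.card (P ⊓ cen J : Subgroup G) := by
  let f : P →* A := ρ.comp (inclusion h)
  have h1 : f.range = im ρ P := by
    ext a
    exact ⟨fun ⟨x, hx⟩ => mem_im.2 ⟨x, h x.2, x.2, hx⟩, fun k =>
      let ⟨x, _, b, c⟩ := mem_im.1 k; ⟨⟨x, b⟩, c⟩⟩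
  have h2 : f.ker = (P ⊓ cen J).subgroupOf P := by
    ext a
    rw [inf_comm, inf_subgroupOf_right, mem_subgroupOf]
    exact hρ _
  rw [← h1, ← card_sub (inf_le_left : P ⊓ cen J ≤ P), ← h2, ← index_ker, mul_comm, card_mul_index]

theorem mapconj_le_im {P : Subgroup G} : ((P ⊓ J).subgroupOf J).map MulAut.conj ≤ im (bt J) P := by
  rintro _ ⟨x, hx, rfl⟩
  exact mem_im.2 ⟨x, le_normalizer x.2, hx.1, bt_mem x⟩

theorem im_le_inn {P : Subgroup G} (h : P ≤ nor J) : im (bt J) P ≤ Inn J ↔ P ≤ J ⊔ cen J :=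
  ⟨fun k x hx => (bt_inn (a := ⟨x, h hx⟩)).1 (k (mem_im.2 ⟨x, h hx, hx, rfl⟩)), fun k _ ha =>
    let ⟨_, _, b, c⟩ := mem_im.1 ha; c ▸ bt_inn.2 (k b)⟩

/-! ### The action on `J / Z(J)` -/

section Rp

variable {A : Type u} [Group A] {π : J →* A} {ρ : nor J →* MulAut A}

theorem rp_mem (h : Rp J π ρ) (j : J) : ρ ⟨j, le_normalizer j.2⟩ = MulAut.conj (π j) := by
  ext a
  obtain ⟨a, rfl⟩ := h.sur a
  rw [h.act, MulAut.conj_apply, ← map_inv, ← map_mul, ← map_mul]; rfl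

theorem rp_eq_iff (h : Rp J π ρ) {a b : nor J} : ρ a = ρ b ↔ (a : G)⁻¹ * b ∈ cen J := by
  rw [← inv_mul_eq_one, ← map_inv, ← map_mul, h.one]; rfl

theorem rp_inn (h : Rp J π ρ) {a : nor J} : ρ a ∈ Inn A ↔ (a : G) ∈ J ⊔ cen J := by
  constructor
  · rintro ⟨j, hj⟩
    obtain ⟨j, rfl⟩ := h.sur j
    have := (rp_eq_iff h).1 ((rp_mem h j).trans hj)
    simpa using mul_mem (mem_sup_left j.2 : (j : G) ∈ J ⊔ cen J) (mem_sup_right this)
  · intro k
    obtain ⟨l, hl, k, hk, e⟩ := mem_LK.1 k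
    exact ⟨π ⟨l, hl⟩, (rp_mem h _).symm.trans ((rp_eq_iff h).2 (by simpa [e] using hk))⟩

theorem rp_dec (h : Rp J π ρ) {l k : G} (hl : l ∈ J) (hk : k ∈ cen J) (hn : l * k ∈ nor J) :
    ρ ⟨l * k, hn⟩ = MulAut.conj (π ⟨l, hl⟩) :=
  ((rp_mem h ⟨l, hl⟩).symm.trans ((rp_eq_iff h).2 (by simpa using hk))).symm

theorem rp_ou (h : Rp J π ρ) {a : nor J} (h1 : (a : G) * a ∈ cen J) (h2 : (a : G) ∉ J ⊔ cen J) : Ou (ρ a) :=
  ⟨by rw [← map_mul]; exact (h.one _).2 h1, mt (rp_inn h).1 h2⟩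

theorem rp_eq (h : Rp J π ρ) {a b : J} : π a = π b ↔ (a : G)⁻¹ * b ∈ cen J := by
  rw [← inv_mul_eq_one, ← map_inv, ← map_mul, h.ker]; rfl

/-- `Tws` read in the group: some lift `c'` of `c` has `c' a` conjugate to `a`. -/
theorem rp_tws (h : Rp J π ρ) {a : nor J} {c : A} (ht : Tws (ρ a) c) :
    ∃ x ∈ J, ∃ c' : J, π c' = c ∧ x⁻¹ * a * x = c' * a := by
  obtain ⟨x, rfl⟩ := ht
  obtain ⟨x, rfl⟩ := h.sur x
  exact ⟨x, x.2, x⁻¹ * bt J a x, by rw [map_mul, map_inv, h.act], by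
    rw [coe_mul, bt_apply, coe_inv]; group⟩

theorem rp_fix (h : Rp J π ρ) {a : nor J} {j : J} (hj : (j : G) ∈ cen1 (a : G)) : π j ∈ Fix (ρ a) := by
  exact (h.act a j).trans (congrArg π (mem_Fix.1 (bt_fix.2 hj)))

end Rp

/-! ### The rank lemma -/

variable [Finite G]

omit [Finite G] in
theorem pow_coprime_mem {p : ℕ} (hp : p.Prime) (h2 : p ≠ 2) (n : ℕ) (hx : x ^ p = 1) :
    x ∈ zpowers (x ^ 2 ^ n) :=
  mem_zpowers_pow_iff.2 (((Nat.coprime_primes Nat.prime_two hp).2 h2.symm).pow_left n |>.coprime_dvd_right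
    (orderOf_dvd_of_pow_eq_one hx))

omit [Finite G] in
theorem mem_zpowers_of_prime {p : ℕ} (hp : p.Prime) (hx : x ^ p = 1) {i : ℤ} (hi : x ^ i ≠ 1) :
    x ∈ zpowers (x ^ i) := by
  have := Fact.mk hp
  have h0 : x ≠ 1 := fun e => hi (by rw [e, one_zpow])
  have h1 := orderOf_eq_prime hx h0
  rw [mem_zpowers_zpow_iff, h1, Int.gcd_comm]
  exact (Nat.coprime_or_dvd_of_prime hp i.natAbs).resolve_right fun k => hi
    (orderOf_dvd_iff_zpow_eq_one.1 (h1 ▸ Int.natCast_dvd.2 k))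

omit [Finite G] in
/-- An element of odd prime order of `L C(L)` is a product of two such elements. -/
theorem Hy.dec_p (h : Hy L) {p : ℕ} (hp : p.Prime) (h2 : p ≠ 2) (hx : x ^ p = 1) (h1 : x ∈ L ⊔ cen L) :
    ∃ l ∈ L, ∃ k ∈ cen L, l ^ p = 1 ∧ k ^ p = 1 ∧ x = l * k := by
  obtain ⟨l, hl, k, hk, rfl⟩ := mem_LK.1 h1
  have c : Commute l k := mem_cen.1 hk l hl
  have h3 := hx
  rw [c.mul_pow, mul_eq_one_iff_eq_inv] at h3
  obtain ⟨n, hn⟩ := CO.tw_of_mem h.z2 (x := l ^ p) (mem_inf.2 ⟨pow_mem hl _, h3 ▸ inv_mem (pow_mem hk _)⟩)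
  obtain ⟨i, hi⟩ := mem_zpowers_iff.1 (pow_coprime_mem hp h2 n hx)
  have h4 : (k ^ p) ^ 2 ^ n = 1 := by rwa [h3, inv_pow, inv_eq_one] at hn
  have h5 : ∀ a : G, (a ^ p) ^ 2 ^ n = 1 → ((a ^ 2 ^ n) ^ i) ^ p = 1 := fun a ha => by
    rw [← zpow_natCast, ← zpow_mul, mul_comm, zpow_mul, zpow_natCast, ← pow_mul, mul_comm, pow_mul, ha, one_zpow]
  exact ⟨_, zpow_mem (pow_mem hl _) i, _, zpow_mem (pow_mem hk _) i, h5 l hn, h5 k h4, by
    rw [← (c.pow_pow _ _).mul_zpow, ← c.mul_pow, hi]⟩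

/-- A `2`-local subgroup that contains `J` contains no element of order `p` of `C(J)` if `m_p(J) ≥ 2`. -/
theorem Hy.no_rank3 (h : Hy L) (hJ : Cj L J) {D : Subgroup G} (hD : IsPGroup 2 D) (h0 : D ≠ ⊥) (h1 : J ≤ nor D)
    {p : ℕ} (hp : p.Prime) (h2 : p ≠ 2) (hr : ¬ PRankLE p 1 J) {k : G} (k1 : k ∈ nor D) (k2 : k ∈ cen J)
    (k3 : k ^ p = 1) : k = 1 := by
  by_contra k0
  have := Fact.mk hp
  simp only [PRankLE, not_forall, not_le, pow_one] at hr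
  obtain ⟨A, a1, a2, a3⟩ := hr
  have b1 : Nat.card (zpowers k) = p := by rw [Nat.card_zpowers, orderOf_eq_prime k3 k0]
  have b2 : A.map J.subtype ≤ cen (zpowers k) := CO.cen_symm ((zpowers_le.2 k2).trans
    (centralizer_le (map_subtype_le A)))
  have b3 : A.map J.subtype ⊓ zpowers k = ⊥ := by
    refine eq_bot_iff.2 fun a ha => mem_bot.2 ?_
    exact (CO.tw_of_mem (h.to hJ).z2 ⟨map_subtype_le A ha.1, zpowers_le.2 k2 ha.2⟩).eq_one_of_odd
      (Odd.of_dvd_nat (hp.odd_of_ne_two h2) (b1 ▸ orderOf_dvd_natCard _ ha.2))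
  have b4 := CO.card_sup_mul (b2.trans (CO.cen_le_nor _))
  rw [b3, card_bot, mul_one, b1, card_map_of_injective J.subtype_injective] at b4
  have b5 := ea_sup (p := p) (A := A.map J.subtype) (B := zpowers k) ⟨inferInstance, by
    rintro _ ⟨x, hx, rfl⟩; exact congrArg Subtype.val (a2 x hx)⟩ ⟨inferInstance, fun a ha => by
    obtain ⟨i, rfl⟩ := mem_zpowers_iff.1 ha
    rw [← zpow_natCast, ← zpow_mul, mul_comm, zpow_mul, zpow_natCast, k3, one_zpow]⟩ (comm_of_cen b2)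
  have b6 := h.qt2 hD h0 hp h2 (sup_le ((map_subtype_le A).trans h1) (zpowers_le.2 k1)) b5.1 b5.2
  rw [b4, pow_two] at b6
  exact absurd (Nat.le_of_mul_le_mul_right b6 hp.pos) (not_le.2 a3)

/-- The rank lemma: an element of order `p` that is inner on `J` and centralises an involution of `C(J)`
lies in `J`. -/
theorem Hy.pi (h : Hy L) (hJ : Cj L J) (h1 : CO.Inv y) (h2 : y ∈ cen J) {p : ℕ} (hp : p.Prime) (hp2 : p ≠ 2)
    (hr : ¬ PRankLE p 1 L) (x1 : x ∈ cen1 y) (x2 : x ^ p = 1) (x3 : x ∈ J ⊔ cen J) : x ∈ J := by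
  obtain ⟨l, hl, k, hk, -, b, rfl⟩ := (h.to hJ).dec_p hp hp2 x2 x3
  obtain ⟨f⟩ := hJ.equiv
  rw [h.no_rank3 hJ h1.tw.zp (mt zpowers_eq_bot.1 h1.1) ((le_cen1 h2).trans (cen1_le_nor y)) hp hp2
    (mt (mp_rank f).1 hr) (cen1_le_nor y (by simpa using mul_mem (inv_mem (le_cen1 h2 hl)) x1)) hk b, mul_one]
  exact hl

/-- The `p`-rank of `L` is that of `L / Z(L)`. -/
theorem rank_lift {X A : Type u} [Group X] [Group A] [Finite X] {π : X →* A} (h1 : Function.Surjective π)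
    (h3 : IsPGroup 2 π.ker) {p : ℕ} (hp : p.Prime) (hp2 : p ≠ 2)
    (hr : ¬ PRankLE p 1 A) : ¬ PRankLE p 1 X := fun k => hr fun B b1 b2 => by
  have := Fact.mk hp
  have := Finite.of_surjective π h1
  obtain ⟨P, hP⟩ := exists_isSyl p (B.comap π)
  have c1 := hP.map π
  rw [map_comap_eq_self_of_surjective h1] at c1
  have c2 : P.map π = B := c1.eq_of_isPGroup (isPGroup_iff_forall.2 fun x hx => ⟨1, by rw [pow_one, b2 x hx]⟩)
  have c3 : ∀ x ∈ P, π x = 1 → x = 1 := fun x hx e => by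
    obtain ⟨n, hn⟩ := isPGroup_iff_forall.1 hP.isPGroup x hx
    exact (CO.tw_of_mem h3 e).eq_one_of_odd (Odd.of_dvd_nat (hp.odd_of_ne_two hp2).pow
      (orderOf_dvd_of_pow_eq_one hn))
  have c4 : Function.Injective (π.comp P.subtype) := (injective_iff_map_eq_one _).2 fun x e =>
    Subtype.ext (c3 x x.2 e)
  have c5 := k P ⟨⟨fun a b => c4 (by
    rw [map_mul, map_mul]
    exact congrArg Subtype.val (b1.is_comm.comm (⟨π a, hP.le a.2⟩ : B) ⟨π b, hP.le b.2⟩))⟩⟩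
    fun x hx => c3 _ (pow_mem hx p) (by rw [map_pow, b2 _ (hP.le hx)])
  rw [← c2]
  exact (Nat.le_of_dvd Nat.card_pos (card_map_dvd P π)).trans c5

/-- An element of odd prime order of the image lifts. -/
theorem lift_p {X A : Type u} [Group X] [Group A] [Finite X] {π : X →* A} (h1 : Function.Surjective π)
    (h3 : IsPGroup 2 π.ker) {p : ℕ} (hp : p.Prime) (hp2 : p ≠ 2) {a : A} (ha : a ^ p = 1) :
    ∃ x, π x = a ∧ x ^ p = 1 := by
  obtain ⟨x, rfl⟩ := h1 a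
  obtain ⟨n, hn⟩ := CO.tw_of_mem h3 (x := x ^ p) (by rw [MonoidHom.mem_ker, map_pow, ha])
  obtain ⟨i, hi⟩ := mem_zpowers_iff.1 (pow_coprime_mem hp hp2 n ha)
  exact ⟨(x ^ 2 ^ n) ^ i, by rw [map_zpow, map_pow, hi], by
    rw [← zpow_natCast, ← zpow_mul, mul_comm, zpow_mul, zpow_natCast, ← pow_mul, mul_comm, pow_mul, hn, one_zpow]⟩

omit [Finite G] in
/-- An element of odd order that centralises `l` modulo a central `2`-group centralises `l`. -/
theorem comm_of_odd {p : ℕ} (hp : Odd p) (hx : x ^ p = 1) {l : G} (h1 : cm x l ∈ cen1 x) (h2 : Tw (cm x l)) :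
    x * l = l * x := by
  have h3 : l * x⁻¹ * l⁻¹ = x⁻¹ * cm x l := by simp [cm, mul_assoc]
  have h4 : cm x l ^ p = 1 := by
    have := congrArg (· ^ p) h3
    simp only [conj_pow] at this
    rw [(Commute.inv_left (mem_cen1.1 h1).symm).mul_pow, inv_pow, hx] at this
    simpa using this.symm
  exact CO.cm_eq_one.1 (h2.eq_one_of_odd (Odd.of_dvd_nat hp (orderOf_dvd_of_pow_eq_one h4)))

/-- A perfect subgroup of `N(J)` is inner on `J`. -/
theorem OutD.perfect (h : OutD J) {X : Subgroup G} (h1 : X ≤ nor J) (h2 : ⁅X, X⁆ = X) : X ≤ J ⊔ cen J := by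
  let f := (QuotientGroup.mk' (Inn J)).comp (bt J)
  have h3 : ⁅im f X, im f X⁆ = im f X := by rw [im_comm f h1 h1, h2]
  have h4 : Odd (Nat.card (im f X)) := Nat.not_even_iff_odd.1 fun k => by
    obtain ⟨⟨a, ha⟩, k⟩ := exists_prime_orderOf_dvd_card' 2 (even_iff_two_dvd.1 k)
    rw [← Subgroup.orderOf_coe] at k
    obtain ⟨x, hx, b, rfl⟩ := mem_im.1 ha
    obtain ⟨m, c, d⟩ := CO.exists_odd_tw x
    have k1 := CO.inv_of_orderOf k
    refine k1.1 (zpowers_eq_bot.1 (le_bot_iff.1 ((zpowers_le.2 (k1.tw.mem_zpowers_odd c)).trans_eq ?_)))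
    rw [zpowers_eq_bot, ← map_pow]
    exact (QuotientGroup.eq_one_iff _).2 (bt_inn.2 (h.mem (commutator_mono h1 h1 (h2.ge (pow_mem b m))) d))
  have h5 := H42.odd_order h4
  have h6 : im f X = ⊥ := by
    by_contra k
    have := (nontrivial_iff_ne_bot _).2 k
    refine (Group.IsSolvable.commutator_lt_top_of_nontrivial (im f X)).ne ?_
    apply map_injective (im f X).subtype_injective
    rw [commutator_def, map_commutator, ← MonoidHom.range_eq_map, range_subtype, h3]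
  exact fun x hx => (bt_inn (a := ⟨x, h1 hx⟩)).1 ((QuotientGroup.eq_one_iff _).1
    (mem_bot.1 (h6 ▸ mem_im.2 ⟨x, h1 hx, hx, rfl⟩)))

/-- A good subgroup of `L` that centralises an involution of `C(J)` lies in `J`. -/
theorem Hy.gd_le (h : Hy L) (hz : L ⊓ cen L = ⊥) (hD : OutD L) (hJ : Cj L J) (h1 : CO.Inv y) (h2 : y ∈ cen J)
    {X : Subgroup L} (hX : Gd X) (hc : X.map L.subtype ≤ cen1 y) : X.map L.subtype ≤ J := by
  obtain ⟨p, hp, hp2, hr, hg, ho⟩ := hX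
  obtain ⟨f⟩ := hJ.equiv
  have hn := hc.trans (h.cen1_le hJ h1 h2)
  refine (map_mono hg).trans ?_
  rw [MonoidHom.map_closure, closure_le]
  rintro _ ⟨x, ⟨a, b⟩, rfl⟩
  have c := mem_map_of_mem L.subtype a
  have d : (x : G) ^ p = 1 := congrArg Subtype.val b
  refine h.pi hJ h1 h2 hp hp2 hr (hc c) d ?_
  rcases ho with ho | ho
  · exact (hD.congr f).perfect hn (by rw [← map_commutator, ho]) c
  obtain ⟨φ, hφ⟩ := (MulAut.congr f).surjective (bt J ⟨x, hn c⟩)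
  have k0 : (⟨x, hn c⟩ : nor J) ^ p = 1 := Subtype.ext d
  by_contra k
  have k1 : bt J ⟨x, hn c⟩ ∉ Inn J := mt bt_inn.1 k
  refine (ho φ ((mp_one (MulAut.congr f)).1 (by rw [map_pow, hφ, ← map_pow, k0, map_one]))).elim
    (fun i => k1 (hφ ▸ (mp_inn f).2 i)) fun i => i ?_
  rw [← mp_rank2 f, hφ]
  have m1 : J ⊔ zpowers (x : G) ≤ nor J := sup_le le_normalizer (zpowers_le.2 (hn c))
  have m2 : J ⊔ zpowers (x : G) ≤ cen1 y := sup_le (le_cen1 h2) (zpowers_le.2 (hc c))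
  let ψ := (bt J).comp (inclusion m1)
  have m3 : Function.Injective ψ := (injective_iff_map_eq_one _).2 fun a ha => by
    obtain ⟨l, hl, _, ⟨i, rfl⟩, e⟩ := (mem_sup_right_norm (zpowers_le.2 (hn c))).1 a.2
    have a1 : (a : G) ∈ cen J := bt_eq_one.1 ha
    change _ = l * (x : G) ^ i at e
    have a2 : (x : G) ^ i = 1 := by
      by_contra a3
      refine k (zpowers_le.2 (?_ : (x : G) ^ i ∈ J ⊔ cen J) (mem_zpowers_of_prime hp d a3))
      have := mul_mem (mem_sup_left (inv_mem hl) : l⁻¹ ∈ J ⊔ cen J) (mem_sup_right a1)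
      rwa [e, inv_mul_cancel_left] at this
    simp only [a2, mul_one] at e
    exact Subtype.ext (mem_bot.1 (hJ.zc hz ▸ mem_inf.2 ⟨e ▸ hl, a1⟩))
  have m4 : ψ.range = Inn J ⊔ zpowers (bt J ⟨x, hn c⟩) := by
    refine le_antisymm ?_ (sup_le ?_ (zpowers_le.2 ⟨⟨x, mem_sup_right (mem_zpowers _)⟩, rfl⟩))
    · rintro _ ⟨a, rfl⟩
      obtain ⟨l, hl, _, ⟨i, rfl⟩, e⟩ := (mem_sup_right_norm (zpowers_le.2 (hn c))).1 a.2
      have : inclusion m1 a = ⟨l, le_normalizer hl⟩ * ⟨x, hn c⟩ ^ i := Subtype.ext e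
      rw [MonoidHom.comp_apply, this, map_mul, map_zpow]
      exact mul_mem (mem_sup_left ⟨⟨l, hl⟩, (bt_mem _).symm⟩) (mem_sup_right (zpow_mem (mem_zpowers _) i))
    · rintro _ ⟨j, rfl⟩
      exact ⟨⟨j, mem_sup_left j.2⟩, bt_mem j⟩
  rw [← m4, mp_rank (MonoidHom.ofInjective m3)]
  intro A a1 a2
  rw [← card_map_of_injective (J ⊔ zpowers (x : G)).subtype_injective]
  exact h.qt2 h1.tw.zp (mt zpowers_eq_bot.1 h1.1) hp hp2 ((map_subtype_le A).trans (m2.trans (cen1_le_nor y)))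
    inferInstance (by rintro _ ⟨a, ha, rfl⟩; exact congrArg Subtype.val (a2 a ha))

/-! ### The four-relation -/

/-- any two `KI` involutions of `N(L)` outside `C(L)` induce the same outer automorphism -/
def Co (L : Subgroup G) : Prop :=
  ∀ a b, KI L a → KI L b → a ∈ nor L → b ∈ nor L → a ∉ cen L → b ∉ cen L → a * b ∈ L ⊔ cen L

omit [Finite G] in
theorem Co.to (h : Co L) (hJ : Cj L J) : Co J := by
  obtain ⟨g, rfl⟩ := hJ
  intro a b a1 b1 a2 b2 a3 b3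
  rw [nor_cj, H98.mem_cj] at a2 b2
  rw [cen_cj, H98.mem_cj] at a3 b3
  rw [LK_cj, H98.mem_cj]
  have := h _ _ (by simpa using (a1.to (Cj.symm ⟨g, rfl⟩)).conj g⁻¹)
    (by simpa using (b1.to (Cj.symm ⟨g, rfl⟩)).conj g⁻¹) a2 b2 a3 b3
  simpa [mul_assoc] using this

/-- A `KI` involution that is, modulo `J C(J)`, a product of two others outside `C(J)` does not exist. -/
theorem Hy.rel3 (h : Hy L) (hN : NoIn L) (hC : Co L) (hJ : Cj L J) (h1 : CO.Inv y) (h2 : y ∈ cen J) {a b c : G}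
    (a1 : KI L a) (b1 : KI L b) (c1 : KI L c) (a2 : a ∈ cen1 y) (b2 : b ∈ cen1 y) (a3 : a ∉ cen J)
    (b3 : b ∉ cen J) (c3 : c ∉ cen J) (k : a * b * c ∈ J ⊔ cen J) : False := by
  have := mul_mem (inv_mem (hC.to hJ a b (a1.to hJ) (b1.to hJ) (h.cen1_le hJ h1 h2 a2) (h.cen1_le hJ h1 h2 b2)
    a3 b3)) k
  rw [inv_mul_cancel_left] at this
  exact c3 (hN.to hJ c (c1.to hJ) this)

omit [Finite G] in
/-- Under `NoIn` an involution of `L C(L)` outside `C(L)` centralises no conjugate. -/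
theorem NoIn.not_mem (hN : NoIn L) (hJ : Cj L J) (h1 : x * x = 1) (h2 : x ∈ L ⊔ cen L) (h3 : x ∉ cen L) :
    x ∉ cen J := fun k =>
  h3 (hN x ⟨⟨fun e => h3 (e ▸ one_mem _), h1⟩, J, hJ, k⟩ h2)

/-- The usual form: `y`, `c y`, `y z`, `c y z` are not all `KI`. -/
theorem Hy.rel4 (h : Hy L) (hN : NoIn L) (hC : Co L) {c : G} (y1 : KI L y) (y2 : y ∉ cen L) (c1 : c ∈ L)
    (c2 : c ∉ cen L) (c3 : c * c = 1) (z1 : z ∈ cen L) (z2 : CO.Inv z) (cy : c * y = y * c)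
    (zy : z * y = y * z) (k1 : KI L (c * y)) (k2 : KI L (y * z)) (k3 : KI L (c * y * z)) : False := by
  obtain ⟨y3, J, hJ, y4⟩ := y1
  have cz : c * z = z * c := mem_cen.1 z1 c c1
  have m : ∀ a, a * y ∈ cen J → a ∈ cen J := fun a k => by simpa using mul_mem k (inv_mem y4)
  refine h.rel3 hN hC hJ y3 y4 k1 k2 k3 (mul_mem (mem_cen1.2 cy) (mem_cen1.2 rfl))
    (mul_mem (mem_cen1.2 rfl) (mem_cen1.2 zy)) (fun k => hN.not_mem hJ c3 (mem_sup_left c1) c2 (m c k))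
    (fun k => y2 (h.uniq hJ (Cj.refl L) z2 (m z (zy ▸ k)) z1 ▸ y4)) (fun k => ?_) ?_
  · refine hN.not_mem hJ (x := c * z) ?_ (mul_mem (mem_sup_left c1) (mem_sup_right z1))
      (fun k => c2 (by simpa using mul_mem k (inv_mem z1))) (m _ (by rwa [mul_assoc, zy, ← mul_assoc]))
    rw [mul_assoc, ← mul_assoc z, ← cz, mul_assoc, z2.2, mul_one, c3]
  · rw [show c * y * (y * z) * (c * y * z) = c * (y * y) * (z * c) * (y * z) by group, y3.2, mul_one, ← cz,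
      ← mul_assoc c c, c3, one_mul, ← zy, ← mul_assoc, z2.2, one_mul]
    exact mem_sup_right y4

/-! ### Symmetry -/

/-- A `2`-subgroup of `C(L) ∩ N(J)` has a copy in `C(J) ∩ N(L)`. -/
theorem Hy.sym (h : Hy L) (hJ : Cj L J) (hne : J ≠ L) {D : Subgroup G} (hD : IsPGroup 2 D) (d1 : D ≤ cen L)
    (d2 : D ≤ nor J) : ∃ (W : Subgroup G) (f : D →* W), Function.Injective f ∧ IsPGroup 2 W ∧ W ≤ cen J ∧
      W ≤ nor L := by
  by_cases d0 : D = ⊥
  · exact ⟨D, MonoidHom.id D, fun _ _ k => k, hD, d0 ▸ bot_le, d0 ▸ bot_le⟩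
  obtain ⟨g, rfl⟩ := hJ.symm
  have k := h.to hJ
  obtain ⟨T, hT, t1⟩ := exists_isSyl_le hD (le_inf (cen_cj g J ▸ d1) (k.nor_cen ▸ d2))
  have t0 : T ≠ ⊥ := fun e => d0 (le_bot_iff.1 (e ▸ t1))
  obtain ⟨S, hS, t2⟩ := exists_isSyl_le hT.isPGroup (le_sup_right : T ≤ cen J ⊔ T)
  obtain ⟨-, -, -, ⟨f⟩⟩ := te_structure k.std.2.1 (g := g) (fun e => hne
    (cj_eq_self (k.nor_cen ▸ e : g ∈ nor J)).symm) t0 hT hS t2
  exact ⟨_, f.symm.toMonoidHom.comp (inclusion t1), f.symm.injective.comp (inclusion_injective t1),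
    hS.isPGroup.to_le (inf_le_left.trans inf_le_left), inf_le_right, (inf_le_left.trans inf_le_right).trans
      (h.nor_le (Cj.refl _) hT.isPGroup (cen_cj g J ▸ hT.le.trans inf_le_left) t0)⟩

/-- An element of order four in `C(L) ∩ N(J)` gives one in `C(J) ∩ N(L)`. -/
theorem Hy.sym4 (h : Hy L) (hJ : Cj L J) (hne : J ≠ L) {k : G} (k1 : Tw k) (k2 : k * k ≠ 1) (k3 : k ∈ cen L)
    (k4 : k ∈ nor J) : ∃ b ∈ cen J, b ∈ nor L ∧ Tw b ∧ b * b ≠ 1 := by
  obtain ⟨W, f, a, b, c, d⟩ := h.sym hJ hne k1.zp (zpowers_le.2 k3) (zpowers_le.2 k4)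
  refine ⟨f ⟨k, mem_zpowers k⟩, c (f _).2, d (f _).2, CO.tw_of_mem b (f _).2, fun e => k2 ?_⟩
  exact congrArg Subtype.val (a (a₂ := 1) (a₁ := ⟨k, mem_zpowers k⟩ * ⟨k, mem_zpowers k⟩)
    (by rw [map_mul, map_one]; exact Subtype.ext e))

/-! ### Transfer -/

/-- If all conjugates of the involution `z` in `T` lie in the coset `T₁ z` of a subgroup `T₁ ≥ [T, T]`
then `z ∈ T₁`. -/
theorem transfer_mem [IsSimpleGroup G] (hG : ¬ IsMulCommutative G) {T T₁ : Subgroup G} (hT : IsSyl 2 T ⊤)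
    (h1 : ⁅T, T⁆ ≤ T₁) (h2 : T₁ ≤ T) (z1 : z ∈ T) (z2 : z * z = 1)
    (h : ∀ g : G, g * z * g⁻¹ ∈ T → g * z * g⁻¹ * z ∈ T₁) : z ∈ T₁ := by
  have hn : (T₁.subgroupOf T).Normal :=
    normal_subgroupOf_iff_le_normalizer h2 |>.2 (le_normalizer_of_commutator_le h1 h2 |> fun _ => by
      exact fun t ht => mem_normalizer_of_cj_le (by
        rintro _ ⟨x, hx, rfl⟩
        simpa [cm] using mul_mem (h1 (CO.cm_mem_comm ht (h2 hx))) hx))
  let A := T ⧸ T₁.subgroupOf T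
  let : CommGroup A := { (inferInstance : Group A) with
    mul_comm := fun a b => by
      obtain ⟨a, rfl⟩ := QuotientGroup.mk_surjective a
      obtain ⟨b, rfl⟩ := QuotientGroup.mk_surjective b
      rw [← QuotientGroup.mk_mul, ← QuotientGroup.mk_mul, QuotientGroup.eq]
      simpa [cm, mul_assoc, mem_subgroupOf] using h1 (CO.cm_mem_comm (inv_mem b.2) (inv_mem a.2)) }
  let φ : T →* A := QuotientGroup.mk' _
  have zz : z ^ 2 = 1 := by rw [pow_two, z2]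
  have t2 : φ ⟨z, z1⟩ ^ 2 = 1 := by rw [← map_pow, ← map_one φ]; exact congrArg φ (Subtype.ext zz)
  have h3 := H8.transfer_eq_pow_of_forall φ z (φ ⟨z, z1⟩) fun k a ha => by
    rcases Nat.even_or_odd' k with ⟨n, rfl | rfl⟩
    · rw [pow_mul (φ _), t2, one_pow, ← map_one φ]
      exact congrArg φ (Subtype.ext (by simp [pow_mul, zz]))
    · have ha' := ha
      rw [pow_succ, pow_mul, zz, one_pow, one_mul] at ha'
      rw [pow_succ (φ _), pow_mul (φ _), t2, one_pow, one_mul, eq_comm]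
      refine QuotientGroup.eq.2 ?_
      have := hn.conj_mem ⟨_, mul_mem ha' z1⟩ (by simpa [mem_subgroupOf] using h a⁻¹ (by simpa using ha')) ⟨z, z1⟩
      simpa [mem_subgroupOf, pow_succ, pow_mul, zz, mul_assoc, inv_eq_of_mul_eq_one_right z2, z2] using this
  have h4 : φ.transfer z = 1 := by
    rcases (φ.transfer).normal_ker.eq_bot_or_eq_top with k | k
    · exact absurd ⟨⟨fun a b => (MonoidHom.ker_eq_bot_iff _).1 k (by rw [map_mul, map_mul, mul_comm])⟩⟩ hG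
    · exact MonoidHom.mem_ker.1 (k ▸ mem_top z)
  have h5 := hT.not_dvd_relIndex
  rw [relIndex_top_right, ← even_iff_two_dvd, Nat.not_even_iff_odd] at h5
  obtain ⟨n, hn'⟩ := h5
  rw [h4, hn', pow_succ, pow_mul, t2, one_pow, one_mul, eq_comm] at h3
  exact (QuotientGroup.eq_one_iff (⟨z, z1⟩ : T)).1 h3

end H36.QF
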