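import Cfsg.Agent.H36.QFKit2
import Cfsg.Agent.S1169
import Cfsg.Agent.H99.BenderB
import Cfsg.Agent.H82.Hub
import Cfsg.Agent.H99.ZDRows4
import Cfsg.Agent.S3121
import Cfsg.Agent.H84.Hyp

/-! Tower QF: no strongly embedded subgroup, Goldschmidt's theorem, existence of the configuration. -/

set_option autoImplicit false

namespace H36.QF

open Cfsg Subgroup H14 H98 H97 H36.QE
open H14.CO (cen cen1 nor cm Tw mem_cen mem_cen1)

universe u

variable {G : Type u} [Group G] [Finite G] {L S I J : Subgroup G}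

omit [Finite G] in
theorem Hy.not_ab (h : Hy L) : ¬ IsMulCommutative G := fun k =>
  not_le_cen_self h.qs fun x _ => mem_cen.2 fun y _ => k.is_comm.comm y x

theorem Hy.exists_inv (h : Hy L) : ∃ z ∈ cen L, CO.Inv z :=
  let ⟨z, a, b, _⟩ := h.exists_z (D := ⊥) IsPGroup.of_bot bot_le
  ⟨z, a, b⟩

omit [Finite G] in
theorem Hy.center (h : Hy L) : center G = ⊥ :=
  have := h.sim
  H1.Gold.center_eq_bot_of_simple h.not_ab

theorem Hy.nor_ne (h : Hy L) : nor L ≠ ⊤ := fun k => by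
  have := h.sim
  obtain ⟨z, a, b⟩ := h.exists_inv
  rcases (normalizer_eq_top_iff.1 k).eq_bot_or_eq_top with e | e
  · exact not_le_cen_self h.qs (e.le.trans bot_le)
  · exact b.1 (mem_bot.1 (h.center ▸ mem_center_iff.2 fun g => mem_cen.1 a g (e ▸ mem_top g)))

theorem Hy.not_normal (h : Hy L) : ¬ L.Normal := fun k => h.nor_ne (normalizer_eq_top_iff.2 k)

theorem Hy.oddCore (h : Hy L) : oddCore G = ⊥ :=
  have := h.sim
  let ⟨_, _, b⟩ := h.exists_inv
  H84.oddCore_eq_bot_of_simple b.orderOf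

omit [Finite G] in
theorem Hy.normalClosure (h : Hy L) : normalClosure (L : Set G) = ⊤ :=
  have := h.sim
  (normalClosure_normal.eq_bot_or_eq_top).resolve_left fun e =>
    not_le_cen_self h.qs ((le_normalClosure.trans e.le).trans bot_le)

omit [Finite G] in
theorem Hy.not_solvable (h : Hy L) (hJ : Cj L J) {H : Subgroup G} (h1 : J ≤ H) : ¬ Group.IsSolvable H := fun k => by
  have := Group.isSolvable_of_isSolvable_injective (inclusion_injective h1)
  have k := h.to hJ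
  have : Nontrivial J := (nontrivial_iff_ne_bot _).2 fun e => not_le_cen_self k.qs (e.le.trans bot_le)
  exact (Group.IsSolvable.commutator_lt_top_of_nontrivial J).ne k.qs.1.commutator_eq_top

theorem Hy.no_se (h : Hy L) (H : Subgroup G) : ¬ IsStronglyEmbedded H := fun k => by
  have := h.sim
  obtain ⟨T, hT⟩ := H99.se_eq_normalizer_sylow H82.hub k
  obtain ⟨z, a, b⟩ := h.exists_inv
  obtain ⟨g, -, c⟩ := (isSyl_sylow T).exists_cj_le b.tw.zp le_top
  have d : g * z * g⁻¹ ∈ H := hT ▸ le_normalizer (c (conj_mem_cj (mem_zpowers z)))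
  exact h.not_solvable ⟨g, rfl⟩ ((le_cen1 (cen_cj g L ▸ conj_mem_cj a)).trans
    (H88.se_centralizer_le k d (b.cj g).orderOf)) (H99.se_isSolvable H82.hub k (H99.se_twoRank_of_simple k))

/-- Goldschmidt's theorem in the setting. -/
theorem Hy.gold (h : Hy L) {T A : Subgroup G} (hT : IsSyl 2 T ⊤) (a0 : A ≠ ⊥) (a1 : A ≤ T) (a2 : A ≤ cen A)
    (a3 : ∀ x ∈ A, ∀ g : G, g * x * g⁻¹ ∈ T → g * x * g⁻¹ ∈ A) : T ≤ cen T :=
  have := h.sim
  le_centralizer_iff_isMulCommutative.2 ((Cfsg.Agent.S1169.result hT.toSylowTop A a0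
    (le_centralizer_iff_isMulCommutative.1 a2) ⟨a1, a3⟩).resolve_right fun ⟨H, k⟩ => h.no_se H k)

/-- Some `KI` involution of `N(L)` lies outside `C(L)`. -/
theorem Hy.exists_ki (h : Hy L) : ∃ J y, Cj L J ∧ CO.Inv y ∧ y ∈ cen J ∧ y ∈ nor L ∧ y ∉ cen L := by
  have := h.sim
  by_contra k
  push Not at k
  rcases H99.s1911_of H51.ZD.zdThm (cen L) h.std.2.1 (fun g hg => Nat.not_even_iff_odd.1 fun e => by
    obtain ⟨⟨y, a, b⟩, c⟩ := exists_prime_orderOf_dvd_card' 2 (even_iff_two_dvd.1 e)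
    rw [← Subgroup.orderOf_coe] at c
    have c := CO.inv_of_orderOf c
    have a' : y ∈ cen (H98.cj g L) := cen_cj g L ▸ a
    exact hg (h.nor_cen ▸ cj_eq_self_iff.1 (h.uniq ⟨g, rfl⟩ (Cj.refl L) c a'
      (k _ y ⟨g, rfl⟩ c a' (h.nor_cen ▸ b))) : g ∈ nor (cen L))) with e | e
  · exact h.nor_ne (h.nor_cen ▸ normalizer_eq_top_iff.2 e)
  · obtain ⟨z, a, b⟩ := h.exists_inv
    have n : Subgroup.normalClosure (cen L : Set G) = ⊤ := (normalClosure_normal.eq_bot_or_eq_top).resolve_left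
      fun e => b.1 (mem_bot.1 (e ▸ le_normalClosure a))
    rw [n] at e
    obtain ⟨h1, ⟨t, ht, ho⟩, h3⟩ := (H88.isStronglyEmbedded_iff _).1 e
    exact h.no_se (nor (cen L)) ((H88.isStronglyEmbedded_iff _).2
      ⟨fun k => h1 (subgroupOf_eq_top.2 k.ge), ⟨t, ht, by rw [Subgroup.orderOf_coe, ho]⟩,
        fun s hs so g hg => h3 ⟨s, trivial⟩ hs (by rw [← Subgroup.orderOf_coe, so]) ⟨g, trivial⟩ hg⟩)

/-- The configuration exists. -/
theorem Hy.exists_mx (h : Hy L) : ∃ S, Mx L S := by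
  obtain ⟨J, y, a, b, c, d, e⟩ := h.exists_ki
  obtain ⟨S0, -, -, -, k, -⟩ := h.exists_tk a b c d e (D := ⊥) IsPGroup.of_bot bot_le bot_le
  obtain ⟨S, hS, hm⟩ := Set.exists_max_image {S | Tk L S} (fun S => Nat.card S) (Set.toFinite _) ⟨S0, k⟩
  obtain ⟨-, I, -, -, hI, -⟩ := id hS
  obtain ⟨g, hg⟩ := hI.1.symm
  exact ⟨_, hg ▸ Mx.cj (L := I) ⟨hS.to hI.1, hI.to hI.1, fun S' k => hm S' (k.to hI.1.symm)⟩ g⟩

end H36.QF
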