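import Cfsg.Agent.H36.QFU1

/-! Tower QF: the jobs `Out`, `In` and `U`. -/

set_option autoImplicit false

namespace H36.QF

open Cfsg Subgroup H14 H98 H97 H36.QE
open H14.CO (cen cen1 nor cm Tw mem_cen mem_cen1)

universe u

variable {G : Type u} [Group G] [Finite G] {L S I J : Subgroup G} {y : G}

omit [Finite G] in
theorem noa_to (h : ∀ a : MulAut L, Ou a → NOa a) (hJ : Cj L J) : ∀ a : MulAut J, Ou a → NOa a := by
  obtain ⟨e⟩ := hJ.equiv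
  tr_simp e; simp only [mp_noa]; exact h

omit [Finite G] in
theorem OutD.to (h : OutD L) (hJ : Cj L J) : OutD J := hJ.equiv.elim fun e => h.congr e

omit [Finite G] in
theorem Ce.sq_mem (h : Ce S y) (X : Subgroup G) : y * y ∈ X := h.2.2 ▸ one_mem X

omit [Finite G] in
theorem not_allIn (h : ¬ AllIn L S) :
    ∃ J y, J ≠ L ∧ Kap L S J ∧ Ce S y ∧ y ≠ 1 ∧ y ∈ cen J ∧ y ∉ L ⊔ cen L := by
  simp only [AllIn, not_forall] at h
  obtain ⟨J, a, b, y, c, d, e⟩ := h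
  exact ⟨J, y, a, b, c, fun k => e (k ▸ one_mem _), d, e⟩

/-- `S ⊓ L` is a Sylow subgroup of the fixed points of `y`. -/
theorem Mx.syl_fix (h : Hy L) (m : Mx L S) (hJ : Cj L J) (hne : J ≠ L) (h1 : Ce S y) (h2 : y ≠ 1)
    (h3 : y ∈ cen J) : IsSyl 2 ((S ⊓ L).subgroupOf L) (Fix (bt L ⟨y, m.le h1.1⟩)) := by
  rw [Fix_bt, syl_sub inf_le_right]
  exact m.syl_L h m.one hJ hne.symm h1 h2 h3

theorem noa1_G (h : Hy L) (m : Mx L S) (hN : ∀ a : MulAut L, Ou a → NOa a) (hA : ¬ AllIn L S) {w : G}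
    (w1 : w ∈ L) (w2 : Ce S w) (w3 : w ≠ 1) : ¬ IsSyl 2 (S ⊓ L) (L ⊓ cen1 w) := by
  obtain ⟨J, y, a, b, c, d, e, f⟩ := not_allIn hA
  have k := (hN _ (bt_ou (a := ⟨y, m.le c.1⟩) (c.sq_mem _) f) _ (m.syl_fix h b.1 a c d e)).1 ⟨w, w1⟩
    ⟨w2.1, w1⟩ (by rw [cen_sub inf_le_right]; exact centralizer_le (inf_le_left (a := S)) w2.2.1)
    (inv_sub.2 (w2.toInv w3))
  rwa [cen1_sub, syl_sub inf_le_right] at k

/-- The commutator of a central involution with a step element of `L`. -/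
theorem Mx.step_c (h : Hy L) (m : Mx L S) (hJ : Cj L J) (hne : J ≠ L) (h1 : Ce S y) (h2 : y ≠ 1)
    (h3 : y ∈ cen J) {u : G} (u0 : u ∈ L) (u1 : u ∉ S) (u2 : u ∈ nor S) (u3 : u * u ∈ S) :
    cm u y ∈ L ∧ Ce S (cm u y) ∧ cm u y ≠ 1 ∧ cm u y * y = u * y * u⁻¹ ∧ u ∈ cen1 (cm u y) ∧ u ∉ nor J := by
  obtain ⟨a, b⟩ := m.step_ne h m.one hJ hne.symm h1 h2 h3 u1 u2 u3 (le_normalizer u0)
  have c : cm u y = u * y * u⁻¹ * y := by rw [cm, h1.inv]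
  refine ⟨CO.cm_mem_left u0 (m.le h1.1), c ▸ (h1.cj u2).mul h1, fun k => b ?_, by simp [cm], ?_, a⟩
  · exact CO.cj_eq_of_comm (CO.cm_eq_one.1 k)
  · rw [mem_cen1, ← mul_inv_eq_iff_eq_mul, c, (h1.cj u2).comm h1.1 |>.symm, ← conj_mul,
      show u * (u * y * u⁻¹) * u⁻¹ = u * u * y * (u * u)⁻¹ by group, CO.cj_eq_of_comm (h1.comm u3),
      (h1.cj u2).comm h1.1]

theorem jobOut : JobOut.{u} := fun G _ _ L S h m hz hD hN => by
  by_contra hA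
  have key : ∀ I X, Kap L S I → Cj L X → ∀ x, Ce S x → x ≠ 1 → x ∈ cen X → x ∈ I ⊔ cen I → x ∈ cen I :=
    fun I X hI hX x a b c d => by
      by_contra k
      obtain ⟨w, hw, k', hk, rfl⟩ := mem_LK.1 d
      obtain ⟨e1, -, e2, e3⟩ := m.dec_ce h hz hI hX (fun e => k (e ▸ c)) hw hk a b c
      exact noa1_G (h.to hI.1) (m.to hI) (noa_to hN hI.1)
        (fun i => hA (i.to (h.to hI.1) (m.to hI) (m.one.to hI.1))) hw e1 e2 e3
  obtain ⟨J, y, a, b, c, d, e, f⟩ := not_allIn hA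
  have hs := m.syl_L h m.one b.1 a.symm c d e
  have hF : (Fix (bt L ⟨y, m.le c.1⟩)).map L.subtype = L ⊓ cen1 y := by
    rw [Fix_bt, subgroupOf_map_subtype, inf_comm]
  have ex : ∃ x ∈ L, Ce S x ∧ x ≠ 1 ∧ x ∈ ⁅L ⊓ cen1 y, L ⊓ cen1 y⁆ ∧ KI L (x * y) := by
    have cz : ∀ x (hx : x ∈ L), Ce S x → (⟨x, hx⟩ : L) ∈ cen ((S ⊓ L).subgroupOf L) := fun x hx i => by
      rw [cen_sub inf_le_right]; exact centralizer_le (inf_le_left (a := S)) i.2.1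
    rcases (hN _ (bt_ou (a := ⟨y, m.le c.1⟩) (c.sq_mem _) f) _ (m.syl_fix h b.1 a c d e)).2 with k | k
    · have nu : ¬ Ut L S := fun u => by
        obtain ⟨w, p, q, r⟩ := exists_ce m.pg inf_le_left m.one.nor_U (mt u.eq_bot_iff.1
          (not_not.2 (H3.KF.two_dvd_of_quasi h.qs)))
        exact noa1_G h m hN hA p.2 r q (u.of_le (le_inf inf_le_right (inf_le_left.trans r.le)) inf_le_left)
      obtain ⟨u, u0, u1, u2, u3⟩ := m.step_L h nu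
      obtain ⟨p, q, r, s, -⟩ := m.step_c h b.1 a c d e u0 u1 u2 u3
      exact ⟨_, p, q, r, hF ▸ comm_sub (k ⟨_, p⟩ ⟨q.1, p⟩ (cz _ p q) (inv_sub.2 (q.toInv r))),
        s ▸ (KI.of_cen b.1 (c.toInv d) e).conj u⟩
    · have n1 : S ≤ nor (L ⊓ cen1 y) := le_normalizer_inf m.le (c.le.trans le_normalizer)
      have n2 : ⁅L ⊓ cen1 y, L ⊓ cen1 y⁆ ≤ L ⊓ cen1 y := commutator_le_of_le le_rfl le_rfl
      have s1 := hs.inf_of_le_normalizer n2 (inf_le_left.trans (le_normalizer_commutator n1 n1))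
      obtain ⟨x, p, q, r⟩ := exists_ce m.pg (inf_le_left.trans inf_le_left) (le_normalizer_inf m.one.nor_U
        (le_normalizer_commutator n1 n1)) (mt s1.eq_bot_iff.1 (not_not.2 (by
          rw [← hF, ← map_commutator, card_map_of_injective L.subtype_injective]
          exact even_iff_two_dvd.1 k.1)))
      refine ⟨x, p.1.2, r, q, p.2, (KI.of_cen b.1 (c.toInv d) e).tws (a := ⟨y, m.le c.1⟩) (c := ⟨x, p.1.2⟩)
        (k.2 _ p.1 (cz _ _ r) (inv_sub.2 (r.toInv q)) ?_)⟩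
      rw [← mem_map_iff_mem L.subtype_injective, map_commutator, hF]
      exact p.2
  obtain ⟨x, p, q, r, s, t⟩ := ex
  have n3 : L ⊓ cen1 y ≤ nor J := inf_le_right.trans (h.cen1_le b.1 (c.toInv d) e)
  have x1 := (hD.to b.1).mem (commutator_mono n3 n3 s) (CO.tw_of_sq q.2.2)
  by_cases k : x ∈ cen J
  · exact r (mem_bot.1 (hz ▸ mem_inf.2 ⟨p, key L J m.one b.1 x q r k (mem_sup_left p)⟩))
  · obtain ⟨t1, X, t2, t3⟩ := t
    exact k (by simpa using mul_mem (key J X b t2 _ (q.mul c) t1.1 t3 (mul_mem x1 (mem_sup_right e))) (inv_mem e))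

omit [Finite G] in
theorem not_zi_of {w : G} (hw : w ∈ L) {Q : Subgroup G} [Finite L] (h1 : IsSyl 2 Q (L ⊓ cen1 w)) (h2 : ¬ IsSyl 2 Q L) :
    ¬ ZI (⟨w, hw⟩ : L) := fun k =>
  have a : Q ≤ L := h1.le.trans inf_le_left
  not_syl_of_zi k (mt (syl_sub_top a).1 h2) (by rwa [cen1_sub, syl_sub a])

theorem jobIn : JobIn.{u} := fun G _ _ L S h m hz hD hN hA => by
  by_contra nu
  obtain ⟨J, a, b⟩ := m.exists_ne
  obtain ⟨y, e, d, c⟩ := b.exists_ce m.pg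
  obtain ⟨w, hw, k, hk, rfl⟩ := mem_LK.1 (hA J a b y c e)
  obtain ⟨w1, k1, w2, w3⟩ := m.dec_ce h hz m.one b.1 a.symm hw hk c d e
  obtain ⟨u, u0, u1, u2, u3⟩ := m.step_L h nu
  obtain ⟨p, q, r, s, t, v⟩ := m.step_c h b.1 a c d e u0 u1 u2 u3
  have cw : w * cm u (w * k) = u * w * u⁻¹ := by
    have := s
    rw [← conj_mul, CO.cj_eq_of_comm (mem_cen.1 hk u u0), ← mul_assoc, mul_left_inj] at this
    rw [← this, w1.comm q.1]
  have cz : ∀ x (hx : x ∈ L), Ce S x → (⟨x, hx⟩ : L) ∈ cen ((S ⊓ L).subgroupOf L) := fun x hx i => by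
    rw [cen_sub inf_le_right]; exact centralizer_le (inf_le_left (a := S)) i.2.1
  obtain ⟨X, hc, x1, x2, x3⟩ := hN ⟨w, hw⟩ ⟨_, p⟩ ((S ⊓ L).subgroupOf L) (inv_sub.2 (w1.toInv w2))
    (not_zi_of hw w3 nu) (by rwa [cen1_sub, syl_sub inf_le_right]) (inv_sub.2 (q.toInv r)) ⟨q.1, p⟩ (cz _ p q)
    (fun i => by
      rw [cen1_sub, syl_sub inf_le_right] at i
      have n : u ∈ nor (S ⊓ L) := le_normalizer_inf (zpowers_le.2 u2) (zpowers_le.2 (le_normalizer u0))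
        (mem_zpowers u)
      exact u1 ((i.eq_of_le (two_sup i.isPGroup n ⟨u3, mul_mem u0 u0⟩) le_sup_right
        (sup_le (zpowers_le.2 ⟨u0, t⟩) i.le)).le (mem_sup_left (mem_zpowers u))).1)
    (isConj_iff.2 ⟨⟨u, u0⟩, Subtype.ext cw.symm⟩)
  have x4 : X.map L.subtype ≤ cen1 (w * k) := by
    rintro _ ⟨x, hx, rfl⟩
    exact ((inf_cen1_dec hk).ge ⟨x.2, (cen1_sub _).le (x1 hx)⟩).2
  have x5 := h.gd_le hz hD b.1 (c.toInv d) e x2 x4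
  obtain ⟨z, z1, z2, z3⟩ := m.one.exists_ce m.pg
  obtain ⟨w', hw', k', hk', rfl⟩ := mem_LK.1 (hA.to h m b L a.symm (m.one.to b.1) z z3 z1)
  obtain ⟨w4, -, w5, w6⟩ := m.dec_ce h hz b (Cj.refl L) a hw' hk' z3 z2 z1
  obtain ⟨g, hg, rfl⟩ := m.trans h m.one b
  let f : L ≃* H98.cj g L := (MulAut.conj g).subgroupMap L
  let φ : X →* L := f.symm.toMonoidHom.comp ((L.subtype.comp X.subtype).codRestrict _ fun x =>
    x5 (mem_map_of_mem _ x.2))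
  have hφ : ∀ x : X, g * (φ x : G) * g⁻¹ = x := fun x => congrArg Subtype.val (f.apply_symm_apply ⟨x, _⟩)
  have hw'' : g⁻¹ * w' * g ∈ L := H98.mem_cj.1 hw'
  have back : ∀ x : G, IsSyl 2 (S ⊓ H98.cj g L) (H98.cj g L ⊓ cen1 (g * x * g⁻¹)) →
      IsSyl 2 (S ⊓ L) (L ⊓ cen1 x) := fun x i => by
    have := i.cj g⁻¹
    rwa [cj_inf, cj_inf, H98.cj_inv_cj, cj_eq_self (inv_mem hg), cj_cen1,
      show g⁻¹ * (g * x * g⁻¹) * g⁻¹⁻¹ = x by group] at this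
  have w7 := back (g⁻¹ * w' * g) (by simpa [mul_assoc] using w6)
  have c1 : Ce S (φ ⟨_, hc⟩) := by
    have := q.cj (inv_mem hg)
    rwa [← show g * (φ ⟨_, hc⟩ : G) * g⁻¹ = cm u (w * k) from hφ ⟨_, hc⟩,
      show ∀ x : G, g⁻¹ * (g * x * g⁻¹) * g⁻¹⁻¹ = x from fun x => by group] at this
  refine x3 φ ⟨_, hw''⟩ ((S ⊓ L).subgroupOf L) (fun x x' i => Subtype.ext (Subtype.ext
      ((hφ x).symm.trans (i ▸ hφ x')))) (inv_sub.2 (by simpa using (w4.toInv w5).cj g⁻¹)) (not_zi_of _ w7 nu) ?_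
    (by rwa [cen1_sub, syl_sub inf_le_right]) ⟨c1.1, (φ _).2⟩ (cz _ (φ _).2 c1) ?_
  · rintro _ ⟨x, rfl⟩
    have i : (x : G) ∈ cen1 w' := ((inf_cen1_dec hk').le ⟨x5 (mem_map_of_mem _ x.2), le_cen1 z1 x.1.2⟩).2
    have := conj_mem_cj (g := g⁻¹) i
    rw [cj_cen1, ← hφ x, show ∀ x : G, g⁻¹ * (g * x * g⁻¹) * g⁻¹⁻¹ = x from fun x => by group, inv_inv] at this
    exact (cen1_sub _).ge this
  · rw [cen1_sub, syl_sub inf_le_right]
    refine back _ ?_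
    rw [hφ ⟨_, hc⟩]
    have := m.syl_L h b (b.1.cj u) (fun i => v (cj_eq_self_iff.1 i.symm)) (c.cj u2) ((c.toInv d).cj u).1
      (cen_cj u _ ▸ conj_mem_cj e)
    rwa [← s, inf_cen1_dec e] at this

/-! ### The case that `S` contains a Sylow subgroup of `L` -/

omit [Finite G] in
theorem W_bot (hz : L ⊓ cen L = ⊥) : Om S ⊓ L ⊓ cen L = ⊥ := by
  rw [inf_assoc, hz, inf_bot_eq]

omit [Finite G] in
theorem W_dec (h : Hy L) (m : Mx L S) (hz : L ⊓ cen L = ⊥) (u : Ut L S) (hE : ∀ e, Ce S e → e ∈ L ⊔ cen L) :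
    ∀ e, Ce S e → ∃ k ∈ cen L, ∃ x ∈ Om S ⊓ L, e = k * x := fun e he =>
  let ⟨k, a, w, b, _, c, d⟩ := h.dec_ce m.pg m.le u hz he (hE e he)
  ⟨k, a, w, ⟨c, b⟩, d⟩

omit [Finite G] in
theorem proj_ne (h : Hy L) (hJ : Cj L J) (hne : J ≠ L) {k x : G} (k1 : k ∈ cen L) (h1 : k * x * (k * x) = 1)
    (h2 : k * x ∈ cen J) (h3 : k * x ≠ 1) : x ≠ 1 := fun e => by
  rw [e, mul_one] at h1 h2 h3
  exact hne (h.uniq hJ (Cj.refl L) ⟨h3, h1⟩ h2 k1)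

omit [Finite G] in
theorem mem_cen_sub {x : G} (hx : x ∈ L) (h : x ∈ cen (S ⊓ L)) : (⟨x, hx⟩ : L) ∈ cen ((S ⊓ L).subgroupOf L) := by
  rwa [cen_sub inf_le_right]

omit [Finite G] in
theorem le_fix_bt {x : G} (hx : x ∈ nor L) {U : Subgroup G} (h : x ∈ cen U) :
    U.subgroupOf L ≤ Fix (bt L ⟨x, hx⟩) := fun _ hy => bt_fix.2 (le_cen1 h hy)

omit [Finite G] in
theorem ce_cen (h : Ce S y) (X : Subgroup G) : y ∈ cen (S ⊓ X) := centralizer_le (inf_le_left (a := S)) h.2.1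

omit [Finite G] in
/-- With `CU`, a `2`-element that centralises the Sylow subgroup is inner. -/
theorem CU.inn {U : Subgroup G} (h : CU (U.subgroupOf L)) {x : G} (h1 : x ∈ nor L) (h2 : Tw x) (h3 : x ∈ cen U) :
    x ∈ L ⊔ cen L := (bt_inn (a := ⟨x, h1⟩)).1 (h.1 _ (bt_tw h2) (le_fix_bt h1 h3))

theorem Y_cen (m : Mx L S) (hJ : Kap L S J) (hW : Om S ⊓ L ⊓ cen J = ⊥) :
    S ⊓ cen J ⊓ (S ⊓ L) = ⊥ ∧ S ⊓ cen J ≤ cen (S ⊓ L) :=
  cen_of_ce m.pg inf_le_left hJ.nor_Y inf_le_left m.one.nor_U fun _ a b c =>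
    mem_bot.1 (hW ▸ mem_inf.2 ⟨⟨c, b.2⟩, a.2⟩)

theorem Y_elem (h : Hy L) (m : Mx L S) (u : Ut L S) (hc : CU ((S ⊓ L).subgroupOf L)) (hJ : Kap L S J)
    (hne : J ≠ L) (hW : Om S ⊓ L ⊓ cen J = ⊥) (hI : Kap L S I) : ∀ y ∈ S ⊓ cen I, y * y = 1 := by
  have k : ∀ y ∈ S ⊓ cen J, y * y = 1 := fun y hy => by
    have a := (Y_cen m hJ hW).2 hy
    obtain ⟨l, hl, k, hk, rfl⟩ := mem_LK.1 (hc.inn (m.le hy.1) (CO.tw_of_mem m.pg hy.1) a)
    have b := (h.dec_ut m.pg m.le u hl hk hy.1).1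
    have c : l * l = 1 := congrArg Subtype.val (hc.2 ⟨l, hl⟩ ⟨b, hl⟩ (mem_cen_sub hl (by
      simpa using mul_mem a (inv_mem (centralizer_le (inf_le_right (a := S)) hk)))))
    refine h.eq_one hJ.1 (Cj.refl L) hne (CO.tw_of_mem m.pg (mul_mem hy.1 hy.1)) (mul_mem hy.2 hy.2) ?_
    rw [mul_assoc, ← mul_assoc k, ← mem_cen.1 hk l hl, ← mul_assoc, ← mul_assoc, c, one_mul]
    exact mul_mem hk hk
  obtain ⟨g, hg, rfl⟩ := m.trans h hJ hI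
  intro y hy
  have := k (g⁻¹ * y * g) ⟨conj_mem_of_mem_normalizer' hg hy.1, H98.mem_cj.1 (cen_cj g J ▸ hy.2)⟩
  rwa [show g⁻¹ * y * g * (g⁻¹ * y * g) = g⁻¹ * (y * y) * g⁻¹⁻¹ by group, conj_eq_one_iff] at this

/-- the subgroup generated by the squares -/
def Sq (X : Subgroup G) : Subgroup G := closure {y | ∃ x ∈ X, x * x = y}

omit [Finite G] in
theorem Sq_le {X Y : Subgroup G} (h : ∀ x ∈ X, x * x ∈ Y) : Sq X ≤ Y :=
  (closure_le _).2 fun _ ⟨x, a, b⟩ => b ▸ h x a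

theorem nor_Sq (X : Subgroup G) : nor X ≤ nor (Sq X) := fun g hg => mem_normalizer_of_cj_le
  (map_le_iff_le_comap.2 (Sq_le fun x hx => subset_closure
    ⟨g * x * g⁻¹, conj_mem_of_mem_normalizer hg hx, by simp [mul_assoc]⟩))

omit [Finite G] in
theorem comm_le_L (h : Hy L) (m : Mx L S) (u : Ut L S) (hY : ∀ y ∈ S ⊓ cen L, y * y = 1)
    (hS : S ≤ L ⊔ cen L) : ⁅S, S⁆ ≤ L := CO.comm_le_of_cm fun x hx y hy => by
  obtain ⟨l, hl, k, hk, rfl⟩ := mem_LK.1 (hS hx)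
  obtain ⟨l', hl', k', hk', rfl⟩ := mem_LK.1 (hS hy)
  have a : k ∈ S ⊓ cen L := ⟨(h.dec_ut m.pg m.le u hl hk hx).2, hk⟩
  have b : k' ∈ S ⊓ cen L := ⟨(h.dec_ut m.pg m.le u hl' hk' hy).2, hk'⟩
  have c : k * k' = k' * k := by
    rw [← inv_eq_of_mul_eq_one_right (hY _ (mul_mem a b)), mul_inv_rev, inv_eq_of_mul_eq_one_right (hY _ a),
      inv_eq_of_mul_eq_one_right (hY _ b)]
  have d : cm k (l' * k') = 1 := CO.cm_eq_one.2 (by
    rw [← mul_assoc, ← mem_cen.1 hk l' hl', mul_assoc, c, mul_assoc])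
  rw [CO.cm_mul_left, d, mul_one, mul_inv_cancel, one_mul]
  exact CO.cm_mem_left hl (m.le hy)

omit [Finite G] in
theorem sq_le_L (h : Hy L) (m : Mx L S) (u : Ut L S) (hD : OutD L) (hY : ∀ y ∈ S ⊓ cen L, y * y = 1) :
    Sq ⁅S, S⁆ ≤ L := Sq_le fun x hx => by
  have a := commutator_le_of_le le_rfl le_rfl hx
  obtain ⟨l, hl, k, hk, rfl⟩ := mem_LK.1 (hD.mem (commutator_mono m.le m.le hx) (CO.tw_of_mem m.pg a))
  rw [mul_assoc, ← mul_assoc k, ← mem_cen.1 hk l hl, mul_assoc, hY k ⟨(h.dec_ut m.pg m.le u hl hk a).2, hk⟩,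
    mul_one]
  exact mul_mem hl hl

/-- A subgroup of `L` normalised by `N(S)` contains no central `KI` involution. -/
theorem Mx.not_ki (h : Hy L) (m : Mx L S) (hz : L ⊓ cen L = ⊥) {C : Subgroup G} (h1 : nor S ≤ nor C)
    (h2 : C ≤ L) {d : G} (d1 : d ∈ C) (d2 : Ce S d) : ¬ KI L d := fun k =>
  let ⟨_, a, b⟩ := h.kap_of_ki d2 k
  k.1.1 (mem_bot.1 (a.1.zc hz ▸ mem_inf.2 ⟨m.le_all h h1 h2 a d1, b⟩))

omit [Finite G] in
theorem nor_comm (S : Subgroup G) : nor S ≤ nor ⁅S, S⁆ := le_normalizer_commutator le_rfl le_rfl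

omit [Finite G] in
theorem comm_ne_bot {U : Subgroup G} (h1 : U ≤ L) (h : ¬ IsMulCommutative (U.subgroupOf L)) : ⁅U, U⁆ ≠ ⊥ :=
  fun k => h (le_centralizer_iff_isMulCommutative.1 (by
    rw [← cen, cen_sub h1]; exact fun x hx => cen_of_comm k hx))

/-- the first branch of `UF` read in the group -/
def B1 (L S : Subgroup G) : Prop :=
  (∀ x ∈ L, ∀ y ∈ L, Ce S x → Ce S y → x ≠ 1 → y ≠ 1 → x = y) ∧ ⁅S ⊓ L, S ⊓ L⁆ ≠ ⊥ ∧
    ∀ P ≤ S, P ≤ cen (S ⊓ L) → ⁅P, P⁆ ≤ cen L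

omit [Finite G] in
theorem B1.cj (h : B1 L S) {g : G} (hg : g ∈ nor S) : B1 (H98.cj g L) S := by
  have e : S ⊓ H98.cj g L = H98.cj g (S ⊓ L) := by rw [cj_inf, cj_eq_self hg]
  refine ⟨fun x a y b c d i j => ?_, by rw [e, ← cj_commutator]; exact mt cj_eq_bot_iff.1 h.2.1,
    fun P a b => ?_⟩
  · simpa using h.1 _ (H98.mem_cj.1 a) _ (H98.mem_cj.1 b) (by simpa using c.cj (inv_mem hg))
      (by simpa using d.cj (inv_mem hg)) (by simpa using ((c.toInv i).cj g⁻¹).1)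
      (by simpa using ((d.toInv j).cj g⁻¹).1)
  · rw [e, cen_cj, le_cj_iff] at b
    rw [cen_cj, le_cj_iff, cj_commutator]
    exact h.2.2 _ (cj_le_of_le a (inv_mem hg)) b

theorem B1.pair (m : Mx L S) (hI : Kap L S I) (hJ : Kap L S J) (bI : B1 I S) (bJ : B1 J S) {x y : G}
    (x1 : x ∈ I) (x2 : Ce S x) (x3 : x ≠ 1) (y1 : y ∈ J) (y2 : Ce S y) (y3 : y ≠ 1) (h : x ≠ y) : y ∈ cen I := by
  have a := (cen_of_ce m.pg inf_le_left hJ.nor_U inf_le_left hI.nor_U fun d p q r => by_contra fun s =>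
    h ((bI.1 x x1 d q.2 x2 r x3 s).trans (bJ.1 d p.2 y y1 r y2 s y3))).2
  obtain ⟨d, p, q, r⟩ := exists_ce m.pg (commutator_le_of_le inf_le_left inf_le_left)
    (le_normalizer_commutator hJ.nor_U hJ.nor_U) bJ.2.1
  exact bJ.1 d (commutator_le_of_le inf_le_right inf_le_right p) y y1 r y2 q y3 ▸ bI.2.2 _ inf_le_left a p

theorem Ut.exists_w (u : Ut L S) (h : Hy L) (m : Mx L S) : ∃ w ∈ L, w ≠ 1 ∧ Ce S w :=
  let ⟨w, p, q⟩ := exists_ce m.pg inf_le_left m.one.nor_U (mt u.eq_bot_iff.1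
    (not_not.2 (H3.KF.two_dvd_of_quasi h.qs)))
  ⟨w, p.2, q⟩

/-- `U1` for `W = Ω_1(Z(S)) ∩ L` and `D = W^#`. -/
theorem u1_sharp (h : Hy L) (m : Mx L S) (hz : L ⊓ cen L = ⊥) (u : Ut L S) (hE : ∀ e, Ce S e → e ∈ L ⊔ cen L)
    (hc : ∀ x ∈ L, ∀ y ∈ L, Ce S x → Ce S y → x ≠ 1 → y ≠ 1 → ∃ g ∈ L, g * x * g⁻¹ = y) :
    (∀ k, Ce S k → k ∈ cen L → ∀ d ∈ L, Ce S d → d ≠ 1 → KI L (k * d)) ∧
      ∃ J, J ≠ L ∧ Kap L S J ∧ Om S ⊓ L ⊓ cen J = ⊥ := by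
  obtain ⟨w, a, b, c⟩ := u.exists_w h m
  obtain ⟨p, q⟩ := jobU1 G L S h m (Om S ⊓ L) {x | x ∈ Om S ⊓ L ∧ x ≠ 1} inf_le_right (fun _ k => k.1) (W_bot hz)
    (W_dec h m hz u hE) (fun _ k => k) (fun J i j k l x n o p q => ⟨n, proj_ne h j.1 i l o.2.2 p q⟩)
    (fun d i d' j => hc d i.1.2 d' j.1.2 i.1.1 j.1.1 i.2 j.2)
    (odd_sharp ((Om_pg m.pg).to_le inf_le_left) fun k => b (mem_bot.1 (k ▸ mem_inf.2 ⟨c, a⟩)))
  exact ⟨fun k i j d l n o => p k i j d ⟨⟨n, l⟩, o⟩, q⟩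

omit [Finite G] in
theorem conj_sub {x y : G} {hx : x ∈ L} {hy : y ∈ L} (h : IsConj (⟨x, hx⟩ : L) ⟨y, hy⟩) :
    ∃ g ∈ L, g * x * g⁻¹ = y :=
  let ⟨g, e⟩ := isConj_iff.1 h
  ⟨g, g.2, congrArg Subtype.val e⟩

theorem jobU : JobU.{u} := fun G _ _ L S h m hz hD hU u hE => by
  obtain ⟨n, hU⟩ := hU _ ((syl_sub_top inf_le_right).2 u)
  have n' := comm_ne_bot inf_le_right n
  rcases hU with ⟨a, b⟩ | ⟨a, b, c⟩
  · have b0 : B1 L S := ⟨fun x i y j k l p q => congrArg Subtype.val (a ⟨x, i⟩ ⟨k.1, i⟩ ⟨y, j⟩ ⟨l.1, j⟩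
      (mem_cen_sub i (ce_cen k L)) (mem_cen_sub j (ce_cen l L)) (inv_sub.2 (k.toInv p)) (inv_sub.2 (l.toInv q))),
      n', fun P i j => CO.comm_le_of_cm fun x hx y hy => by
        have := (b (im (bt L) P) (im_pg _ (m.pg.to_le i)) fun _ k => by
          obtain ⟨x, p, q, rfl⟩ := mem_im.1 k
          exact le_fix_bt p (j q)).is_comm.comm ⟨_, mem_im.2 ⟨x, m.le (i hx), hx, rfl⟩⟩
            ⟨_, mem_im.2 ⟨y, m.le (i hy), hy, rfl⟩⟩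
        have k := CO.cm_eq_one.2 (congrArg Subtype.val this)
        simp only [cm, ← map_mul, ← map_inv] at k
        exact bt_eq_one.1 k⟩
    have b1 : ∀ I, Kap L S I → B1 I S := fun I hI => by
      obtain ⟨g, hg, rfl⟩ := m.trans h m.one hI; exact b0.cj hg
    obtain ⟨p, J, j1, j2, j3⟩ := u1_sharp h m hz u hE fun x i y j k l p q =>
      ⟨1, one_mem _, by simpa using b0.1 x i y j k l p q⟩
    obtain ⟨w, w1, w2, w3⟩ := u.exists_w h m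
    obtain ⟨I, i1, i2⟩ := h.kap_of_ki w3 (by simpa using p 1 (Ce.one S) (one_mem _) w w1 w3 w2)
    obtain ⟨x, x1, x2, x3⟩ := (u.to h m i1).exists_w (h.to i1.1) (m.to i1)
    obtain ⟨y, y1, y2, y3⟩ := (u.to h m j2).exists_w (h.to j2.1) (m.to j2)
    have e1 : y = w := by_contra fun k => w2 (mem_bot.1 (j3 ▸ mem_inf.2 ⟨⟨w3, w1⟩,
      B1.pair m j2 m.one (b1 J j2) b0 y1 y3 y2 w1 w3 w2 k⟩))
    have e2 : w ≠ x := fun k => x2 (mem_bot.1 (i1.1.zc hz ▸ mem_inf.2 ⟨x1, k ▸ i2⟩))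
    exact j1 (h.uniq j2.1 (Cj.refl L) (x3.toInv x2)
      (B1.pair m j2 i1 (b1 J j2) (b1 I i1) y1 y3 y2 x1 x3 x2 (e1 ▸ e2))
      (B1.pair m m.one i1 b0 (b1 I i1) w1 w3 w2 x1 x3 x2 e2))
  · obtain ⟨p, J, j1, j2, j3⟩ := u1_sharp h m hz u hE fun x i y j k l p q => conj_sub (a ⟨x, i⟩ ⟨k.1, i⟩ ⟨y, j⟩
      ⟨l.1, j⟩ (mem_cen_sub i (ce_cen k L)) (mem_cen_sub j (ce_cen l L)) (inv_sub.2 (k.toInv p))
        (inv_sub.2 (l.toInv q)))
    have hY := Y_elem h m u b j2 j1 j3 m.one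
    have fin : ∀ C ≤ S, nor S ≤ nor C → C ≤ L → C = ⊥ := fun C i j k =>
      eq_bot_of_ce m.pg i (le_normalizer.trans j) fun d l n => by_contra fun o =>
        m.not_ki h hz j k l n (by simpa using p 1 (Ce.one S) (one_mem _) d (k l) n o)
    have s1 : ⁅S, S⁆ ≤ S := commutator_le_of_le le_rfl le_rfl
    by_cases k : S ≤ L ⊔ cen L
    · exact n' (le_bot_iff.1 ((commutator_mono inf_le_left inf_le_left).trans
        (fin _ s1 (nor_comm S) (comm_le_L h m u hY k)).le))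
    · obtain ⟨x, x1, x2⟩ := c (im (bt L) S) (im_pg _ m.pg) mapconj_le_im (mt (im_le_inn m.le).1 k)
      rw [im_comm _ m.le m.le] at x1
      obtain ⟨x, i, j, rfl⟩ := mem_im.1 x1
      have := fin _ (Sq_le fun x hx => mul_mem (s1 hx) (s1 hx)) ((nor_comm S).trans (nor_Sq _))
        (sq_le_L h m u hD hY)
      have k2 : x * x = 1 := mem_bot.1 (this ▸ subset_closure ⟨x, j, rfl⟩)
      exact x2 (by rw [← map_mul, ← map_one (bt L)]; exact congrArg _ (Subtype.ext k2))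

end H36.QF
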