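import Cfsg.Agent.H36.QFKit2

/-! Tower QF: the parity count in `Ω_1(Z(S))`. -/

set_option autoImplicit false

namespace H36.QF

open Cfsg Subgroup H14 H98 H97 H36.QE
open H14.CO (cen cen1 nor cm Tw mem_cen mem_cen1)

universe u

/-- A set with fibres of odd size has the parity of the base. -/
theorem even_fib {α β : Type*} {B : Set α} {I : Set β} (hB : B.Finite) (hI : I.Finite) (R : α → β → Prop)
    (h1 : ∀ x ∈ B, ∃ i ∈ I, R x i) (h2 : ∀ x ∈ B, ∀ i ∈ I, ∀ j ∈ I, R x i → R x j → i = j)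
    (h3 : ∀ i ∈ I, Odd {x | x ∈ B ∧ R x i}.ncard) : Even B.ncard ↔ Even I.ncard := by
  induction I, hI using Set.Finite.induction_on generalizing B with
  | empty =>
    rw [show B = ∅ from Set.eq_empty_of_forall_notMem fun x hx => by simpa using h1 x hx]
    simp
  | @insert i I hi hI ih =>
    have k := ih (B := B \ {x | x ∈ B ∧ R x i}) (hB.subset Set.sdiff_subset) (fun x hx => by
        obtain ⟨j, hj | hj, a⟩ := h1 x hx.1
        · exact absurd ⟨hx.1, hj ▸ a⟩ hx.2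
        · exact ⟨j, hj, a⟩)
      (fun x hx a ha b hb => h2 x hx.1 a (Or.inr ha) b (Or.inr hb)) fun j hj => by
        convert h3 j (Or.inr hj) using 2
        ext x
        exact ⟨fun a => ⟨a.1.1, a.2⟩, fun a => ⟨⟨a.1, fun b =>
          hi (h2 x a.1 j (Or.inr hj) i (Or.inl rfl) a.2 b.2 ▸ hj)⟩, a.2⟩⟩
    rw [Set.ncard_insert_of_notMem hi hI, Nat.even_add_one, ← k,
      ← Set.ncard_sdiff_add_ncard_of_subset (s := {x | x ∈ B ∧ R x i}) (fun _ a => a.1) hB, Nat.even_add,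
      ← Nat.not_odd_iff_even (n := {x | x ∈ B ∧ R x i}.ncard)]
    simp [h3 i (Or.inl rfl)]

/-- A fixed point free involution on a finite set. -/
theorem even_of_invol {α : Type*} {B : Set α} (f : α → α) (h1 : ∀ x ∈ B, f x ∈ B) (h2 : ∀ x ∈ B, f (f x) = x)
    (h3 : ∀ x ∈ B, f x ≠ x) : Even B.ncard := by
  by_cases hB : B.Finite
  · have := Finset.sum_involution (s := hB.toFinset) (f := fun _ => (1 : ZMod 2)) (fun x _ => f x)
      (fun _ _ => by decide) (fun x hx _ => h3 x (hB.mem_toFinset.1 hx))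
      (fun x hx => hB.mem_toFinset.2 (h1 x (hB.mem_toFinset.1 hx))) fun x hx => h2 x (hB.mem_toFinset.1 hx)
    rw [Finset.sum_const, nsmul_eq_mul, mul_one] at this
    rw [Set.ncard_eq_toFinset_card B hB]
    exact (ZMod.natCast_eq_zero_iff_even).1 this
  · rw [Set.Infinite.ncard hB]; decide

variable {G : Type u} [Group G] [Finite G] {L S I J : Subgroup G}

/-- A non-trivial `2`-group has an odd number of non-identity elements. -/
theorem odd_sharp {X : Subgroup G} (hX : IsPGroup 2 X) (h : X ≠ ⊥) : Odd {x | x ∈ X ∧ x ≠ 1}.ncard := by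
  obtain ⟨n, hn⟩ := IsPGroup.iff_card.1 hX
  have h1 : Even (Nat.card X) := by
    rcases n with _ | n
    · exact absurd (card_eq_one.1 hn) h
    · rw [hn]; exact even_iff_two_dvd.2 (dvd_pow_self 2 n.succ_ne_zero)
  rw [← SetLike.coe_sort_coe, Nat.card_coe_set_eq,
    ← Set.ncard_sdiff_singleton_add_one (s := (X : Set G)) X.one_mem, Nat.even_add_one,
    Nat.not_even_iff_odd] at h1
  exact h1

omit [Finite G] in
theorem Om_pg (hS : IsPGroup 2 S) : IsPGroup 2 (Om S) := hS.to_le fun _ h => h.1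

theorem Kap.Z_ne (h : Kap L S J) (hS : IsPGroup 2 S) : Om S ⊓ cen J ≠ ⊥ := fun k =>
  let ⟨_, a, b, c⟩ := h.exists_ce hS
  b (mem_bot.1 (k ▸ mem_inf.2 ⟨c, a⟩))

/-- A set of central `KI` involutions outside `C(L)` that meets every other centraliser in the
non-identity elements of a non-trivial subgroup is even. -/
theorem Mx.even_ki (h : Hy L) (m : Mx L S) {X : Subgroup G} (hX : X ≤ Om S)
    (h1 : ∀ J, J ≠ L → Kap L S J → X ⊓ cen J ≠ ⊥) : Even {x | x ∈ X ∧ x ∉ cen L ∧ KI L x}.ncard := by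
  refine (even_fib (Set.toFinite _) (Set.toFinite _) (fun x J => x ∈ cen J) (fun x hx => ?_)
    (fun x hx i hi j hj => h.uniq hi.2.1 hj.2.1 hx.2.2.1) fun J hJ => ?_).2 (m.even h m.one)
  · obtain ⟨J, a, b⟩ := h.kap_of_ki (hX hx.1) hx.2.2
    exact ⟨J, ⟨fun e => hx.2.1 (e ▸ b), a⟩, b⟩
  · convert odd_sharp ((Om_pg m.pg).to_le (inf_le_left.trans hX)) (h1 J hJ.1 hJ.2) using 2
    ext x
    exact ⟨fun a => ⟨⟨a.1.1, a.2⟩, a.1.2.2.1.1⟩, fun a => ⟨⟨a.1.1, fun b => hJ.1 (h.uniq hJ.2.1 (Cj.refl L)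
      (Ce.toInv (hX a.1.1) a.2) a.1.2 b), Ce.toInv (hX a.1.1) a.2, J, hJ.2.1, a.1.2⟩, a.1.2⟩⟩

/-- If `C(J)` meets `W` trivially then every non-identity `k` occurs as a first coordinate. -/
theorem Mx.onto (h : Hy L) (m : Mx L S) {W : Subgroup G} (w1 : ∀ x ∈ W, Ce S x)
    (w3 : ∀ e, Ce S e → ∃ k ∈ cen L, ∃ x ∈ W, e = k * x) (hJ : Kap L S J) (w4 : W ⊓ cen J = ⊥)
    {k : G} (k1 : Ce S k) (k2 : k ∈ cen L) : ∃ x ∈ W, k * x ∈ cen J := by
  choose! a ha b hb hab using w3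
  have c : ∀ e, Ce S e → Ce S (a e) := fun e he => by
    have := Ce.mul (hab e he ▸ he : Ce S (a e * b e)) (w1 _ (hb e he))
    rwa [mul_assoc, (w1 _ (hb e he)).2.2, mul_one] at this
  let f : (Om S ⊓ cen J : Subgroup G) → (Om S ⊓ cen L : Subgroup G) := fun e => ⟨a e, c e e.2.1, ha e e.2.1⟩
  have hf : Function.Injective f := fun e e' k => by
    have k1 : a e = a e' := congrArg Subtype.val k
    have k2 : (e : G)⁻¹ * e' ∈ W ⊓ cen J := ⟨by
      rw [hab e e.2.1, hab e' e'.2.1, k1]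
      simpa [mul_assoc] using mul_mem (inv_mem (hb e e.2.1)) (hb e' e'.2.1), (e⁻¹ * e').2.2⟩
    rw [w4, mem_bot, inv_mul_eq_one] at k2
    exact Subtype.ext k2
  obtain ⟨e, he⟩ := ((Nat.bijective_iff_injective_and_card f).2 ⟨hf, (m.card_inf h hJ nor_Om).1⟩).2 ⟨k, k1, k2⟩
  have he' : a e = k := congrArg Subtype.val he
  exact ⟨b e, hb e e.2.1, by rw [← he', ← hab e e.2.1]; exact e.2.2⟩

theorem jobU1 : JobU1.{u} := fun G _ _ L S h m W D w0 w1 w2 w3 d1 d2 d3 d4 => by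
  have nk : ∀ k ∈ cen L, ∀ d ∈ D, k * d ∉ cen L := fun k hk d hd e =>
    (d1 d hd).2 (mem_bot.1 (w2 ▸ mem_inf.2 ⟨(d1 d hd).1, by simpa using mul_mem (inv_mem hk) e⟩))
  have sp : ∀ k ∈ cen L, ∀ d ∈ D, ∀ d' ∈ D, KI L (k * d) → KI L (k * d') := fun k hk d hd d' hd' e => by
    obtain ⟨x, hx, rfl⟩ := d3 d hd d' hd'
    have := e.conj x
    rwa [← conj_mul, CO.cj_eq_of_comm (mem_cen.1 hk x hx)] at this
  have md : ∀ k ∈ cen L, ∀ x ∈ W, Ce S (k * x) → k * x ∉ cen L → KI L (k * x) → x ∈ D := fun k hk x hx a b c => by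
    obtain ⟨J, e, f⟩ := h.kap_of_ki a c
    exact d2 J (fun i => b (i ▸ f)) e k hk x hx a f c.1.1
  have ex : ∃ J, J ≠ L ∧ Kap L S J ∧ W ⊓ cen J = ⊥ := by
    by_contra k
    push Not at k
    have k1 := m.even_ki h (X := W) w1 k
    obtain ⟨J, a, b⟩ := m.exists_ne
    obtain ⟨⟨x, c⟩, e⟩ := ne_bot_iff_exists_ne_one.1 (k J a b)
    have e' : x ≠ 1 := fun i => e (Subtype.ext i)
    have x1 : x ∈ D := d2 J a b 1 (one_mem _) x c.1 (by simpa using w1 x c.1) (by simpa using c.2) (by simpa)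
    rw [show {x | x ∈ W ∧ x ∉ cen L ∧ KI L x} = D from Set.ext fun y => ⟨fun i => md 1 (one_mem _) y i.1
      (by simpa using w1 y i.1) (by simpa using i.2.1) (by simpa using i.2.2), fun i => ⟨(d1 y i).1,
        by simpa using nk 1 (one_mem _) y i, by
          simpa using sp 1 (one_mem _) x x1 y i (by simpa using KI.of_cen b.1 ((w1 x c.1).toInv e') c.2)⟩⟩] at k1
    exact Nat.not_even_iff_odd.2 d4 k1
  refine ⟨?_, ex⟩
  obtain ⟨J, j1, j2, j3⟩ := ex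
  have s1 : ∀ k, Ce S k → k ∈ cen L → k ≠ 1 → ∀ d ∈ D, KI L (k * d) := fun k a b c d hd => by
    obtain ⟨x, e, f⟩ := m.onto h w1 w3 j2 j3 a b
    have i : k * x ≠ 1 := fun i => c (mem_bot.1 (w2 ▸ mem_inf.2 ⟨eq_inv_of_mul_eq_one_left i ▸ inv_mem e, b⟩))
    exact sp k b x (d2 J j1 j2 k b x e (a.mul (w1 x e)) f i) d hd (KI.of_cen j2.1 ((a.mul (w1 x e)).toInv i) f)
  intro k a b d hd
  by_cases c : k = 1
  swap
  · exact s1 k a b c d hd
  by_contra kn
  refine Nat.not_even_iff_odd.2 (odd_sharp ((Om_pg m.pg).to_le inf_le_left) (m.one.Z_ne m.pg))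
    ((even_fib (Set.toFinite _) (Set.toFinite _) (fun y k => k⁻¹ * y ∈ W) (fun y hy => ?_)
      (fun y _ i hi j hj p q => ?_) fun i hi => ?_).1 (m.even_ki h le_rfl fun J _ b => b.Z_ne m.pg))
  · obtain ⟨i, hi, x, hx, rfl⟩ := w3 y hy.1
    refine ⟨i, ⟨⟨?_, hi⟩, fun e => kn ?_⟩, by simpa using hx⟩
    · exact mem_Om.2 (by simpa [mul_assoc, (w1 x hx).2.2] using Ce.mul hy.1 (w1 x hx))
    · rw [c, ← e]
      exact sp i hi x (md i hi x hx hy.1 hy.2.1 hy.2.2) d hd hy.2.2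
  · have : i⁻¹ * j ∈ W ⊓ cen L := mem_inf.2 ⟨by simpa [mul_assoc] using mul_mem p (inv_mem q),
      mul_mem (inv_mem (mem_inf.1 hi.1).2) (mem_inf.1 hj.1).2⟩
    rwa [w2, mem_bot, inv_mul_eq_one] at this
  · convert d4 using 1
    rw [← Set.ncard_image_of_injective D (mul_right_injective i)]
    congr 1
    ext y
    refine ⟨fun p => ⟨i⁻¹ * y, md i hi.1.2 _ p.2 ?_ ?_ ?_, by simp⟩, ?_⟩
    · simpa using mem_Om.1 p.1.1
    · simpa using p.1.2.1
    · simpa using p.1.2.2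
    · rintro ⟨x, hx, rfl⟩
      exact ⟨⟨Ce.mul hi.1.1 (w1 x (d1 x hx).1), nk i hi.1.2 x hx, s1 i hi.1.1 hi.1.2 hi.2 x hx⟩,
        by simpa using (d1 x hx).1⟩

end H36.QF
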