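import Cfsg.Agent.H36.QFOut
import Cfsg.Agent.H36.QFKit3

/-! Tower QF: the job `XO`. -/

set_option autoImplicit false

namespace H36.QF

open Cfsg Subgroup H14 H98 H97 H36.QE
open H14.CO (cen cen1 nor cm Tw mem_cen mem_cen1)

universe u

variable {G : Type u} [Group G] [Finite G] {L S I J : Subgroup G} {y z : G}

omit [Finite G] in
theorem mem_zp2 {x : G} (h : z * z = 1) (hx : x ∈ zpowers z) : x = 1 ∨ x = z := by
  obtain ⟨k, rfl⟩ := mem_zpowers_iff.1 hx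
  have h2 : z ^ (2 : ℤ) = 1 := by rw [zpow_two, h]
  rcases Int.even_or_odd' k with ⟨n, rfl | rfl⟩
  · left; rw [zpow_mul, h2, one_zpow]
  · right; rw [zpow_add, zpow_mul, h2, one_zpow, one_mul, zpow_one]

omit [Finite G] in
theorem card_zp2 (h : CO.Inv z) : Nat.card (zpowers z) = 2 := by rw [Nat.card_zpowers, h.orderOf]

theorem eq_of_card_two {X : Subgroup G} (h : Nat.card X ≤ 2) (h1 : z ∈ X) (h2 : CO.Inv z) {x : G} (hx : x ∈ X) :
    x = 1 ∨ x = z :=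
  mem_zp2 h2.2 ((CO.eq_of_le_of_card_le (zpowers_le.2 h1) (by rwa [card_zp2 h2])).ge hx)

theorem card_le_two {X : Subgroup G} (h2 : CO.Inv z) (h : ∀ x ∈ X, x = 1 ∨ x = z) : Nat.card X ≤ 2 :=
  card_zp2 h2 ▸ card_le_of_le fun x hx => (h x hx).elim (· ▸ one_mem _) (· ▸ mem_zpowers _)

omit [Finite G] in
theorem conj_inj (hz : L ⊓ cen L = ⊥) : Function.Injective (MulAut.conj : L →* MulAut L) :=
  (injective_iff_map_eq_one _).2 fun x hx => Subtype.ext (mem_bot.1 (hz ▸ mem_inf.2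
    ⟨x.2, bt_eq_one.1 ((bt_mem x).trans hx)⟩))

omit [Finite G] in
theorem syl_map {U : Subgroup L} (h : IsSyl 2 U ⊤) : IsSyl 2 (U.map L.subtype) L := by
  have := h.map_of_injective L.subtype_injective
  rwa [← MonoidHom.range_eq_map, range_subtype] at this

omit [Finite G] in
theorem map_le_cen1 {U : Subgroup L} {a : nor L} (h : U ≤ Fix (bt L a)) : U.map L.subtype ≤ cen1 (a : G) := by
  rintro _ ⟨x, hx, rfl⟩; exact bt_fix.1 (h hx)

omit [Finite G] in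
theorem im_le_cen1 {A : Type*} [Group A] (ρ : nor L →* A) (hy : y ∈ nor L) {P : Subgroup G} (h : P ≤ cen1 y) :
    im ρ P ≤ cen1 (ρ ⟨y, hy⟩) := fun _ k => by
  obtain ⟨x, a, b, rfl⟩ := mem_im.1 k
  rw [mem_cen1, ← map_mul, ← map_mul]
  exact congrArg ρ (Subtype.ext (mem_cen1.1 (h b)))

omit [Finite G] in
theorem inn_mul {a b : G} (ha : a ∈ nor L) (hb : b ∈ nor L) :
    bt L ⟨a, ha⟩ * bt L ⟨b, hb⟩ ∈ Inn L ↔ a * b ∈ L ⊔ cen L := by
  rw [← map_mul, bt_inn]; rfl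

omit [Finite G] in
theorem cm_inn (h : ∀ a : MulAut L, a * a ∈ Inn L) {a b : G} (ha : a ∈ nor L) (hb : b ∈ nor L) :
    cm a b ∈ L ⊔ cen L := by
  have := mul_mem (mul_mem ((inn_mul ha ha).1 (h _)) ((inn_mul (mul_mem (inv_mem ha) hb)
    (mul_mem (inv_mem ha) hb)).1 (h _))) ((inn_mul (inv_mem hb) (inv_mem hb)).1 (h _))
  simpa [cm, mul_assoc] using this

/-- A `Tk` group of full order that contains a Sylow subgroup of `L`. -/
theorem ut_of_le {V : Subgroup G} (hV : IsSyl 2 V L) (hS : IsPGroup 2 S) (h : V ≤ S) : Ut L S :=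
  hV.of_card_ge (hS.to_le inf_le_left) inf_le_right (card_le_of_le (le_inf h hV.le))

theorem jobXO : JobXO.{u} := fun G _ _ L S h m hz hX hU hA => by
  have so : ∀ J, J ≠ L → Cj L J → ∀ y (c : Ce S y), y ≠ 1 → y ∈ cen J → y ∉ L ⊔ cen L →
      So (bt L ⟨y, m.le c.1⟩) := fun J a b y c d e f =>
    ⟨bt_ou (c.sq_mem _) f, fun U p q => hU S m (m.ut_of h m.one b a.symm c d e (syl_map p) (map_le_cen1 q))⟩
  obtain ⟨J, y, a, b, c, d, e, f⟩ := not_allIn (hA S m)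
  have ya := so J a b.1 y c d e f
  have bd : ∀ w ∈ L, CO.Inv w → ∃ Q ≤ L ⊓ cen1 w, IsPGroup 2 Q ∧ Nat.card (im (bt L) S) ≤ Nat.card Q :=
    fun w p q => by
      obtain ⟨Q, i, j, k⟩ := hX.bd _ ya _ (im_pg _ m.pg) (im_le_cen1 _ _ c.le) ⟨w, p⟩ (inv_sub.2 q)
      refine ⟨Q.map L.subtype, ?_, j.map _, by rwa [card_map_of_injective L.subtype_injective]⟩
      rintro _ ⟨x, hx, rfl⟩
      exact ⟨x.2, (cen1_sub _).le (i hx)⟩
  have y0 : ∀ x ∈ S ⊓ cen J, x ∈ L ⊔ cen L → x = 1 := fun x p q => mem_bot.1 ((eq_bot_of_ce m.pg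
      (D := S ⊓ cen J ⊓ (L ⊔ cen L)) (inf_le_left.trans inf_le_left)
      (le_normalizer_inf b.nor_Y (m.le.trans nor_LK)) fun x p q => by_contra fun r => by
    obtain ⟨w, hw, k, hk, rfl⟩ := mem_LK.1 p.2
    obtain ⟨i, -, j, l⟩ := m.dec_ce h hz m.one b.1 a.symm hw hk q r p.1.2
    obtain ⟨Q, s, t, v⟩ := bd w hw (i.toInv j)
    have n := two_card_le (mapconj_le_im (J := L) (P := S)) fun n =>
      ya.1.2 (map_le_range _ _ (n (mem_im.2 ⟨y, _, c.1, rfl⟩)))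
    rw [card_map_of_injective (conj_inj hz), card_sub inf_le_right] at n
    have := l.card_le t s
    have := Nat.card_pos (α := (S ⊓ L : Subgroup G))
    omega).le ⟨p, q⟩)
  have y2 : Nat.card (S ⊓ cen L : Subgroup G) ≤ 2 := (m.card_inf h b le_rfl).1 ▸ card_le_two (c.toInv d)
    fun x p => or_iff_not_imp_left.2 fun r => by
      have i : Ce S x := ⟨p.1, mem_cen.2 fun s hs => CO.cm_eq_one.1 (y0 _ (CO.cm_mem_right (b.nor_Y hs) p)
        (cm_inn hX.sq (m.le hs) (m.le p.1))), y0 _ (mul_mem p p) ((inn_mul (m.le p.1) (m.le p.1)).1 (hX.sq _))⟩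
      have := y0 _ (mul_mem p ⟨c.1, e⟩) ((inn_mul _ _).1 (hX.co _ _ (so J a b.1 x i r p.2 (mt (y0 x p) r)) ya))
      rw [eq_inv_of_mul_eq_one_left this, c.inv]
  have cs : Nat.card S ≤ 2 * Nat.card (im (bt L) S) := by
    rw [card_im (ρ := bt L) (fun _ => bt_eq_one) m.le, mul_comm]
    exact Nat.mul_le_mul_right _ y2
  have two : ∀ D ≤ L, ∀ z ∈ cen L, CO.Inv z → 2 * Nat.card D ≤ Nat.card (D ⊔ zpowers z : Subgroup G) :=
    fun D i z j k => two_card_le le_sup_left fun l => k.1 (mem_bot.1 (hz ▸ mem_inf.2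
      ⟨i (l (mem_sup_right (mem_zpowers z))), j⟩))
  have hN : NoIn L := fun x ⟨p, X, q, r⟩ s => by_contra fun t => by
    obtain ⟨w, hw, k, hk, rfl⟩ := mem_LK.1 s
    obtain ⟨Q, i, j, l⟩ := bd w hw ⟨fun e => t (by simpa [e] using hk), (dec_sq hz hw hk p.2).1⟩
    obtain ⟨S', s1, -, -, s2, s3, -, z, z1, z2, z3, -⟩ := h.exists_tk q p r (LK_le s) t j
      (i.trans (inf_le_left.trans le_normalizer)) (i.trans ((inf_cen1_dec hk).ge.trans inf_le_right))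
    have n := two Q (i.trans inf_le_left) z z2 z3
    have o : Q ⊔ zpowers z ≤ S' := sup_le s1 (zpowers_le.2 z1)
    have o1 := card_le_of_le o
    have o2 := m.max S' s2
    exact hA S' (m.of_card s2 s3 (by omega)) fun _ _ _ v hv _ => sup_le_sup (i.trans inf_le_left)
      (zpowers_le.2 z2) ((CO.eq_of_le_of_card_le o (by omega)).ge hv.1)
  have so' : ∀ x, KI L x → ∀ hx : x ∈ nor L, x ∉ cen L → So (bt L ⟨x, hx⟩) := fun x p hx t =>
    ⟨bt_ou (p.1.2 ▸ one_mem _ : x * x ∈ cen L) (mt (hN x p) t), fun U i j => by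
      obtain ⟨p, X, q, r⟩ := p
      have k := syl_map i
      obtain ⟨S', s1, -, -, s2, s3, -, z, z1, z2, z3, -⟩ := h.exists_tk q p r hx t k.isPGroup
        (k.le.trans le_normalizer) (map_le_cen1 j)
      obtain ⟨w, w1, w2⟩ := CO.exists_inv_mem k.isPGroup (mt k.eq_bot_iff.1
        (not_not.2 (H3.KF.two_dvd_of_quasi h.qs)))
      obtain ⟨Q, l, n, o⟩ := bd w (k.le w1) w2
      have o1 := k.card_le n (l.trans inf_le_left)
      have o2 := two _ k.le z z2 z3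
      have o3 := card_le_of_le (sup_le s1 (zpowers_le.2 z1))
      exact hU S' (m.of_card s2 s3 (by omega)) (ut_of_le k s2.1 s1)⟩
  have hC : Co L := fun p q p1 q1 p2 q2 p3 q3 => (inn_mul p2 q2).1 (hX.co _ _ (so' p p1 p2 p3) (so' q q1 q2 q3))
  have nl : ∀ v : L, CO.Inv v → (v : G) ∉ cen L := fun v i j =>
    (inv_sub.1 i).1 (mem_bot.1 (hz ▸ mem_inf.2 ⟨v.2, j⟩))
  have fg : ∀ x, KI L x → ∀ hx : x ∈ nor L, ¬ FG (bt L ⟨x, hx⟩) := by
    rintro x p hx ⟨v, v', v1, v2, v3, v4, v5, v6, v7, v8, v9⟩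
    obtain ⟨p1, X, q, r⟩ := id p
    have k : ∀ v : L, CO.Inv v → v * x ∉ cen X := fun v i j => hN.not_mem q (inv_sub.1 i).2
      (mem_sup_left v.2) (nl v i) (by simpa using mul_mem j (inv_mem r))
    have c1 := mem_cen1.1 (bt_fix.1 (mem_Fix.2 v5))
    have c2 := mem_cen1.1 (bt_fix.1 (mem_Fix.2 v6))
    refine h.rel3 hN hC q p1 r (p.tws (a := ⟨x, hx⟩) v7) (p.tws (a := ⟨x, hx⟩) v8) (p.tws (a := ⟨x, hx⟩) v9)
      (mul_mem (mem_cen1.2 c1) (mem_cen1.2 rfl)) (mul_mem (mem_cen1.2 c2) (mem_cen1.2 rfl)) (k v v1) (k v' v2)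
      (k _ (v1.mul v2 v3 v4)) (mem_sup_right ?_)
    change (v : G) * x * (v' * x) * (v * v' * x) ∈ _
    change (v' : G) * x = x * v' at c2
    rw [c2, show (v : G) * x * (x * v') * (v * v' * x) = v * (x * x) * v' * (v * v') * x by group, p1.2, mul_one,
      ← coe_mul, ← coe_mul, (v1.mul v2 v3 v4).2, coe_one, one_mul]
    exact r
  have yk : KI L y := ⟨c.toInv d, J, b.1, e⟩
  have yn : y ∉ cen L := fun k => f (mem_sup_right k)
  obtain ⟨⟨v, v1, v2, v3⟩, tr⟩ := (hX.tr _ ya).resolve_left (fg y yk _)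
  obtain ⟨z, z1, z2, z3⟩ := m.one.exists_ce m.pg
  have zi := z3.toInv z2
  have zy : z * y = y * z := c.comm z3.1
  have yz : ¬ KI L (y * z) := fun k => by
    obtain ⟨x, hx, i⟩ := bt_tws.1 v3
    refine h.rel4 hN hC yk yn v.2 (nl v v1) (inv_sub.1 v1).2 z1 zi (mem_cen1.1 (bt_fix.1 (mem_Fix.2 v2))) zy
      (yk.tws (a := ⟨y, _⟩) v3) k ?_
    have := k.conj x⁻¹
    rwa [inv_inv, ← mul_assoc, mul_assoc _ z, ← mem_cen.1 z1 x hx, ← mul_assoc, i] at this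
  obtain ⟨T, t1, t2, t3, t4, -⟩ := h.exists_syl m.pg m.le
  have nR : T ≤ nor (T ⊓ cen L) := le_normalizer_inf le_normalizer (le_normalizer_centralizer t1.le)
  have r2 : ∀ x ∈ T, x ∈ cen L → x = 1 ∨ x = z := fun x p q => eq_of_card_two y2 ⟨z3.1, z1⟩ zi ⟨by
    by_contra k
    obtain ⟨r, r1, r2, r3, r4⟩ := exists_step' m.pg (t1.isPGroup.to_le inf_le_left) (t3.trans nR)
      fun i => k (i ⟨p, q⟩)
    rcases eq_of_card_two y2 ⟨z3.1, z1⟩ zi (x := cm r y) ⟨CO.cm_mem_right r3 c.1,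
      CO.cm_mem_left r1.2 (m.one.nc c.1)⟩ with i | i
    · exact (m.step_ne h m.one b.1 a.symm c d e r2 r3 r4 (t1.le r1.1)).2 (CO.cj_eq_of_comm (CO.cm_eq_one.1 i))
    · exact yz (by rw [← zy, ← i]; simpa [cm] using yk.conj r), q⟩
  have dT : ∀ x ∈ T, x ∈ L ⊔ cen L → x ∈ L ∨ x * z ∈ L := fun x p q => by
    obtain ⟨l, hl, k, hk, rfl⟩ := mem_LK.1 q
    rcases r2 k (h.dec_ut t1.isPGroup t1.le t4 hl hk p).2 hk with i | i
    · left; simpa [i]
    · right; rwa [i, mul_assoc, zi.2, mul_one]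
  have ki : ∀ x ∈ T, KI L x → x = z ∨ x * y ∈ L := fun x p q => by
    by_cases k : x ∈ cen L
    · exact Or.inl ((r2 x p k).resolve_left q.1.1)
    refine Or.inr ((dT _ (mul_mem p (t3 c.1)) (hC x y q yk (t1.le p) (m.le c.1) k yn)).resolve_right fun i => yz ?_)
    obtain ⟨w, hw⟩ := (tr _ (so' x q (t1.le p) k)).resolve_left (fg x q _)
    rw [← bt_mem, ← map_inv, ← map_mul, ← map_mul, eq_comm, bt_eq_iff] at hw
    have j : ((w : G) * y * (w : G)⁻¹)⁻¹ * x * z ∈ L ⊓ cen L := mem_inf.2 ⟨by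
      have := conj_mem_of_mem_normalizer' (m.le c.1) (mul_mem (inv_mem (CO.cm_mem_left w.2 (m.le c.1))) i)
      rwa [show y⁻¹ * ((cm (w : G) y)⁻¹ * (x * y * z)) * y = ((w : G) * y * (w : G)⁻¹)⁻¹ * x * (y * (z * y)) by
        simp [cm, mul_assoc], ← mul_assoc y, ← zy, mul_assoc z, c.2.2, mul_one] at this, mul_mem hw z1⟩
    rw [hz, mem_bot, mul_eq_one_iff_eq_inv, inv_mul_eq_iff_eq_mul, zi.inv] at j
    have := q.conj (w : G)⁻¹
    rwa [j, inv_inv, mul_assoc _ _ (w : G), mul_assoc _ z, ← mem_cen.1 z1 w w.2,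
      show (w : G)⁻¹ * (w * y * (w : G)⁻¹ * (w * z)) = y * z by group] at this
  have n0 : T ≤ nor (T ⊓ L) := le_normalizer_inf le_normalizer t1.le
  have zT : ∀ t ∈ T, t * z * t⁻¹ = z := fun t ht => (r2 _ (mul_mem (mul_mem ht (t3 z3.1)) (inv_mem ht))
    (cj_mem_cen (t1.le ht) z1)).resolve_left (zi.cj t).1
  have sz : z ∈ stab T (T ⊓ L) := ⟨n0 (t3 z3.1), fun t ht => by
    rw [commutatorElement_def, zT t ht, mul_inv_cancel]; exact one_mem _⟩
  have sy : y ∈ stab T (T ⊓ L) := ⟨n0 (t3 c.1), fun t ht => ⟨CO.cm_mem ht (t3 c.1), by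
    rw [commutatorElement_def, c.inv]
    refine (ki _ (mul_mem (mul_mem ht (t3 c.1)) (inv_mem ht)) (yk.conj t)).resolve_left fun i => yn ?_
    simpa [← i, mul_assoc] using cj_mem_cen (inv_mem (t1.le ht)) z1⟩⟩
  have sl : ∀ x ∈ T, x ∈ L ⊔ cen L → x ∈ stab T (T ⊓ L) := fun x p q => by
    have k : ∀ x ∈ T, x ∈ L → x ∈ stab T (T ⊓ L) := fun x p q =>
      ⟨n0 p, fun t ht => CO.cm_mem_right (n0 ht) ⟨p, q⟩⟩
    rcases dT x p q with i | i
    · exact k x p i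
    · simpa using mul_mem (k _ (mul_mem p (t3 z3.1)) i) (inv_mem sz)
  have sa : ∀ x (p : x ∈ T), bt L ⟨x, t1.le p⟩ ∈ Inn L ∨ bt L ⟨x, t1.le p⟩ * bt L ⟨y, m.le c.1⟩ ∈ Inn L →
      x ∈ stab T (T ⊓ L) := fun x p i => i.elim (fun i => sl x p (bt_inn.1 i)) fun i => by
    simpa using mul_mem (sl _ (mul_mem p (t3 c.1)) ((inn_mul _ _).1 i)) (inv_mem sy)
  have ab : ⁅T, T⁆ ≤ T ⊓ L := CO.comm_le_of_cm fun p hp q hq => by
    have k : p ∈ stab T (T ⊓ L) ∨ q ∈ stab T (T ⊓ L) ∨ p * q ∈ stab T (T ⊓ L) := by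
      rcases hX.ix _ (bt L ⟨p, t1.le hp⟩) (bt L ⟨q, t1.le hq⟩) ya with i | i | i | i | i | i
      · exact Or.inl (sa p hp (Or.inl i))
      · exact Or.inl (sa p hp (Or.inr i))
      · exact Or.inr (Or.inl (sa q hq (Or.inl i)))
      · exact Or.inr (Or.inl (sa q hq (Or.inr i)))
      · exact Or.inr (Or.inr (sa _ (mul_mem hp hq) (Or.inl (by rwa [← map_mul] at i))))
      · exact Or.inr (Or.inr (sa _ (mul_mem hp hq) (Or.inr (by rwa [← map_mul] at i))))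
    rcases k with i | i | i
    · exact CO.cm_inv q p ▸ inv_mem (i.2 q hq)
    · exact i.2 p hp
    · simpa [commutatorElement_def, cm, mul_assoc] using conj_mem_of_mem_normalizer' (n0 hp) (i.2 p hp)
  have yz2 : y * z * (y * z) = 1 := (c.mul z3).2.2
  have yzT : y * z ∈ T := t3 (c.mul z3).1
  have := h.sim
  obtain ⟨l, l1, k, k1, i⟩ := (mem_sup_right_norm (zpowers_le.2 (n0 yzT))).1 (transfer_mem h.not_ab t2
    (T₁ := T ⊓ L ⊔ zpowers (y * z)) (ab.trans le_sup_left) (sup_le inf_le_left (zpowers_le.2 yzT)) (t3 z3.1) zi.2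
    fun g hg => by
      rcases ki _ hg ((KI.of_cen (Cj.refl L) zi z1).conj g) with i | i
      · rw [i, zi.2]; exact one_mem _
      · have := mul_mem (mem_sup_left ⟨mul_mem hg (t3 c.1), i⟩ : _ ∈ T ⊓ L ⊔ zpowers (y * z))
          (mem_sup_right (mem_zpowers _))
        rwa [mul_assoc, ← mul_assoc y, c.2.2, one_mul] at this)
  rcases mem_zp2 yz2 k1 with j | j
  · rw [j, mul_one] at i
    exact z2 (mem_bot.1 (hz ▸ mem_inf.2 ⟨i ▸ l1.2, z1⟩))
  · rw [j, ← mul_assoc, eq_comm, mul_eq_right, mul_eq_one_iff_eq_inv, c.inv] at i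
    exact f (mem_sup_left (i ▸ l1.2))

end H36.QF
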