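import Cfsg.Agent.H52.RCSpec
import Cfsg.Agent.H47.CA1

/-! Tower RC: the Sylow subgroup is dihedral modulo the centre. -/

set_option autoImplicit false

namespace H36.RCDH

open Subgroup H52.RC

universe u

theorem jobDH : JobDH.{u} := by
  intro _ _ dj dp G _ _ L _ Q a b c hD
  obtain ⟨-, p2, -, -, p4, -⟩ := dp G L Q a b c
  have dj' := dj G L Q a b c
  have QL : Q ≤ L := c.syl.1
  have b2 : b ^ 2 ∈ Zc L := c.hb.2.2.1
  have ba : b * a * b⁻¹ = a⁻¹ := c.ba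
  -- conjugation by `b` preserves the centraliser of `a`
  have cb : ∀ t : G, Commute t a → Commute (b * t * b⁻¹) a := by
    intro t ht
    have e : a = b * a⁻¹ * b⁻¹ := by
      have : b * a⁻¹ * b⁻¹ = (b * a * b⁻¹)⁻¹ := by group
      rw [this, ba, inv_inv]
    have h := (ht.inv_right).conj b
    rwa [← e] at h
  have bb : ∀ t ∈ L, b * (b * t * b⁻¹) * b⁻¹ = t := by
    intro t ht
    have := ((mem_Zc.1 b2).2 t ht).eq
    calc b * (b * t * b⁻¹) * b⁻¹ = (b ^ 2 * t) * (b ^ 2)⁻¹ := by rw [pow_two]; group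
      _ = t := by rw [← this]; group
  have key : ∀ t ∈ Q, Commute t a → b * t * b⁻¹ * t ∈ Zc L := by
    intro t tQ ta
    have sQ : b * t * b⁻¹ ∈ Q := Q.mul_mem (Q.mul_mem c.bQ tQ) (Q.inv_mem c.bQ)
    have jQ : t⁻¹ * (b * t * b⁻¹) ∈ Q := Q.mul_mem (Q.inv_mem tQ) sQ
    have ja : Commute (t⁻¹ * (b * t * b⁻¹)) a := ta.inv_left.mul_left (cb t ta)
    have jb : H52.RC.Inv b (t⁻¹ * (b * t * b⁻¹)) := by
      unfold H52.RC.Inv
      calc b * (t⁻¹ * (b * t * b⁻¹)) * b⁻¹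
          = (b * t * b⁻¹)⁻¹ * (b * (b * t * b⁻¹) * b⁻¹) := by group
        _ = (t⁻¹ * (b * t * b⁻¹))⁻¹ := by rw [bb t (QL tQ)]; group
    have tj := (dj' _ jQ ja jb t tQ ta).eq
    have ts : t * (b * t * b⁻¹) = b * t * b⁻¹ * t := by
      calc t * (b * t * b⁻¹) = t * (t * (t⁻¹ * (b * t * b⁻¹))) := by group
        _ = t * (t⁻¹ * (b * t * b⁻¹) * t) := by rw [tj]
        _ = b * t * b⁻¹ * t := by group
    refine hD _ (Q.mul_mem sQ tQ) ((cb t ta).mul_left ta) ?_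
    have : b * (b * t * b⁻¹ * t) * b⁻¹ = b * t * b⁻¹ * t := by
      calc b * (b * t * b⁻¹ * t) * b⁻¹ = (b * (b * t * b⁻¹) * b⁻¹) * (b * t * b⁻¹) := by group
        _ = b * t * b⁻¹ * t := by rw [bb t (QL tQ), ts]
    show b * t * b⁻¹ * t * b = b * (b * t * b⁻¹ * t)
    calc b * t * b⁻¹ * t * b = (b * (b * t * b⁻¹ * t) * b⁻¹) * b := by rw [this]
      _ = b * (b * t * b⁻¹ * t) := by group
  let π : G →* G ⧸ Zc L := QuotientGroup.mk' (Zc L)
  have π1 : ∀ x : G, π x = 1 ↔ x ∈ Zc L := fun x => QuotientGroup.eq_one_iff x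
  let T : Subgroup G := Q ⊓ C1 a
  have mT : ∀ x, x ∈ T ↔ x ∈ Q ∧ Commute x a := fun x => by rw [mem_inf, mem_C1]
  have keyq : ∀ t ∈ T, π b * π t * (π b)⁻¹ = (π t)⁻¹ := by
    intro t ht
    have := (π1 _).2 (key t ((mT t).1 ht).1 ((mT t).1 ht).2)
    rw [map_mul, map_mul, map_mul, map_inv] at this
    exact eq_inv_of_mul_eq_one_left this
  have cyc : IsCyclic (T.map π) := by
    refine H47.CA.isCyclic_of_comm ((c.syl.2.1.to_le inf_le_left).map π) ?_ ?_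
    · rintro _ ⟨x, hx, rfl⟩ _ ⟨y, hy, rfl⟩
      have h1 := keyq _ (T.mul_mem hx hy)
      have h2 : π b * π (x * y) * (π b)⁻¹ = (π x)⁻¹ * (π y)⁻¹ := by
        rw [← keyq x hx, ← keyq y hy, map_mul]; group
      have h3 : (π x)⁻¹ * (π y)⁻¹ = (π y)⁻¹ * (π x)⁻¹ := by
        rw [← h2, h1, map_mul, mul_inv_rev]
      exact Commute.inv_inv_iff.1 h3
    · have one : ∀ x ∈ T, orderOf (π x) = 2 → π x = π a := by
        intro x hx ho
        obtain ⟨xQ, xa⟩ := (mT x).1 hx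
        have x2 : x ^ 2 ∈ Zc L := by
          rw [← π1, map_pow, ← ho, pow_orderOf_eq_one]
        have xb : ¬ Commute x b := fun h => by
          have := (π1 x).2 (hD x xQ xa h)
          rw [this, orderOf_one] at ho
          omega
        have h := (p4 x xQ xa xb x2).2
        have := (π1 _).2 (hD _ (Q.mul_mem (Q.inv_mem c.aQ) xQ)
          ((Commute.refl a).inv_left.mul_left xa) h)
        rw [map_mul, map_inv] at this
        exact (inv_mul_eq_one.1 this).symm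
      rintro _ ⟨x, hx, rfl⟩ _ ⟨y, hy, rfl⟩ h1 h2
      rw [one x hx h1, one y hy h2]
  obtain ⟨⟨_, t, ht, rfl⟩, hg⟩ := cyc.exists_generator
  have gen : ∀ x ∈ T, ∃ i : ℤ, π x = π t ^ i := by
    intro x hx
    obtain ⟨i, hi⟩ := mem_zpowers_iff.1 (hg ⟨π x, x, hx, rfl⟩)
    exact ⟨i, (congrArg Subtype.val hi).symm⟩
  obtain ⟨tQ, ta⟩ := (mT t).1 ht
  refine ⟨t, tQ, b, c.bQ, fun h => ?_, b2, key t tQ ta, fun i h => ?_, fun q hq => ?_⟩
  · obtain ⟨i, hi⟩ := gen a ((mT a).2 ⟨c.aQ, Commute.refl a⟩)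
    rw [(π1 t).2 h, one_zpow, π1] at hi
    exact c.ha.2.1 hi
  · have h1 : Commute (b * t ^ i) a := ((mem_Zc.1 h).2 a c.ha.1).symm
    have h2 : Commute b a := by
      have := h1.mul_left (ta.zpow_left i).inv_left
      rwa [mul_inv_cancel_right] at this
    apply c.a2
    have : a = a⁻¹ := by rw [← ba, h2.eq]; group
    rw [pow_two]; nth_rewrite 1 [this]; group
  · rcases p2 q hq with h | ⟨-, h⟩
    · obtain ⟨i, hi⟩ := gen q ((mT q).2 ⟨hq, h⟩)
      refine ⟨-i, Or.inl ?_⟩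
      rw [← π1, map_mul, map_zpow, hi]; group
    · obtain ⟨i, hi⟩ := gen _ ((mT _).2 ⟨Q.mul_mem (Q.inv_mem c.bQ) hq, h⟩)
      refine ⟨-i, Or.inr ?_⟩
      rw [map_mul, map_inv, inv_mul_eq_iff_eq_mul] at hi
      rw [← π1, map_mul, map_mul, map_zpow, hi]
      have := (π1 _).2 b2
      rw [map_pow, pow_two] at this
      calc π b * π t ^ i * π t ^ (-i) * π b = π b * π b := by group
        _ = 1 := this

end H36.RCDH
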