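import Cfsg.Agent.H36.S3Z2
import Cfsg.Agent.H9.SecE8a

/-! S3-E1: `F = E₁₆`; a Sylow `2`-subgroup of `N(F)` is Sylow in `G` or has order `128`. -/

set_option autoImplicit false
set_option linter.unusedSectionVars false

namespace H36.S3.E1

open Subgroup Cfsg H98 H1.Gold H85.FZ H49.D8 H85.S3

universe u

variable {G : Type u} [Group G] [Finite G] {t z v f g s σ a b e r x y n : G} {P E : Subgroup G}

theorem wf : (tbF false).wf = true := by decide +kernel

theorem cl_snoc (l : List G) (x : G) : cl l ⊔ zpowers x = cl (l ++ [x]) :=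
  le_antisymm (sup_le (cl_mono (by simp)) (zpowers_le.2 (mem_cl (by simp)))) (cl_le.2 fun y hy => by
    rcases List.mem_append.1 hy with k | k
    · exact mem_sup_left (mem_cl k)
    · rw [List.mem_singleton.1 k]; exact mem_sup_right (mem_zpowers x))

/-- An `E₁₆` contains no conjugate of `t`. -/
theorem notD (k : KT t) (el : ∀ e ∈ E, e * e = 1) (c : Nat.card E = 16) (hx : x ∈ E) : ¬ IsConj t x :=
  fun m => by
    have := k.rk x m E (fun e he => mc1.2 (H9.Sec.comm_of_sq el e he x hx)) el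
    omega

variable (h : SF false t z v f g s σ)
include h

theorem eq {w w' : List ℕ} (k : (tbF false).same w w' = true := by decide +kernel) :
    W (val [z, v, f, g, t, s]) w = W (val [z, v, f, g, t, s]) w' := h.pres.W_eq k

theorem ne {w w' : List ℕ} (k : (tbF false).eqv w w' = false := by decide +kernel) :
    W (val [z, v, f, g, t, s]) w ≠ W (val [z, v, f, g, t, s]) w' := h.pres.ne (ind' h) k

theorem wd (ha : a ∈ cl [z, v, f, g]) : ∃ w ∈ subs 4, a = W (val [z, v, f, g, t, s]) w :=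
  h.pres.mem_cl wf 4 (by decide) ha

theorem wd6 (ha : a ∈ cl [z, v, f, g, t, s]) : ∃ w ∈ subs 6, a = W (val [z, v, f, g, t, s]) w :=
  h.pres.mem_cl wf 6 le_rfl ha

theorem tt : t * t = 1 := by simpa using eq h (w := [4, 4]) (w' := [])

theorem z1 : z ≠ 1 := by simpa using ne h (w := [0]) (w' := [])

theorem el : ∀ a ∈ cl [z, v, f, g], a * a = 1 := fun a ha => by
  obtain ⟨w, hw, rfl⟩ := wd h ha
  rw [← W_append]
  exact eq h ((by decide +kernel : ∀ w ∈ subs 4, (tbF false).same (w ++ w) [] = true) w hw)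

theorem cardF : Nat.card (cl [z, v, f, g]) = 16 := by
  have := h.pres.card wf (k := 4) (by decide) ((ind' h).mono (by decide))
  rwa [H_val] at this

theorem leN : cl [z, v, f, g, t, s] ≤ nor (cl [z, v, f, g]) := fun y hy => nor_cl fun a ha => by
  obtain ⟨w, hw, rfl⟩ := wd6 h hy
  obtain ⟨w', hw', rfl⟩ := wd h (mem_cl ha)
  obtain ⟨w'', k1, k2⟩ := (by decide +kernel : ∀ w ∈ subs 6, ∀ w' ∈ subs 4, ∃ w'' ∈ subs 4,
    (tbF false).same (w ++ w') (w'' ++ w) = true ∧ w''.all (· < 4) = true) w hw w' hw'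
  rw [← W_append, eq h k2.1, W_append, mul_inv_cancel_right]
  exact W_mem_cl [z, v, f, g, t, s] 4 k2.2

theorem CFt (ha : a ∈ cl [z, v, f, g]) (k : a * t = t * a) : a ∈ cl [z, v] := by
  obtain ⟨w, hw, rfl⟩ := wd h ha
  rcases (by decide +kernel : ∀ w ∈ subs 4, (tbF false).eqv (w ++ [4]) (4 :: w) = false ∨
    w.all (· < 2) = true) w hw with m | m
  exacts [absurd (by simpa using k) (ne h m), W_mem_cl [z, v, f, g, t, s] 2 m]

theorem pres2 : Pres (Tb.of 2 []) (val [z, s]) :=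
  h.pres.derive' _ [(1, [5])] (fun i hi => by
    change i < 2 at hi
    interval_cases i <;> wsimp) rfl (by decide +kernel)

theorem mem2 (hy : y ∈ cl [z, s]) : y = 1 ∨ y = z ∨ y = s ∨ y = s * z := by
  obtain ⟨w, hw, rfl⟩ := (pres2 h).mem_cl rfl 2 le_rfl hy
  simp only [subs, List.map_cons, List.map_nil, List.cons_append, List.nil_append, List.mem_cons,
    List.not_mem_nil, or_false] at hw
  rcases hw with rfl | rfl | rfl | rfl <;> simp

theorem cjw (i : ℕ) (w w' : List ℕ) (k : (tbF false).same (i :: w) (w' ++ [i]) = true := by decide +kernel) :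
    val [z, v, f, g, t, s] i * W (val [z, v, f, g, t, s]) w * (val [z, v, f, g, t, s] i)⁻¹ =
      W (val [z, v, f, g, t, s]) w' := by
  rw [mul_inv_eq_iff_eq_mul]; simpa using eq h k

/-- The involutions outside `F ⟨s⟩` are conjugate to `t`. -/
theorem invD (hy : y ∈ cl [z, v, f, g, t, s]) (yy : y * y = 1) (k : ¬ IsConj t y) :
    ∃ w ∈ subs 6, w.all (· ≠ 4) = true ∧ y = W (val [z, v, f, g, t, s]) w := by
  obtain ⟨w, hw, rfl⟩ := wd6 h hy
  rcases (by decide +kernel : ∀ w ∈ subs 6, (tbF false).eqv (w ++ w) [] = false ∨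
    w.all (· ≠ 4) = true ∨ ∃ w' ∈ subs 4, (tbF false).same (w' ++ [4]) (w ++ w') = true ∨
      (tbF false).same (w' ++ [4, 5]) (w ++ w') = true) w hw with m | m | ⟨w', -, m | m⟩
  · exact absurd (by simpa using yy) (ne h m)
  · exact ⟨w, hw, m, rfl⟩
  · exact (k (isConj_iff.2 ⟨W _ w', mul_inv_eq_iff_eq_mul.2 (by simpa using eq h m)⟩)).elim
  · exact (k (h.ts.trans (isConj_iff.2 ⟨W _ w', mul_inv_eq_iff_eq_mul.2 (by simpa using eq h m)⟩))).elim

variable (hS : IsSyl 2 P (nor (cl [z, v, f, g]))) (hT : cl [z, v, f, g, t, s] ≤ P)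
include hS hT

theorem cenP (hy : y ∈ P) (yt : y * t = t * y) : y ∈ cl [z, v, t, s] := by
  have k : ∀ a ∈ cl [z, v], y * a * y⁻¹ ∈ cl [z, v, t] := fun a ha =>
    cl_mono (l := [z, v]) (by simp) (CFt h ((mem_normalizer_iff.1 (hS.le hy) a).1 (VF ha)) (by
      have := H9.Sec.comm_of_sq (el3 h) a (cl_mono (l := [z, v]) (by simp) ha) t (mem_cl (by simp))
      calc y * a * y⁻¹ * t = y * (a * (y⁻¹ * t * y)) * y⁻¹ := by group
        _ = _ := by rw [mul_assoc y⁻¹, ← yt, inv_mul_cancel_left, this, ← mul_assoc, yt]; group))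
  refine cenT h hS.isPGroup ((cl_mono (by simp)).trans hT) hy yt (nor_cl ?_)
  simp only [List.forall_mem_cons, List.not_mem_nil, false_imp_iff, implies_true, and_true]
  exact ⟨k z (m1 _ _), k v (m2 _ _), by rw [yt, mul_inv_cancel_right]; exact mem_cl (by simp)⟩

theorem cenP1 (hy : y ∈ P) (yt : y * t = t * y) : y ∈ cl [z, v, f, g, t, s] :=
  cl_mono (l := [z, v, t, s]) (by simp) (cenP h hS hT hy yt)

theorem L1 (hy : y ∈ P) (k : y * t * y⁻¹ * t⁻¹ ∈ cl [z, v, f, g]) : y ∈ cl [z, v, f, g, t, s] := by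
  obtain ⟨w, hw, e⟩ := wd h k
  rw [mul_inv_eq_iff_eq_mul] at e
  rcases (by decide +kernel : ∀ w ∈ subs 4, (tbF false).eqv (w ++ [4] ++ (w ++ [4])) [] = false ∨
    ∃ w' ∈ subs 4, (tbF false).same (w' ++ [4]) (w ++ [4] ++ w') = true ∧ w'.all (· < 6) = true) w hw
    with m | ⟨w', -, m, m'⟩
  · refine absurd ?_ (ne h m)
    simp only [W_append, W_cons, W_nil, mul_one, val_succ, val_zero]
    rw [← e, conj_mul, tt h]; group
  · have d := W_mem_cl [z, v, f, g, t, s] 6 m'
    have := eq h m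
    simp only [W_append, W_cons, W_nil, mul_one, val_succ, val_zero] at this
    rw [← e] at this
    refine (mul_mem_cancel_left (inv_mem d)).1 (cenP1 h hS hT (mul_mem (inv_mem (hT d)) hy) ?_)
    generalize W (val [z, v, f, g, t, s]) w' = c at this
    calc c⁻¹ * y * t = c⁻¹ * (y * t * y⁻¹ * c) * c⁻¹ * y := by group
      _ = _ := by rw [← this]; group

/-- `C_P(V) = F ⟨t⟩`. -/
theorem cenV (hy : y ∈ P) (yc : y ∈ cen (cl [z, v])) : y ∈ cl [z, v, f, g, t] := by
  have l : cl [z, v, f, g, t] ≤ cl [z, v, f, g, t, s] := cl_mono (by simp)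
  have := lz (P := P ⊓ cen (cl [z, v])) (J := cl [z, v, f, g]) (t := t) (hS.isPGroup.to_le inf_le_left)
    (le_inf (FR.trans (l.trans hT)) fun a ha => mcen.2 fun e he =>
      H9.Sec.comm_of_sq (el h) e (VF he) a ha) (inf_le_left.trans hS.le)
    ⟨hT (l tR), mcen.2 fun e he =>
      H9.Sec.comm_of_sq (el3 h) e (cl_mono (l := [z, v]) (by simp) he) t (mem_cl (by simp))⟩
    (by rw [tt h]; exact one_mem _) fun y hy k => by
      obtain ⟨w, hw, rfl⟩ := wd6 h (L1 h hS hT hy.1 k)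
      rw [cl_snoc]
      rcases (by decide +kernel : ∀ w ∈ subs 6, (tbF false).eqv (1 :: w) (w ++ [1]) = false ∨
        w.all (· < 5) = true) w hw with m | m
      exacts [absurd (by simpa using mcen.1 hy.2 v (m2 _ _)) (ne h m), W_mem_cl [z, v, f, g, t, s] 5 m]
  rw [cl_snoc] at this
  exact this.le ⟨hy, yc⟩

theorem zen (hy : y ∈ P) (k : y ∈ cen P) : y = 1 ∨ y = z := by
  have c : ∀ i < 6, W (val [z, v, f, g, t, s]) [i] * y = y * W (val [z, v, f, g, t, s]) [i] :=
    fun i hi => mcen.1 k _ (hT (W_mem_cl [z, v, f, g, t, s] 6 (by simpa using hi)))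
  obtain ⟨w, hw, rfl⟩ := wd6 h (cenP1 h hS hT hy (mcen.1 k t (hT (mem_cl (by simp)))).symm)
  simp only [← W_append] at c
  rcases (by decide +kernel : ∀ w ∈ subs 6, (∃ i < 6, (tbF false).eqv ([i] ++ w) (w ++ [i]) = false) ∨
    w = [] ∨ w = [0]) w hw with ⟨i, hi, e⟩ | rfl | rfl
  · exact absurd (c i hi) (ne h e)
  all_goals simp

theorem FP : cl [z, v, f, g] ≤ P := (cl_mono (by simp)).trans hT

theorem zP : z ∈ cen P := by
  obtain ⟨e, e1, e2, -, e3⟩ := H14.exists_central_orderOf_eq (p := 2) (Q := cl [z, v, f, g]) (R := P)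
    (hS.isPGroup.to_le (FP h hS hT)) hS.isPGroup hS.le fun k => z1 h (mem_bot.1 (k ▸ VF (m1 z v)))
  rcases zen h hS hT (FP h hS hT e1) e3 with k | k
  · simp [k] at e2
  · exact k ▸ e3

theorem cardP : Nat.card P ≤ 512 := by
  have c : Nat.card (cl [z, v, f, g, t]) = 32 := by
    have := h.pres.card wf (k := 5) (by decide) ((ind' h).mono (by decide))
    rwa [H_val] at this
  have := card_le_cen (X := P) (t := v) (Z := cl [z, v, f, g]) fun a ha =>
    mul_mem ((mem_normalizer_iff.1 (hS.le ha) v).1 (VF (m2 _ _))) (inv_mem (VF (m2 _ _)))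
  have := card_le_of_le (show P ⊓ cen1 v ≤ _ from fun y hy => cenV h hS hT hy.1 (cen_cl.2 (by
    simp [mcen.1 (zP h hS hT) y hy.1, mc1.1 hy.2])))
  rw [c] at this
  rw [cardF h] at *
  omega

/-- A second normal `E₁₆`. -/
theorem second (EP : E ≤ P) (nE : P ≤ nor E) (el' : ∀ e ∈ E, e * e = 1) (c : Nat.card E = 16)
    (zE : z ∈ E) (ne' : ¬ E ≤ cl [z, v, f, g]) :
    E ⊓ cen1 t ≤ cl [z, s] ∧ s ∈ E ∧ f ∈ E ∧ ∃ x ∈ E, t * x * t⁻¹ = x * s := by
  have cm := H9.Sec.comm_of_sq el'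
  have tP : t ∈ P := hT (mem_cl (by simp))
  have nt : ∀ m ∈ E, t * m * t⁻¹ ∈ E := fun m => (mem_normalizer_iff.1 (nE tP) m).1
  have vE : v ∉ E := fun k => ne' fun e he => by
    have l : cl [z, v, f, g, t] ≤ cl [z, v, f, g, t, s] := cl_mono (by simp)
    have eR := cenV h hS hT (EP he) (cen_cl.2 (by simp [cm z zE e he, cm v k e he]))
    obtain ⟨w, hw, m, rfl⟩ := invD h (l eR) (el' e he) (notD h.toKT el' c he)
    rcases (by decide +kernel : ∀ w ∈ subs 6, w.all (· ≠ 4) = true →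
      (tbF false).eqv (1 :: w) (w ++ [1]) = false ∨ w.all (· < 4) = true) w hw m with m | m
    exacts [absurd (by simpa using cm v k _ he) (ne h m), W_mem_cl [z, v, f, g, t, s] 4 m]
  have le : E ⊓ cen1 t ≤ cl [z, s] := fun y hy => by
    obtain ⟨w, hw, m, rfl⟩ := invD h (cenP1 h hS hT (EP hy.1) (mc1.1 hy.2)) (el' y hy.1)
      (notD h.toKT el' c hy.1)
    rcases (by decide +kernel : ∀ w ∈ subs 6, w.all (· ≠ 4) = true →
      (tbF false).eqv (w ++ w) [] = false ∨ (tbF false).eqv (w ++ [4]) (4 :: w) = false ∨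
      w = [1] ∨ w = [1, 0] ∨ w = [] ∨ w = [0] ∨ w = [5] ∨ w = [5, 0]) w hw m with
      m | m | rfl | rfl | rfl | rfl | rfl | rfl
    · exact absurd (by simpa using el' _ hy.1) (ne h m)
    · exact absurd (by simpa using mc1.1 hy.2) (ne h m)
    · exact absurd (by simpa using hy.1) vE
    · exact absurd ((mul_mem_cancel_right zE).1 (by simpa using hy.1)) vE
    · exact one_mem _
    · simpa using m1 z s
    · simpa using m2 z s
    · simpa using mul_mem (m2 z s) (m1 z s)
  have c4 : Nat.card (cl [z, s]) ≤ 4 := by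
    have := (pres2 h).card_dvd rfl (k := 2) le_rfl
    rw [H_val] at this
    exact Nat.le_of_dvd (by decide) this
  have c5 := card_le_of_le le
  have c6 := H9.Sec.card_le_sq el' (tt h) nt
  have e : E ⊓ cen1 t = cl [z, s] := eq_of_le_of_card_ge le (by nlinarith)
  have fr : ∀ y ∈ cl [z, s], ∃ x ∈ E, t * x * t⁻¹ = x * y := fun y hy => by
    obtain ⟨x, hx, k⟩ := H9.Sec.exists_comm_of_free el' (tt h) nt (by nlinarith) (e.ge hy)
    exact ⟨x, hx, by rw [k, inv_eq_of_mul_eq_one_right (el' x hx), ← mul_assoc, el' x hx, one_mul]⟩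
  have sE : s ∈ E := (e.ge (m2 z s)).1
  refine ⟨le, sE, ?_, fr s (m2 _ _)⟩
  obtain ⟨y, hy, k⟩ := fr z (m1 _ _)
  have tf : t * f * t⁻¹ = f * z := by
    rw [mul_inv_eq_iff_eq_mul]; simpa [mul_assoc] using eq h (w := [4, 2]) (w' := [2, 0, 4])
  have y1 : y ∈ cl [z, v, f, g, t, s] := (mul_mem_cancel_left (mem_cl (by simp) : f ∈ _)).1
    (cenP1 h hS hT (mul_mem (FP h hS hT fF) (EP hy)) (by
      rw [eq_comm, ← mul_inv_eq_iff_eq_mul, ← conj_mul, tf, k, mul_assoc, ← mul_assoc z, cm z zE y hy,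
        mul_assoc, el' z zE, mul_one]))
  obtain ⟨w, hw, rfl⟩ := wd6 h y1
  rw [mul_inv_eq_iff_eq_mul] at k
  rcases (by decide +kernel : ∀ w ∈ subs 6, (tbF false).eqv (w ++ w) [] = false ∨
      (tbF false).eqv (4 :: w) (w ++ [0, 4]) = false ∨ (tbF false).eqv (5 :: w) (w ++ [5]) = false ∨
      ∃ w' ∈ [[], [0], [5], [5, 0]], (tbF false).same (w ++ w') [2] = true) w hw with
      m | m | m | ⟨w', hw', m⟩
  · exact absurd (by simpa using el' _ hy) (ne h m)
  · exact absurd (by simpa [mul_assoc] using k) (ne h m)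
  · exact absurd (by simpa using cm s sE _ hy) (ne h m)
  · have := eq h m
    simp only [W_append, W_cons, W_nil, mul_one, val_succ, val_zero] at this
    rw [← this]
    refine mul_mem hy ?_
    simp only [List.mem_cons, List.not_mem_nil, or_false] at hw'
    rcases hw' with rfl | rfl | rfl | rfl <;> simp [zE, sE, mul_mem]

theorem alpha (nE : P ≤ nor E) (el' : ∀ e ∈ E, e * e = 1) (sE : s ∈ E) (xE : x ∈ E) (xP : x ∈ P)
    (ha : a ∈ cl [z, v, f, g]) (k : x * a * x⁻¹ = a * b) (k' : t * b * t⁻¹ = b * z) :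
    b = f ∨ b = f * z := by
  have bF : b ∈ cl [z, v, f, g] :=
    (mul_mem_cancel_left ha).1 (k ▸ (mem_normalizer_iff.1 (hS.le xP) a).1 ha)
  have bE : b ∈ E := by
    rw [show b = a⁻¹ * x * a * x⁻¹ by rw [← inv_mul_cancel_left a b, ← k]; group]
    exact mul_mem ((mem_normalizer_iff''.1 (nE (FP h hS hT ha)) x).1 xE) (inv_mem xE)
  have := H9.Sec.comm_of_sq el' s sE b bE
  obtain ⟨w, hw, rfl⟩ := wd h bF
  rw [mul_inv_eq_iff_eq_mul] at k'
  rcases (by decide +kernel : ∀ w ∈ subs 4, (tbF false).eqv (4 :: w) (w ++ [0, 4]) = false ∨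
      (tbF false).eqv (5 :: w) (w ++ [5]) = false ∨ w = [2] ∨ w = [2, 0]) w hw with m | m | rfl | rfl
  · exact absurd (by simpa [mul_assoc] using k') (ne h m)
  · exact absurd (by simpa using this) (ne h m)
  all_goals simp

theorem build (EP : E ≤ P) (nE : P ≤ nor E) (el' : ∀ e ∈ E, e * e = 1) (zE : z ∈ E) (sE : s ∈ E)
    (fE : f ∈ E) (xE : x ∈ E) (tx : t * x * t⁻¹ = x * s) (xv : x * v * x⁻¹ = v * f)
    (le : E ⊓ cen1 t ≤ cl [z, s]) : ∃ c, SJ c t z f v g s x := by
  have cm := H9.Sec.comm_of_sq el'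
  have xP := EP xE
  have xx := el' x xE
  have xi := inv_eq_of_mul_eq_one_right xx
  have tP : t ∈ P := hT (mem_cl (by simp))
  have xz : x * z * x⁻¹ = z := by rw [cm x xE z zE, mul_inv_cancel_right]
  have xf : x * f * x⁻¹ = f := by rw [cm x xE f fE, mul_inv_cancel_right]
  have tf : t * f * t⁻¹ = f * z := by simpa using cjw h 4 [2] [2, 0]
  obtain ⟨b, xg⟩ : ∃ b, x * g * x⁻¹ = g * b := ⟨g⁻¹ * (x * g * x⁻¹), by group⟩
  have bF : b ∈ cl [z, v, f, g] :=
    (mul_mem_cancel_left gF).1 (xg ▸ (mem_normalizer_iff.1 (hS.le xP) g).1 gF)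
  have hb := alpha h hS hT nE el' sE xE xP gF xg (by
    have e1 : t * g * t⁻¹ = g * v := by simpa using cjw h 4 [3] [3, 1]
    have e2 : s * (g * v) * s⁻¹ = g * (f * (v * z)) := by simpa using cjw h 5 [3, 1] [3, 2, 1, 0]
    have e3 : f * (v * f * z) = v * z := by
      simpa [mul_assoc] using eq h (w := [2, 1, 2, 0]) (w' := [1, 0])
    have : x * s * (g * v) * (x * s)⁻¹ = g * v * (t * b * t⁻¹) := by
      rw [← tx, ← e1, conj_mul, conj_mul, ← xg]; group
    rw [show x * s * (g * v) * (x * s)⁻¹ = x * (s * (g * v) * s⁻¹) * x⁻¹ by group, e2, ← conj_mul,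
      ← conj_mul, ← conj_mul, xg, xf, xv, xz, e3, mul_assoc g, mul_assoc g, mul_right_inj, ← mul_assoc,
      H9.Sec.comm_of_sq (el h) b bF v (VF (m2 _ _)), mul_assoc, mul_right_inj] at this
    exact this.symm)
  obtain ⟨c, hc⟩ : ∃ c, b = W (val [z, f, v, g, s, x, t]) ([1] ++ ow c [0]) := by
    rcases hb with rfl | rfl
    exacts [⟨false, by simp [ow]⟩, ⟨true, by simp [ow]⟩]
  have wf' : (tbJ c).wf = true := by cases c <;> decide +kernel
  have p : Pres (tbJ c) (val [z, f, v, g, s, x, t]) := by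
    refine ⟨fun i hi k hk => ?_, fun i hi => ?_⟩ <;> change i < 7 at hi
    · interval_cases i <;> interval_cases k <;> simp only [tbJ] <;> wsimp
      exacts [by simpa using eq h (w := [0, 2]) (w' := [2, 0]),
        by simpa using eq h (w := [0, 1]) (w' := [1, 0]), by simpa using eq h (w := [2, 1]) (w' := [1, 2]),
        by simpa using eq h (w := [0, 3]) (w' := [3, 0]), by simpa using eq h (w := [2, 3]) (w' := [3, 2]),
        by simpa using eq h (w := [1, 3]) (w' := [3, 1]), cm z zE s sE, cm f fE s sE,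
        by simpa using eq h (w := [1, 5]) (w' := [5, 1, 0]),
        by simpa using eq h (w := [3, 5]) (w' := [5, 3, 2]), cm z zE x xE, cm f fE x xE,
        by rw [← xv, xi, ← mul_assoc, ← mul_assoc, xx, one_mul],
        by rw [show W (val [z, f, v, g, s, x, t]) (ow c [0]) = f⁻¹ * b by rw [hc]; simp,
          mul_inv_cancel_left, ← xg, xi, ← mul_assoc, ← mul_assoc, xx, one_mul],
        cm s sE x xE, by simpa using eq h (w := [0, 4]) (w' := [4, 0]),
        by simpa using eq h (w := [2, 4]) (w' := [4, 2, 0]), by simpa using eq h (w := [1, 4]) (w' := [4, 1]),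
        by simpa using eq h (w := [3, 4]) (w' := [4, 3, 1]), by simpa using eq h (w := [5, 4]) (w' := [4, 5]),
        by rw [← tx, inv_eq_of_mul_eq_one_right (tt h), ← mul_assoc, ← mul_assoc, tt h, one_mul]]
    · interval_cases i <;> simp only [tbJ] <;> wsimp
      exacts [el' z zE, el' f fE, el h v (VF (m2 _ _)), el h g gF, el' s sE, xx, tt h]
  have eF : cl [z, f, v, g] = cl [z, v, f, g] := le_antisymm (cl_mono (by simp)) (cl_mono (by simp))
  have I : Ind (val [z, f, v, g, s, x, t]) 7 := by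
    have I4 : Ind (val [z, f, v, g, s, x, t]) 4 := p.ind_of_card wf' (show 4 ≤ 7 by decide) (by
      rw [H_val]; exact eF ▸ cardF h)
    intro k hk
    by_cases k4 : k < 4
    · exact I4 k k4
    interval_cases k <;> rw [H_val] <;> intro m
    · exact ind' h 5 (by decide) (by rw [H_val]; exact FR (eF.le m))
    · obtain ⟨w, hw, rfl⟩ := wd6 h (cl_mono (l := [z, f, v, g, s]) (by simp) m)
      exact ne h ((by decide +kernel : ∀ w ∈ subs 6,
        (tbF false).eqv (4 :: w) (w ++ [5, 4]) = false) w hw) (by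
          simpa [mul_assoc] using mul_inv_eq_iff_eq_mul.1 tx)
    · have : t * f = f * t := mc1.1 ((cl_le (K := cen1 f) (l := [z, f, v, g, s, x])).2 (by
        simp [mc1, cm z zE f fE, cm s sE f fE, cm x xE f fE,
          H9.Sec.comm_of_sq (el h) v (VF (m2 _ _)) f fF, H9.Sec.comm_of_sq (el h) g gF f fF]) m)
      rw [this, mul_inv_cancel_right, left_eq_mul] at tf
      exact z1 h tf
  have FJ : cl [z, v, f, g] ≤ cl [z, f, v, g, s, x] := cl_mono (by simp)
  have zs : cl [z, s] ≤ cl [z, f, v, g, s, x] := cl_mono (by simp)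
  have EJ : E ≤ cl [z, f, v, g, s, x] := fun e he => by
    have te := (mem_normalizer_iff.1 (nE tP) e).1 he
    have k : ∀ d ∈ E, d ∈ cl [z, f, v, g, s, x] → ∀ y ∈ E, t * d * t⁻¹ = d * y → e * (t * e * t⁻¹) = y →
        e ∈ cl [z, f, v, g, s, x] := fun d hd dJ y hy e1 e2 =>
      (mul_mem_cancel_left dJ).1 (zs (le ⟨mul_mem hd he, mc1.2 (by
        rw [eq_comm, ← mul_inv_eq_iff_eq_mul, ← conj_mul, e1, ← e2, mul_assoc, mul_assoc, el' _ te,
          mul_one])⟩))
    rcases mem2 h (le ⟨mul_mem he te, mc1.2 (by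
      rw [eq_comm, ← mul_inv_eq_iff_eq_mul, ← conj_mul,
        show t * (t * e * t⁻¹) * t⁻¹ = t * t * e * (t * t)⁻¹ by group, tt h, one_mul, _root_.inv_one, mul_one,
        cm _ te e he])⟩) with m | m | m | m
    · exact k 1 (one_mem _) (one_mem _) 1 (one_mem _) (by group) m
    · exact k f fE (FJ fF) z zE tf m
    · exact k x xE (mem_cl (by simp)) s sE tx m
    · exact k (x * f) (mul_mem xE fE) (mul_mem (mem_cl (by simp)) (FJ fF)) _ (mul_mem sE zE) (by
        rw [← conj_mul, tx, tf, mul_assoc, ← mul_assoc s, cm s sE f fE]; group) m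
  have JP : cl [z, f, v, g, s, x] ≤ P := cl_le.2 (by
    simp [EP zE, EP fE, EP sE, xP, FP h hS hT gF, FP h hS hT (VF (m2 _ _))])
  have e := lz (J := cl [z, f, v, g, s, x]) hS.isPGroup JP (fun y hy => nor_cl (by
      have k1 := fun a ha => FJ ((mem_normalizer_iff.1 (hS.le hy) a).1 ha)
      have k2 := fun a ha => EJ ((mem_normalizer_iff.1 (nE hy) a).1 ha)
      simp [k2 z zE, k2 f fE, k2 s sE, k2 x xE, k1 g gF, k1 v (VF (m2 _ _))])) tP
    (by rw [tt h]; exact one_mem _) fun y hy k => by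
      obtain ⟨w, hw, e⟩ := p.mem_cl wf' 6 (show 6 ≤ 7 by decide) k
      rw [mul_inv_eq_iff_eq_mul] at e
      rw [cl_snoc]
      rcases (by decide +kernel : ∀ c, ∀ w ∈ subs 6, (tbJ c).eqv (w ++ [6] ++ (w ++ [6])) [] = false ∨
        ∃ w' ∈ subs 6, (tbJ c).same (w' ++ [6]) (w ++ [6] ++ w') = true ∧ w'.all (· < 6) = true) c w hw
        with m | ⟨w', -, m, m'⟩
      · refine absurd ?_ (p.ne I m)
        simp only [W_append, W_cons, W_nil, mul_one, val_succ, val_zero]
        rw [← e, conj_mul, tt h]; group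
      · have d := W_mem_cl [z, f, v, g, s, x, t] 6 m'
        have := p.W_eq m
        simp only [W_append, W_cons, W_nil, mul_one, val_succ, val_zero] at this
        rw [← e] at this
        refine (mul_mem_cancel_left (inv_mem (cl_mono (l := [z, f, v, g, s, x]) (by simp) d))).1
          (cl_mono (l := [z, v, t, s]) (by simp) (cenP h hS hT (mul_mem (inv_mem (JP d)) hy) ?_))
        generalize W (val [z, f, v, g, s, x, t]) w' = c at this
        calc c⁻¹ * y * t = c⁻¹ * (y * t * y⁻¹ * c) * c⁻¹ * y := by group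
          _ = _ := by rw [← this]; group
  rw [cl_snoc] at e
  refine ⟨c, h.toKT, p, ?_, by rw [eF]; exact e ▸ hS⟩
  have := p.card wf' (k := 7) le_rfl I
  rwa [H_val] at this

omit h hS hT in
theorem jobE1 : JobE1.{u} := by
  intro G _ _ t z v f g s σ h
  obtain ⟨P, hS, hT⟩ := exists_isSyl_le (IsPGroup.of_card (p := 2) (n := 6) h.card) (leN h)
  by_cases k : ∀ n ∈ nor P, H98.cj n (cl [z, v, f, g]) ≤ cl [z, v, f, g]
  · refine Or.inl (bd_of_syl (syl_of_nor hS.isPGroup fun Q hQ PQ n nQ hn => ?_)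
      ((cardP h hS hT).trans (by decide)))
    rw [← hS.eq_of_le (hQ.to_le (inf_le_left (b := nor (cl [z, v, f, g])))) (le_inf PQ hS.le)
      inf_le_right]
    exact ⟨nQ, mem_normalizer_of_cj_le (k n hn)⟩
  push Not at k
  obtain ⟨n, hn, k⟩ := k
  have m := mem_normalizer_iff.1 hn
  have m' := mem_normalizer_iff''.1 hn
  have nz : n * z * n⁻¹ = z := (zen h hS hT ((m z).1 (FP h hS hT (VF (m1 _ _)))) (mcen.2 fun y hy => by
    have := mcen.1 (zP h hS hT) _ ((m' y).1 hy)
    calc y * (n * z * n⁻¹) = n * (n⁻¹ * y * n * z) * n⁻¹ := by group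
      _ = _ := by rw [this]; group)).resolve_left fun k => z1 h (conj_eq_one_iff.1 k)
  have EP : H98.cj n (cl [z, v, f, g]) ≤ P := cj_le_of_le (FP h hS hT) hn
  have nE : P ≤ nor (H98.cj n (cl [z, v, f, g])) := by
    rw [nor, ← cj_normalizer, ← cj_eq_self hn]; exact cj_mono _ hS.le
  have el' : ∀ e ∈ H98.cj n (cl [z, v, f, g]), e * e = 1 := fun e he => by
    have := el h _ (mem_cj.1 he)
    simpa [mul_assoc] using congrArg (fun r => n * r * n⁻¹) this
  have zE : z ∈ H98.cj n (cl [z, v, f, g]) := by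
    have := conj_mem_cj (g := n) (VF (f := f) (g := g) (m1 z v))
    rwa [nz] at this
  obtain ⟨le, sE, fE, x, xE, tx⟩ := second h hS hT EP nE el' (by rw [card_cj, cardF h]) zE k
  generalize H98.cj n (cl [z, v, f, g]) = E at EP nE el' zE le sE fE xE
  have cm := H9.Sec.comm_of_sq el'
  have xz : x * z * x⁻¹ = z := by rw [cm x xE z zE, mul_inv_cancel_right]
  have sv : s * v * s⁻¹ = v * z := by simpa using cjw h 5 [1] [1, 0]
  obtain ⟨a, xv⟩ : ∃ a, x * v * x⁻¹ = v * a := ⟨v⁻¹ * (x * v * x⁻¹), by group⟩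
  have xs : x * s * v * (x * s)⁻¹ = v * (a * z) := by
    rw [show x * s * v * (x * s)⁻¹ = x * (s * v * s⁻¹) * x⁻¹ by group, sv, ← conj_mul, xv, xz, mul_assoc]
  rcases alpha h hS hT nE el' sE xE (EP xE) (VF (m2 _ _)) xv (by
    have e1 : t * v * t⁻¹ = v := by simpa using cjw h 4 [1] [1]
    have : x * s * v * (x * s)⁻¹ = v * (t * a * t⁻¹) := by
      conv_rhs => rw [← e1, conj_mul, ← xv]
      conv_lhs => rw [← tx, ← e1]
      group
    rw [xs, mul_right_inj] at this
    exact this.symm) with rfl | rfl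
  · exact Or.inr ((build h hS hT EP nE el' zE sE fE xE tx xv le).imp fun c k => ⟨x, k⟩)
  · exact Or.inr ((build h hS hT EP nE el' zE sE fE (mul_mem xE sE) (by
      have : t * s * t⁻¹ = s := by simpa using cjw h 4 [5] [5]
      rw [← conj_mul, tx, this]) (by rw [xs, mul_assoc, el' z zE, mul_one]) le).imp fun c k => ⟨_, k⟩)

end H36.S3.E1
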