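import Cfsg.Agent.H36.S3E1

/-! S3-E2: the Sylow `2`-subgroup of `N(F)` is `J ⟨t⟩` with `J` of type `L₃(4)`. -/

set_option autoImplicit false
set_option linter.unusedSectionVars false

namespace H36.S3.E2

open Subgroup Cfsg H98 H1.Gold H85.FZ H49.D8 H85.S3

universe u

variable {G : Type u} [Group G] [Finite G] {a b e y n : G} {S E K : Subgroup G} {T : Tb} {X : ℕ → G}

theorem card_le_mul {N : Type*} [Finite N] (f : S → N) (h : ∀ a b, f a = f b → a.1⁻¹ * b.1 ∈ K) :
    Nat.card S ≤ Nat.card K * Nat.card N := by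
  rw [← Nat.card_prod]
  have k : ∀ a, f (Function.invFun f (f a)) = f a := fun a => Function.invFun_eq ⟨a, rfl⟩
  refine Nat.card_le_card_of_injective (fun a => ((⟨_, h _ a (k a)⟩ : K), f a)) fun a b e => ?_
  have e1 : (Function.invFun f (f a)).1⁻¹ * a.1 = (Function.invFun f (f b)).1⁻¹ * b.1 :=
    congrArg (fun z => z.1.1) e
  rw [show f a = f b from congrArg Prod.snd e] at e1
  exact Subtype.ext (mul_left_cancel e1)

theorem nor_H {k : ℕ} (h : ∀ i < k, y * X i * y⁻¹ ∈ H X k) : y ∈ nor (H X k) :=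
  mem_normalizer_fintype fun _ hy =>
    H_le (K := (H X k).comap (MulAut.conj y).toMonoidHom) h hy

/-- New letters: presentation and order. -/
theorem card_sub (P : Pres T X) (I : Ind X T.n) (T' : Tb) (ws : List (ℕ × List ℕ)) (wf : T'.wf = true)
    (h : ((List.range T'.n).all fun s => T.same (app ws [s, s]) (app ws (T'.sq s)) &&
      (List.range s).all fun r => T.same (app ws [r, s]) (app ws (s :: T'.cj s r))) = true)
    (h' : ∀ k < T'.n, ∀ w ∈ subs k, T.eqv (app ws [k]) (app ws w) = false) :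
    Nat.card (H (fun i => W X (app ws [i])) T'.n) = 2 ^ T'.n := by
  have Q := P.derive T' ws h
  have key : ∀ w, W (fun i => W X (app ws [i])) w = W X (app ws w) := fun w => by
    induction w with
    | nil => rfl
    | cons r w ih => rw [W_cons, ih, ← W_append]; simp [app]
  refine Q.card wf le_rfl fun k hk m => ?_
  obtain ⟨w, hw, e⟩ := Q.mem wf hk.le m
  exact P.ne I (h' k hk w hw) (e.trans (key w))

/-- The common data: `F = H X 4`, `J = H X 6`, `P = H X 7`, `t = X 6`. -/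
structure Ab (T : Tb) (X : ℕ → G) : Prop extends KT (X 6) where
  n7 : T.n = 7
  wf : T.wf = true
  pres : Pres T X
  ind : Ind X T.n
  syl : IsSyl 2 (H X 7) (nor (H X 4))
  tD : ∀ w ∈ subs 7, T.eqv (w ++ w) [] = false ∨ w.all (· < 6) = true ∨
    ∃ w' ∈ subs 6, T.same (w' ++ [6]) (w ++ w') = true
  tF : ∀ w ∈ subs 4, T.same (w ++ w) [] = true

namespace Ab

variable (h : Ab T X)
include h

theorem wd (k : ℕ) (hk : k ≤ 7) (hy : y ∈ H X k) : ∃ w ∈ subs k, y = W X w :=
  h.pres.mem h.wf (h.n7 ▸ hk) hy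

theorem ne {w w' : List ℕ} (k : T.eqv w w' = false) : W X w ≠ W X w' := h.pres.ne h.ind k

theorem card (k : ℕ) (hk : k ≤ 7) : Nat.card (H X k) = 2 ^ k :=
  h.pres.card h.wf (h.n7 ▸ hk) (h.ind.mono (h.n7 ▸ hk))

theorem el : ∀ e ∈ H X 4, e * e = 1 := fun e he => by
  obtain ⟨w, hw, rfl⟩ := h.wd 4 (by decide) he
  simpa using h.pres.W_eq (h.tF w hw)

theorem invP (hy : y ∈ H X 7) (yy : y * y = 1) (k : ¬ IsConj (X 6) y) : y ∈ H X 6 := by
  obtain ⟨w, hw, rfl⟩ := h.wd 7 le_rfl hy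
  rcases h.tD w hw with m | m | ⟨w', -, m⟩
  · exact absurd (by simpa using yy) (h.ne m)
  · exact W_mem m
  · exact (k (isConj_iff.2 ⟨W X w', mul_inv_eq_iff_eq_mul.2 (by simpa using h.pres.W_eq m)⟩)).elim

theorem exS : ∃ S, IsSyl 2 S (nor (H X 6)) ∧ H X 7 ≤ S :=
  exists_isSyl_le h.syl.isPGroup (by
    rw [H_succ]
    exact sup_le le_normalizer (zpowers_le.2 (h.pres.x_nor h.wf (h.n7 ▸ by decide))))

theorem inP (hS : IsPGroup 2 S) (l : H X 7 ≤ S) (hy : y ∈ S) (k : y ∈ nor (H X 4)) : y ∈ H X 7 := by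
  rw [← h.syl.eq_of_le (hS.to_le (inf_le_left (b := nor (H X 4)))) (le_inf l h.syl.le) inf_le_right]
  exact ⟨hy, k⟩

omit h in
theorem fin (hS : IsSyl 2 S (nor (H X 6))) (k : ∀ n ∈ nor S, n ∈ nor (H X 6)) (c : Nat.card S ≤ 1024) :
    Bd G :=
  bd_of_syl (syl_of_nor hS.isPGroup fun Q hQ PQ n nQ hn => by
    rw [← hS.eq_of_le (hQ.to_le (inf_le_left (b := nor (H X 6)))) (le_inf PQ hS.le) inf_le_right]
    exact ⟨nQ, k n hn⟩) c

end Ab

theorem el_cj (el : ∀ e ∈ E, e * e = 1) (n : G) : ∀ e ∈ H98.cj n E, e * e = 1 := fun e he => by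
  simpa [mul_assoc] using congrArg (fun r => n * r * n⁻¹) (el _ (mem_cj.1 he))

/-- `F' = ⟨z, f, s, x⟩` -/
def F' (X : ℕ → G) : Subgroup G := H (fun i => W X (app [(2, [4]), (3, [5])] [i])) 4

theorem mem_F' {w : List ℕ} (k : w.all (· ∈ [0, 1, 4, 5]) = true) : W X w ∈ F' X :=
  W_mem_of fun r hr => by
    have := List.all_eq_true.1 k r hr
    simp only [List.mem_cons, List.not_mem_nil, or_false, decide_eq_true_eq] at this
    rcases this with rfl | rfl | rfl | rfl
    exacts [by simpa [app, F'] using x_mem (x := fun i => W X (app [(2, [4]), (3, [5])] [i])) (show 0 < 4 by decide),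
      by simpa [app, F'] using x_mem (x := fun i => W X (app [(2, [4]), (3, [5])] [i])) (show 1 < 4 by decide),
      by simpa [app, F'] using x_mem (x := fun i => W X (app [(2, [4]), (3, [5])] [i])) (show 2 < 4 by decide),
      by simpa [app, F'] using x_mem (x := fun i => W X (app [(2, [4]), (3, [5])] [i])) (show 3 < 4 by decide)]

theorem F'_le (k : ∀ i ∈ [0, 1, 4, 5], X i ∈ K) : F' X ≤ K := H_le fun i hi => by
  interval_cases i <;> simpa [app] using k _ (by simp)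

section

variable (h : Ab (tbJ true) X)
include h

theorem cardF' : Nat.card (F' X) = 16 :=
  card_sub h.pres h.ind (Tb.of 4 []) _ rfl (by decide +kernel) (by decide +kernel)

theorem F'J : F' X ≤ H X 6 := F'_le fun i hi => x_mem (by revert i; decide)

theorem elF' : ∀ e ∈ F' X, e * e = 1 := fun e he => by
  obtain ⟨w, hw, rfl⟩ := (h.pres.derive (Tb.of 4 []) [(2, [4]), (3, [5])] (by decide +kernel)).mem rfl
    (k := 4) le_rfl he
  simpa using (h.pres.derive (Tb.of 4 []) [(2, [4]), (3, [5])] (by decide +kernel)).W_eq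
    ((by decide +kernel : ∀ w ∈ subs 4, (Tb.of 4 []).same (w ++ w) [] = true) w hw)

theorem le_or (l : E ≤ H X 6) (el : ∀ e ∈ E, e * e = 1) : E ≤ H X 4 ∨ E ≤ F' X := by
  have k : ∀ e ∈ E, ∃ w ∈ subs 6, e = W X w ∧
      (w.all (· < 4) = true ∨ w.all (· ∈ [0, 1, 4, 5]) = true) := fun e he => by
    obtain ⟨w, hw, rfl⟩ := h.wd 6 (by decide) (l he)
    exact ⟨w, hw, rfl, ((by decide +kernel : ∀ w ∈ subs 6, (tbJ true).eqv (w ++ w) [] = false ∨
      w.all (· < 4) = true ∨ w.all (· ∈ [0, 1, 4, 5]) = true) w hw).resolve_left fun m =>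
        h.ne m (by simpa using el _ he)⟩
  by_contra n
  obtain ⟨⟨a, ha, a1⟩, b, hb, b1⟩ := (not_or.1 n).imp SetLike.not_le_iff_exists.1
    SetLike.not_le_iff_exists.1
  obtain ⟨w, hw, rfl, a2⟩ := k a ha
  obtain ⟨w', hw', rfl, b2⟩ := k b hb
  rcases (by decide +kernel : ∀ w ∈ subs 6, w.all (· ∈ [0, 1, 4, 5]) = true → ∀ w' ∈ subs 6,
    w'.all (· < 4) = true → w.all (· < 4) = true ∨ w'.all (· ∈ [0, 1, 4, 5]) = true ∨
      (tbJ true).eqv (w ++ w') (w' ++ w) = false) w hw (a2.resolve_left fun m => a1 (W_mem m)) w' hw'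
      (b2.resolve_right fun m => b1 (mem_F' m)) with m | m | m
  exacts [a1 (W_mem m), b1 (mem_F' m), h.ne m (by simpa using H9.Sec.comm_of_sq el _ ha _ hb)]

theorem inter : H X 4 ⊓ F' X ≤ H X 2 := fun y hy => by
  obtain ⟨w, hw, rfl⟩ := h.wd 4 (by decide) hy.1
  rcases (by decide +kernel : ∀ w ∈ subs 4, w.all (· < 2) = true ∨ ∃ i ∈ [4, 5],
    (tbJ true).eqv (w ++ [i]) ([i] ++ w) = false ∧ [i].all (· ∈ [0, 1, 4, 5]) = true) w hw with
    m | ⟨i, -, m, m'⟩
  · exact W_mem m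
  · exact absurd (by rw [W_append, W_append]; exact H9.Sec.comm_of_sq (elF' h) _ hy.2 _ (mem_F' m')) (h.ne m)

theorem cj_or (hy : y ∈ nor (H X 6)) (l : E ≤ H X 6) (el : ∀ e ∈ E, e * e = 1) (c : Nat.card E = 16) :
    H98.cj y E = H X 4 ∨ H98.cj y E = F' X :=
  (le_or h (cj_le_of_le l hy) (el_cj el y)).imp
    (fun e => eq_of_le_of_card_ge e (by rw [card_cj, c, h.card 4 (by decide)]; decide))
    fun e => eq_of_le_of_card_ge e (by rw [card_cj, c, cardF' h])

theorem sw (hy : y ∈ nor (H X 6)) (k : y ∉ nor (H X 4)) :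
    H98.cj y (H X 4) = F' X ∧ H98.cj y (F' X) = H X 4 := by
  have e := (cj_or h hy (H_mono (by decide)) h.el (h.card 4 (by decide))).resolve_left
    fun e => k (cj_eq_self_iff.1 e)
  refine ⟨e, (cj_or h hy (F'J h) (elF' h) (cardF' h)).resolve_right fun e' => ?_⟩
  have := card_le_of_le ((le_inf le_rfl (cj_inj.1 (e.trans e'.symm)).le).trans (inter h))
  rw [h.card 4 (by decide), h.card 2 (by decide)] at this
  omega

theorem idx (hS : IsSyl 2 S (nor (H X 6))) (l : H X 7 ≤ S) (lE : E ≤ S) :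
    Nat.card E ≤ Nat.card (E ⊓ H X 7 : Subgroup G) * 2 := by
  have := card_le_mul (S := E) (K := E ⊓ H X 7) (fun y => y.1 ∈ nor (H X 4)) fun a b e =>
    mem_inf.2 ⟨mul_mem (inv_mem a.2) b.2, h.inP hS.isPGroup l (lE (mul_mem (inv_mem a.2) b.2)) (by
      by_cases k : a.1 ∈ nor (H X 4)
      · exact mul_mem (inv_mem k) (e ▸ k)
      · rw [← cj_eq_self_iff, ← cj_cj, (sw h (hS.le (lE b.2)) (e ▸ k)).1,
          (sw h (inv_mem (hS.le (lE a.2))) fun m => k (inv_mem_iff.1 m)).2])⟩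
  simpa using this

theorem leJ (hS : IsSyl 2 S (nor (H X 6))) (l : H X 7 ≤ S) (lE : E ≤ S) (el : ∀ e ∈ E, e * e = 1)
    (c : Nat.card E = 16) : E ≤ H X 6 := by
  have k : E ⊓ H X 7 ≤ H X 6 := fun y hy => h.invP hy.2 (el y hy.1) (E1.notD h.toKT el c hy.1)
  intro e he
  refine k ⟨he, h.inP hS.isPGroup l (lE he) ?_⟩
  by_contra n
  obtain ⟨e1, e2⟩ := sw h (hS.le (lE he)) n
  have q : ∀ y ∈ E, e * y * e⁻¹ = y := fun y hy => by
    rw [H9.Sec.comm_of_sq el e he y hy, mul_inv_cancel_right]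
  have : E ⊓ H X 7 ≤ H X 2 := fun y hy => inter h (by
    rcases le_or h k (fun e he => el e he.1) with m | m
    · exact ⟨m hy, by rw [← e1, ← q y hy.1]; exact conj_mem_cj (m hy)⟩
    · exact ⟨by rw [← e2, ← q y hy.1]; exact conj_mem_cj (m hy), m hy⟩)
  have := card_le_of_le this
  have := idx h hS l lE
  rw [h.card 2 (by decide)] at *
  omega

theorem main : Bd G := by
  obtain ⟨S, hS, l⟩ := h.exS
  refine Ab.fin hS (fun n hn => nor_H fun i hi => ?_) ?_
  · have k : ∀ E : Subgroup G, E ≤ H X 6 → (∀ e ∈ E, e * e = 1) → Nat.card E = 16 → X i ∈ E →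
        n * X i * n⁻¹ ∈ H X 6 := fun E a b c d =>
      leJ h hS l (cj_le_of_le (a.trans ((H_mono (by decide)).trans l)) hn) (el_cj b n)
        (by rw [card_cj, c]) (conj_mem_cj d)
    by_cases i4 : i < 4
    · exact k _ (H_mono (by decide)) h.el (h.card 4 (by decide)) (x_mem i4)
    · exact k _ (F'J h) (elF' h) (cardF' h) (by
        simpa using mem_F' (X := X) (w := [i]) (by interval_cases i <;> rfl))
  · have := idx h hS l le_rfl
    rw [inf_eq_right.2 l, h.card 7 le_rfl] at this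
    omega

end

theorem jobE2 : JobE2.{u} := by
  intro G _ _ t z f v g s x h
  have wf : (tbJ true).wf = true := by decide +kernel
  exact main (X := val [z, f, v, g, s, x, t]) ⟨h.toKT, rfl, wf, h.pres,
    h.pres.ind_of_card wf le_rfl (by rw [H_val]; exact h.card), by rw [H_val, H_val]; exact h.syl,
    by decide +kernel, by decide +kernel⟩

end H36.S3.E2
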