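import Cfsg.Agent.H36.S3E2

/-! S3-E4: the Sylow `2`-subgroup of `N(F)` is `D₈ ≀ Z₂`. -/

set_option autoImplicit false
set_option linter.unusedSectionVars false

namespace H36.S3.E4

open Subgroup Cfsg H98 H1.Gold H85.FZ H49.D8 H85.S3 H36.S3.E2

universe u

variable {G : Type u} [Group G] [Finite G] {a b c e y n : G} {S E K : Subgroup G} {X : ℕ → G}

/-- Letters `z 0, z₁ 1, a₁ 2, a₂ 3, b₁ 4, b₂ 5, t 6`; `z₂ = z₁ z`. -/
def tbK : Tb := .of 7 [(4, 2, [2, 1]), (5, 3, [3, 1, 0]), (6, 1, [1, 0]), (6, 2, [3]), (6, 3, [2]),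
  (6, 4, [5]), (6, 5, [4])]

def zt (i : ℕ) : List ℕ := if i % 2 = 0 then [1] else [1, 0]

def ta : List (ℕ × List ℕ) := [(1, [1, 0]), (2, [3]), (3, [2]), (4, [5]), (5, [4])]

def L4 : List (List (ℕ × List ℕ)) :=
  [[], [(2, [4]), (4, [2])], [(3, [5]), (5, [3])], [(2, [4]), (4, [2]), (3, [5]), (5, [3])]]

variable (h : Ab tbK X)
include h

theorem eq {w w' : List ℕ} (k : tbK.same w w' = true := by decide +kernel) : W X w = W X w' :=
  h.pres.W_eq k

theorem z1 : X 0 ≠ 1 := by simpa using h.ne (w := [0]) (w' := []) (by decide +kernel)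

theorem tt : X 6 * X 6 = 1 := by simpa using eq h (w := [6, 6]) (w' := [])

theorem cZ (hc : c ∈ H X 2) (ha : a ∈ H X 6) : c * a = a * c := by
  obtain ⟨w, hw, rfl⟩ := h.wd 2 (by decide) hc
  obtain ⟨w', hw', rfl⟩ := h.wd 6 (by decide) ha
  simpa using eq h ((by decide +kernel : ∀ w ∈ subs 2, ∀ w' ∈ subs 6,
    tbK.same (w ++ w') (w' ++ w) = true) w hw w' hw')

theorem dJ (ha : a ∈ H X 6) (hb : b ∈ H X 6) : a * b * a⁻¹ * b⁻¹ ∈ H X 2 := by
  obtain ⟨w, hw, rfl⟩ := h.wd 6 (by decide) ha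
  obtain ⟨w', hw', rfl⟩ := h.wd 6 (by decide) hb
  obtain ⟨c, -, k, k'⟩ := (by decide +kernel : ∀ w ∈ subs 6, ∀ w' ∈ subs 6, ∃ c ∈ subs 2,
    tbK.same (w ++ w') (c ++ (w' ++ w)) = true ∧ c.all (· < 2) = true) w hw w' hw'
  rw [← W_append, eq h k, W_append, W_append, mul_assoc, mul_assoc, mul_assoc, mul_inv_cancel_left,
    mul_inv_cancel, mul_one]
  exact W_mem k'

theorem zenJ (hy : y ∈ H X 6) (k : ∀ i < 6, X i * y = y * X i ∨ X i * y = y * (X 0 * X i)) :
    y ∈ H X 2 := by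
  obtain ⟨w, hw, rfl⟩ := h.wd 6 (by decide) hy
  rcases (by decide +kernel : ∀ w ∈ subs 6, (∃ i < 6, tbK.eqv (i :: w) (w ++ [i]) = false ∧
    tbK.eqv (i :: w) (w ++ [0, i]) = false) ∨ w.all (· < 2) = true) w hw with ⟨i, hi, m⟩ | m
  · exact ((k i hi).elim (fun e => h.ne m.1 (by simpa using e)) fun e => h.ne m.2 (by simpa using e)).elim
  · exact W_mem m

theorem norZ (hy : y ∈ nor (H X 6)) : y ∈ nor (H X 2) := nor_H fun i hi =>
  zenJ h ((mem_normalizer_iff.1 hy _).1 (x_mem (by omega))) fun j hj => Or.inl (by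
    have := cZ h (x_mem hi) ((mem_normalizer_iff''.1 hy _).1 (x_mem hj))
    calc X j * (y * X i * y⁻¹) = y * (y⁻¹ * X j * y * X i) * y⁻¹ := by group
      _ = _ := by rw [← this]; group)

theorem fix (hy : y ∈ nor (H X 2)) (k : y * X 0 * y⁻¹ = X 0) :
    y * X 1 * y⁻¹ = X 1 ∨ y * X 1 * y⁻¹ = X 1 * X 0 := by
  obtain ⟨w, hw, e⟩ := h.wd 2 (by decide) ((mem_normalizer_iff.1 hy _).1 (x_mem (show 1 < 2 by decide)))
  simp only [subs, List.map_cons, List.map_nil, List.cons_append, List.nil_append, List.mem_cons,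
    List.not_mem_nil, or_false] at hw
  rcases hw with rfl | rfl | rfl | rfl
  · exact absurd (by simpa using conj_eq_one_iff.1 e) (h.ne (w := [1]) (w' := []) (by decide +kernel))
  · rw [W_cons, W_nil, mul_one, ← k, mul_left_inj, mul_right_inj] at e
    exact absurd (by simpa using e) (h.ne (w := [1]) (w' := [0]) (by decide +kernel))
  · exact Or.inl (by simpa using e)
  · exact Or.inr (by simpa using e)

theorem PJ (hy : y ∈ H X 7) (k : y * X 1 = X 1 * y) : y ∈ H X 6 := by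
  obtain ⟨w, hw, rfl⟩ := h.wd 7 le_rfl hy
  rcases (by decide +kernel : ∀ w ∈ subs 7, tbK.eqv (w ++ [1]) (1 :: w) = false ∨
    w.all (· < 6) = true) w hw with m | m
  exacts [absurd (by simpa using k) (h.ne m), W_mem m]

/-- The image of a generator. -/
theorem one (hy : y ∈ nor (H X 6)) {i j : ℕ} (hi : i ∈ [2, 3, 4, 5]) (hj : j ∈ [2, 3])
    (e : y * W X (zt i) * y⁻¹ = W X (zt j)) : ∃ r ∈ [j, j + 2], ∃ c ∈ H X 2, y * X i * y⁻¹ = X r * c := by
  obtain ⟨i2, i6, sq, T1⟩ := (by decide +kernel : ∀ i ∈ [2, 3, 4, 5], 2 ≤ i ∧ i < 6 ∧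
    tbK.same [i, i] [] = true ∧ ∀ w ∈ subs 6, tbK.same (i :: w) (w ++ [i]) = true ∨
      tbK.same (i :: w) (w ++ i :: zt i) = true) i hi
  obtain ⟨w, hw, k⟩ := h.wd 6 (by decide) ((mem_normalizer_iff.1 hy _).1 (x_mem i6))
  rcases (by decide +kernel : ∀ j ∈ [2, 3], ∀ w ∈ subs 6, tbK.eqv (w ++ w) [] = false ∨
    (∃ l < 6, tbK.eqv (w ++ [l]) (l :: w) = false ∧ tbK.eqv (w ++ [l]) (l :: (w ++ zt j)) = false) ∨
    w.all (· < 2) = true ∨ ∃ r ∈ [j, j + 2], ∃ c ∈ subs 2, w = r :: c ∧ c.all (· < 2) = true) j hj w hw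
    with m | ⟨l, hl, m⟩ | m | ⟨r, hr, c, -, rfl, m⟩
  · refine absurd ?_ (h.ne m)
    rw [W_append, ← k, conj_mul, show X i * X i = 1 by simpa using eq h sq]; simp
  · obtain ⟨w', hw', k'⟩ := h.wd 6 (by decide) ((mem_normalizer_iff''.1 hy _).1 (x_mem hl))
    have q : X l = y * W X w' * y⁻¹ := by rw [← k']; group
    rcases T1 w' hw' with t | t <;> have t := eq h t <;>
      simp only [W_append, W_cons, W_nil, mul_one] at t
    · refine absurd ?_ (h.ne m.1)
      simp only [W_append, W_cons, W_nil, mul_one]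
      rw [← k, q, conj_mul, conj_mul, t]
    · refine absurd ?_ (h.ne m.2)
      simp only [W_append, W_cons, W_nil, mul_one]
      rw [← k, q, ← e, conj_mul, conj_mul, conj_mul, t]
  · exact absurd (H_mono i2 ((mem_normalizer_iff.1 (norZ h hy) _).2 (k ▸ W_mem m))) (h.ind i (by
      change i < 7; omega))
  · exact ⟨r, hr, _, W_mem m, by simpa using k⟩

theorem pair (hy : y ∈ nor (H X 6)) {j : ℕ} (hj : j ∈ [2, 3]) (e : y * W X (zt j) * y⁻¹ = W X (zt j)) :
    ((∃ c ∈ H X 2, y * X j * y⁻¹ = X j * c) ∧ ∃ c ∈ H X 2, y * X (j + 2) * y⁻¹ = X (j + 2) * c) ∨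
    ((∃ c ∈ H X 2, y * X j * y⁻¹ = X (j + 2) * c) ∧ ∃ c ∈ H X 2, y * X (j + 2) * y⁻¹ = X j * c) := by
  obtain ⟨j1, j2, j3, j4, j5⟩ := (by decide +kernel : ∀ j ∈ [2, 3], j ∈ [2, 3, 4, 5] ∧
    j + 2 ∈ [2, 3, 4, 5] ∧ zt (j + 2) = zt j ∧ tbK.eqv [j, j + 2] [j + 2, j] = false ∧ j + 2 < 6) j hj
  obtain ⟨r, hr, c, hc, k⟩ := one h hy j1 hj e
  obtain ⟨r', hr', c', hc', k'⟩ := one h hy j2 hj (j3 ▸ e)
  have ne : r ≠ r' := by
    rintro rfl
    have r6 : X r ∈ H X 6 := x_mem (by simp at hr; omega)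
    refine h.ne j4 ?_
    simp only [W_cons, W_nil, mul_one]
    rw [← mul_right_inj y, ← mul_left_inj y⁻¹, ← conj_mul, ← conj_mul, k, k', mul_assoc, mul_assoc,
      cZ h hc (mul_mem r6 (H_mono (by decide) hc')), cZ h hc' (mul_mem r6 (H_mono (by decide) hc)),
      mul_assoc, mul_assoc, cZ h hc (H_mono (by decide) hc')]
  simp only [List.mem_cons, List.not_mem_nil, or_false] at hr hr'
  rcases hr with rfl | rfl <;> rcases hr' with rfl | rfl
  exacts [absurd rfl ne, Or.inl ⟨⟨c, hc, k⟩, c', hc', k'⟩, Or.inr ⟨⟨c, hc, k⟩, c', hc', k'⟩,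
    absurd rfl ne]

/-- The action on `J / Z₀` of an element that centralizes `Z₀`. -/
theorem actZ (hy : y ∈ nor (H X 6)) (k0 : y * X 0 * y⁻¹ = X 0) (k1 : y * X 1 * y⁻¹ = X 1) :
    ∃ ε ∈ L4, ∀ w : List ℕ, w.all (· < 6) = true →
      ∃ c ∈ H X 2, y * W X w * y⁻¹ = W X (app ε w) * c := by
  have key : ∀ ε, (∀ i < 6, ∃ c ∈ H X 2, y * X i * y⁻¹ = W X (app ε [i]) * c) →
      ∀ w : List ℕ, w.all (· < 6) = true → ∃ c ∈ H X 2, y * W X w * y⁻¹ = W X (app ε w) * c :=
    fun ε k w hw => by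
      induction w with
      | nil => exact ⟨1, one_mem _, by simp [app]⟩
      | cons i w ih =>
        simp only [List.all_cons, Bool.and_eq_true, decide_eq_true_eq] at hw
        obtain ⟨c, hc, e⟩ := k i hw.1
        obtain ⟨c', hc', e'⟩ := ih hw.2
        refine ⟨c' * c, mul_mem hc' hc, ?_⟩
        rw [W_cons, ← conj_mul, e, mul_assoc,
          cZ h hc ((mem_normalizer_iff.1 hy _).1 (W_mem hw.2)), e',
          show app ε (i :: w) = app ε [i] ++ app ε w by simp [app], W_append]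
        group
  have a0 : ∃ c ∈ H X 2, y * X 0 * y⁻¹ = X 0 * c := ⟨1, one_mem _, by rw [k0, mul_one]⟩
  have a1 : ∃ c ∈ H X 2, y * X 1 * y⁻¹ = X 1 * c := ⟨1, one_mem _, by rw [k1, mul_one]⟩
  rcases pair h hy (j := 2) (by simp) (by simpa [zt] using k1) with ⟨a2, a4⟩ | ⟨a2, a4⟩ <;>
    rcases pair h hy (j := 3) (by simp) (by
      simp only [zt]; simp only [Nat.reduceMod, one_ne_zero, if_false, W_cons, W_nil, mul_one]
      rw [← conj_mul, k0, k1]) with ⟨a3, a5⟩ | ⟨a3, a5⟩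
  · exact ⟨_, by simp [L4], key [] fun i hi => by interval_cases i <;> wsimp <;> assumption⟩
  · exact ⟨_, by simp [L4], key [(3, [5]), (5, [3])] fun i hi => by
      interval_cases i <;> wsimp <;> assumption⟩
  · exact ⟨_, by simp [L4], key [(2, [4]), (4, [2])] fun i hi => by
      interval_cases i <;> wsimp <;> assumption⟩
  · exact ⟨_, by simp [L4], key [(2, [4]), (4, [2]), (3, [5]), (5, [3])] fun i hi => by
      interval_cases i <;> wsimp <;> assumption⟩

variable (hS : IsSyl 2 S (nor (H X 6))) (l : H X 7 ≤ S)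
include hS l

theorem xS {i : ℕ} (hi : i < 7) : X i ∈ S := l (x_mem hi)

theorem zen (hy : y ∈ S) (k : y ∈ cen S) : y = 1 ∨ y = X 0 := by
  have c : ∀ i < 7, X i * y = y * X i := fun i hi => mcen.1 k _ (xS h hS l hi)
  obtain ⟨w, hw, rfl⟩ := h.wd 7 le_rfl (h.inP hS.isPGroup l hy (nor_H fun i hi => by
    rw [← c i (by omega), mul_inv_cancel_right]; exact x_mem hi))
  rcases (by decide +kernel : ∀ w ∈ subs 7, (∃ i < 7, tbK.eqv (i :: w) (w ++ [i]) = false) ∨
    w = [] ∨ w = [0]) w hw with ⟨i, hi, e⟩ | rfl | rfl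
  · exact absurd (by simpa using c i hi) (h.ne e)
  all_goals simp

theorem zS : X 0 ∈ cen S := by
  have l2 : H X 2 ≤ S := (H_mono (by decide)).trans l
  obtain ⟨e, e1, e2, -, e3⟩ := H14.exists_central_orderOf_eq (p := 2) (Q := H X 2) (R := S)
    (hS.isPGroup.to_le l2) hS.isPGroup (fun y hy => norZ h (hS.le hy))
    fun k => z1 h (mem_bot.1 (k ▸ x_mem (show 0 < 2 by decide)))
  rcases zen h hS l (l2 e1) e3 with k | k
  · simp [k] at e2
  · exact k ▸ e3

theorem yz (hy : y ∈ S) : y * X 0 * y⁻¹ = X 0 := by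
  rw [mcen.1 (zS h hS l) y hy, mul_inv_cancel_right]

theorem bound : Nat.card S ≤ 1024 := by
  have k : ∀ y : S, ∃ b : Bool × Bool × Bool,
      (∃ c ∈ H X 2, y * X 2 * y.1⁻¹ = X ((bif b.1 then 3 else 2) + bif b.2.1 then 2 else 0) * c) ∧
      ∃ c ∈ H X 2, y * X 3 * y.1⁻¹ = X ((bif b.1 then 2 else 3) + bif b.2.2 then 2 else 0) * c := by
    rintro ⟨y, hy⟩
    have k0 := yz h hS l hy
    rcases fix h (norZ h (hS.le hy)) k0 with k | k
    · obtain ⟨r, hr, a⟩ := one h (hS.le hy) (i := 2) (j := 2) (by simp) (by simp) (by simpa [zt] using k)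
      obtain ⟨r', hr', b⟩ := one h (hS.le hy) (i := 3) (j := 3) (by simp) (by simp) (by
        simp only [zt]; simp only [Nat.reduceMod, one_ne_zero, if_false, W_cons, W_nil, mul_one]
        rw [← conj_mul, k0, k])
      simp only [List.mem_cons, List.not_mem_nil, or_false] at hr hr'
      rcases hr with rfl | rfl <;> rcases hr' with rfl | rfl
      exacts [⟨(false, false, false), a, b⟩, ⟨(false, false, true), a, b⟩, ⟨(false, true, false), a, b⟩,
        ⟨(false, true, true), a, b⟩]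
    · obtain ⟨r, hr, a⟩ := one h (hS.le hy) (i := 2) (j := 3) (by simp) (by simp) (by simpa [zt] using k)
      obtain ⟨r', hr', b⟩ := one h (hS.le hy) (i := 3) (j := 2) (by simp) (by simp) (by
        simp only [zt]
        simp only [Nat.reduceMod, one_ne_zero, if_false, if_true, W_cons, W_nil, mul_one]
        rw [← conj_mul, k0, k, mul_assoc, h.el _ (x_mem (by decide)), mul_one])
      simp only [List.mem_cons, List.not_mem_nil, or_false] at hr hr'
      rcases hr with rfl | rfl <;> rcases hr' with rfl | rfl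
      exacts [⟨(true, false, false), a, b⟩, ⟨(true, false, true), a, b⟩, ⟨(true, true, false), a, b⟩,
        ⟨(true, true, true), a, b⟩]
  choose f hf using k
  have := card_le_mul (K := H X 7) f fun a b e => h.inP hS.isPGroup l (mul_mem (inv_mem a.2) b.2) (by
    have n2 := mem_normalizer_iff''.1 (norZ h (hS.le a.2))
    have q : ∀ i < 4, ∀ r, (∃ c ∈ H X 2, a * X i * a.1⁻¹ = r * c) → (∃ c ∈ H X 2, b * X i * b.1⁻¹ = r * c) →
        a.1⁻¹ * b * X i * (a.1⁻¹ * b)⁻¹ ∈ H X 4 := fun i hi r ⟨c, hc, e1⟩ ⟨c', hc', e2⟩ => by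
      rw [show a.1⁻¹ * b * X i * (a.1⁻¹ * b)⁻¹ = a.1⁻¹ * (b * X i * b.1⁻¹) * a by group, e2,
        eq_mul_inv_of_mul_eq e1.symm,
        show a.1⁻¹ * (a * X i * a.1⁻¹ * c⁻¹ * c') * a = X i * (a.1⁻¹ * (c⁻¹ * c') * a) by group]
      exact mul_mem (x_mem hi) (H_mono (by decide) ((n2 _).1 (mul_mem (inv_mem hc) hc')))
    refine nor_H fun i hi => ?_
    by_cases i2 : i < 2
    · exact H_mono (by decide) ((mem_normalizer_iff.1 (norZ h (hS.le (mul_mem (inv_mem a.2) b.2))) _).1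
        (x_mem i2))
    · interval_cases i
      exacts [q 2 hi _ (hf a).1 (e ▸ (hf b).1), q 3 hi _ (hf a).2 (e ▸ (hf b).2)])
  rw [h.card 7 le_rfl] at this
  simpa using this

theorem nz (hn : n ∈ nor S) : n * X 0 * n⁻¹ = X 0 :=
  (zen h hS l ((mem_normalizer_iff.1 hn _).1 (xS h hS l (by decide))) (mcen.2 fun y hy => by
    have := mcen.1 (zS h hS l) _ ((mem_normalizer_iff''.1 hn y).1 hy)
    calc y * (n * X 0 * n⁻¹) = n * (n⁻¹ * y * n * X 0) * n⁻¹ := by group
      _ = _ := by rw [this]; group)).resolve_left fun k => z1 h (conj_eq_one_iff.1 k)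

theorem nZ (hn : n ∈ nor S) : n ∈ nor (H X 2) := by
  have k0 := nz h hS l hn
  have c : ∀ i < 6, X i * (n * X 1 * n⁻¹) = n * X 1 * n⁻¹ * X i ∨
      X i * (n * X 1 * n⁻¹) = n * X 1 * n⁻¹ * (X 0 * X i) := fun i hi => by
    have y' := (mem_normalizer_iff''.1 hn _).1 (xS h hS l (show i < 7 by omega))
    have e : X i * (n * X 1 * n⁻¹) = n * (n⁻¹ * X i * n * X 1 * (n⁻¹ * X i * n)⁻¹) * n⁻¹ * X i := by group
    exact (fix h (norZ h (hS.le y')) (yz h hS l y')).imp (fun k => by rw [e, k])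
      fun k => by rw [e, k, ← conj_mul, k0, mul_assoc _ (X 0)]
  have f4 : X 1 ∈ H X 4 := x_mem (by decide)
  have : n * X 1 * n⁻¹ ∈ H X 2 := zenJ h (h.invP (h.inP hS.isPGroup l
    ((mem_normalizer_iff.1 hn _).1 (xS h hS l (by decide))) (inv_mem_iff.1 (nor_H fun i hi => by
      generalize n * X 1 * n⁻¹ = u at c
      rw [inv_inv, mul_assoc]
      rcases c i (by omega) with k | k <;> rw [k, inv_mul_cancel_left]
      exacts [x_mem hi, mul_mem (x_mem (by decide)) (x_mem hi)])))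
    (by rw [conj_mul, h.el _ f4]; simp) fun k => E1.notD h.toKT h.el (h.card 4 (by decide)) f4
      (k.trans (isConj_iff.2 ⟨n⁻¹, by group⟩))) c
  refine nor_H fun i hi => ?_
  interval_cases i
  exacts [k0.symm ▸ x_mem hi, this]

/-- If `J ∩ Jⁿ` contains an involution outside `Z₀` then `Jⁿ = J`. -/
theorem key (hn : n ∈ nor S) (he : e ∈ H X 6) (he' : e ∈ H98.cj n (H X 6)) (ee : e * e = 1)
    (eZ : e ∉ H X 2) : H98.cj n (H X 6) ≤ H X 6 := fun y hy => by
  have n2 := nZ h hS l hn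
  have yS : y ∈ S := cj_le_of_le ((H_mono (by decide)).trans l) hn hy
  have nE : S ≤ nor (H98.cj n (H X 6)) := by
    rw [nor, ← cj_normalizer, ← cj_eq_self hn]; exact cj_mono _ hS.le
  have cz : ∀ c ∈ H X 2, y * c * y⁻¹ = c := fun c hc => by
    have := cZ h ((mem_normalizer_iff''.1 n2 c).1 hc) (mem_cj.1 hy)
    calc y * c * y⁻¹ = n * (n⁻¹ * y * n * (n⁻¹ * c * n)) * n⁻¹ * y⁻¹ := by group
      _ = _ := by rw [← this]; group
  obtain ⟨ε, hε, act⟩ := actZ h (hS.le yS) (cz _ (x_mem (by decide))) (cz _ (x_mem (by decide)))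
  have q : ∀ w : List ℕ, w.all (· < 6) = true → W X w ∈ H98.cj n (H X 6) →
      ¬ ∀ c ∈ subs 2, tbK.eqv (app ε w) (c ++ w) = false := fun w hw m k => by
    obtain ⟨c, hc, e⟩ := act w hw
    have d := (mem_normalizer_iff.1 n2 _).1 (dJ h (mem_cj.1 hy) (mem_cj.1 m))
    rw [show n * (n⁻¹ * y * n * (n⁻¹ * W X w * n) * (n⁻¹ * y * n)⁻¹ * (n⁻¹ * W X w * n)⁻¹) * n⁻¹ =
      y * W X w * y⁻¹ * (W X w)⁻¹ by group, e, mul_assoc, cZ h hc (inv_mem (W_mem hw)), ← mul_assoc,
      mul_mem_cancel_right hc] at d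
    obtain ⟨c, hc, e⟩ := h.wd 2 (by decide) d
    exact h.ne (k c hc) (by rw [W_append, ← e]; group)
  obtain ⟨w, hw, rfl⟩ := h.wd 6 (by decide) he
  have ht : Act X (X 6) [0, 1, 2, 3, 4, 5] ta := fun r hr => by
    rw [mul_inv_eq_iff_eq_mul]
    simpa using eq h ((by decide +kernel : ∀ r ∈ [0, 1, 2, 3, 4, 5],
      tbK.same [6, r] (app ta [r] ++ [6]) = true) r hr)
  obtain ⟨w1, w2, w3, w4⟩ := (by decide +kernel : ∀ w ∈ subs 6, w.all (· < 6) = true ∧
    w.all (· ∈ [0, 1, 2, 3, 4, 5]) = true ∧ (app ta w).all (· < 6) = true ∧ ∀ ε ∈ L4,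
      tbK.eqv (w ++ w) [] = false ∨ w.all (· < 2) = true ∨ ε = [] ∨
      (∀ c ∈ subs 2, tbK.eqv (app ε w) (c ++ w) = false) ∨
      ∀ c ∈ subs 2, tbK.eqv (app ε (app ta w)) (c ++ app ta w) = false) w hw
  rcases w4 ε hε with m | m | rfl | m | m
  · exact absurd (by simpa using ee) (h.ne m)
  · exact absurd (W_mem m) eZ
  · refine PJ h (h.inP hS.isPGroup l yS (nor_H fun i hi => ?_))
      (mul_inv_eq_iff_eq_mul.1 (cz _ (x_mem (by decide))))
    obtain ⟨c, hc, e⟩ := act [i] (by simp; omega)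
    simp only [app, List.flatMap_cons, List.flatMap_nil, List.find?, Option.map_none, Option.getD_none,
      List.append_nil, W_cons, W_nil, mul_one] at e
    exact e ▸ mul_mem (x_mem hi) (H_mono (by decide) hc)
  · exact absurd m (q w w1 he')
  · exact absurd m (q _ w3 (ht.w w2 ▸ (mem_normalizer_iff.1 (nE (xS h hS l (by decide))) _).1 he'))

theorem norJ (hn : n ∈ nor S) : n ∈ nor (H X 6) := by
  refine mem_normalizer_of_cj_le (by_contra fun ne => ?_)
  have n2 := nZ h hS l hn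
  have k0 := nz h hS l hn
  have tS := (mem_normalizer_iff''.1 hn _).1 (xS h hS l (show 6 < 7 by decide))
  have tf : X 6 * X 1 * (X 6)⁻¹ = X 1 * X 0 := by
    rw [mul_inv_eq_iff_eq_mul]; simpa [mul_assoc] using eq h (w := [6, 1]) (w' := [1, 0, 6])
  have tz := yz h hS l (xS h hS l (show 6 < 7 by decide))
  obtain ⟨r, hr, c, hc, e⟩ := one h (hS.le tS) (i := 2) (j := 3) (by simp) (by simp) (by
    simp only [zt]
    simp only [Nat.reduceMod, one_ne_zero, if_false, if_true, W_cons, W_nil, mul_one]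
    have : X 6 * (n * X 1 * n⁻¹) * (X 6)⁻¹ = n * X 1 * n⁻¹ * (n * X 0 * n⁻¹) := by
      rcases fix h n2 k0 with k | k <;> rw [k, k0]
      exacts [tf, by rw [← conj_mul, tf, tz]]
    calc _ = n⁻¹ * (X 6 * (n * X 1 * n⁻¹) * (X 6)⁻¹) * n := by group
      _ = _ := by rw [this]; group)
  obtain ⟨r1, r2, r3, r4⟩ := (by decide +kernel : ∀ r ∈ [3, 3 + 2], r < 6 ∧ tbK.same [r, 2] [2, r] = true ∧
    tbK.same [r, r] [] = true ∧ ∀ c ∈ subs 2, tbK.eqv [2, r] c = false) r hr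
  have x2 : X 2 ∈ H X 6 := x_mem (by decide)
  have c6 : c ∈ H X 6 := H_mono (by decide) hc
  have cm : X r * c * X 2 = X 2 * (X r * c) := by
    rw [mul_assoc, cZ h hc x2, ← mul_assoc, ← mul_assoc]
    simpa using eq h r2
  have e6 : X 2 * (X r * c) ∈ H X 6 := mul_mem x2 (mul_mem (x_mem r1) c6)
  have a2 : X 2 * X 2 = 1 := h.el _ (x_mem (by decide))
  have u2 : X r * c * (X r * c) = 1 := by rw [← e, conj_mul, a2]; group
  have ee : X 2 * (X r * c) * (X 2 * (X r * c)) = 1 := by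
    rw [mul_assoc, ← mul_assoc (X r * c), cm, mul_assoc, u2, mul_one, a2]
  have et : n⁻¹ * X 6 * n * (X 2 * (X r * c)) * (n⁻¹ * X 6 * n)⁻¹ = X 2 * (X r * c) := by
    rw [← conj_mul, ← cm, e]
    congr 1
    rw [← e, show n⁻¹ * X 6 * n * (n⁻¹ * X 6 * n * X 2 * (n⁻¹ * X 6 * n)⁻¹) * (n⁻¹ * X 6 * n)⁻¹ =
      n⁻¹ * (X 6 * X 6) * n * X 2 * (n⁻¹ * (X 6 * X 6) * n)⁻¹ by group, tt h]
    group
  have eZ : X 2 * (X r * c) ∉ H X 2 := fun k => by
    rw [← mul_assoc, mul_mem_cancel_right hc] at k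
    obtain ⟨c, hc, k⟩ := h.wd 2 (by decide) k
    exact h.ne (r4 c hc) (by simpa using k)
  generalize X 2 * (X r * c) = d at e6 ee et eZ
  have e1 : n * d * n⁻¹ ∈ H98.cj n (H X 6) := conj_mem_cj e6
  have e2 : n * d * n⁻¹ * (n * d * n⁻¹) = 1 := by rw [conj_mul, ee]; group
  have e3 : n * d * n⁻¹ * X 6 = X 6 * (n * d * n⁻¹) := by
    conv_lhs => rw [← et]
    group
  have e4 : n * d * n⁻¹ ∉ H X 7 := fun k => ne (key h hS l hn (PJ h k (by
    have := cZ h ((mem_normalizer_iff''.1 n2 _).1 (x_mem (show 1 < 2 by decide))) e6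
    calc _ = n * (d * (n⁻¹ * X 1 * n)) * n⁻¹ := by group
      _ = _ := by rw [← this]; group)) e1 e2 fun k => eZ ((mem_normalizer_iff.1 n2 _).2 k))
  have e5 : n * d * n⁻¹ ∈ S := (mem_normalizer_iff.1 hn _).1 (l (H_mono (by decide) e6))
  generalize n * d * n⁻¹ = e at e2 e3 e4 e5
  have c16 := card_sub h.pres h.ind (Tb.of 4 [(3, 1, [1, 0])]) [(1, [2, 3]), (2, [6]), (3, [4, 5])] rfl
    (by decide +kernel) (by decide +kernel)
  have := h.inv _ (IsConj.refl _) [X 0, X 2 * X 3, X 6, X 4 * X 5, e] (by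
      simp only [List.forall_mem_cons, List.not_mem_nil, false_imp_iff, implies_true, and_true]
      exact ⟨h.el _ (x_mem (by decide)), h.el _ (mul_mem (x_mem (by decide)) (x_mem (by decide))), tt h,
        by simpa [mul_assoc] using eq h (w := [4, 5, 4, 5]) (w' := []), e2⟩)
    (cl_le.2 (by
      simp only [List.forall_mem_cons, List.not_mem_nil, false_imp_iff, implies_true, and_true, mc1]
      exact ⟨by simpa using eq h (w := [0, 6]) (w' := [6, 0]),
        by simpa [mul_assoc] using eq h (w := [2, 3, 6]) (w' := [6, 2, 3]), trivial,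
        by simpa [mul_assoc] using eq h (w := [4, 5, 6]) (w' := [6, 4, 5]), e3⟩))
    (hS.isPGroup.to_le (cl_le.2 (by
      simp only [List.forall_mem_cons, List.not_mem_nil, false_imp_iff, implies_true, and_true]
      exact ⟨xS h hS l (by decide), mul_mem (xS h hS l (by decide)) (xS h hS l (by decide)),
        xS h hS l (by decide), mul_mem (xS h hS l (by decide)) (xS h hS l (by decide)), e5⟩)))
  have q := eq_of_le_of_card_ge (H_le fun i (hi : i < 4) => by
    interval_cases i <;> wsimp <;> exact mem_cl (by simp)) (this.trans_eq c16.symm)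
  refine e4 (H_le (k := 4) (fun i hi => W_mem ?_) (q.ge (mem_cl (by simp))))
  interval_cases i <;> rfl

omit h hS l in
theorem jobE4 : JobE4.{u} := by
  intro G _ _ t z f v g s x h
  have wf : tbK.wf = true := by decide +kernel
  have p : Pres tbK (val [z, f, g, v * g, x, x * s, t]) :=
    h.pres.derive' _ [(2, [3]), (3, [2, 3]), (4, [5]), (5, [5, 4])] (fun i hi => by
      change i < 7 at hi
      interval_cases i <;> wsimp) wf (by decide +kernel)
  have e4 : cl [z, f, g, v * g] = cl [z, f, v, g] := le_antisymm (cl_le.2 (by simp [mem_cl, mul_mem]))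
    (cl_le.2 (by
      have : v ∈ cl [z, f, g, v * g] := (mul_mem_cancel_right (mem_cl (by simp) : g ∈ _)).1 (mem_cl (by simp))
      simp [mem_cl, this]))
  have e7 : cl [z, f, g, v * g, x, x * s, t] = cl [z, f, v, g, s, x, t] :=
    le_antisymm (cl_le.2 (by simp [mem_cl, mul_mem])) (cl_le.2 (by
      have : v ∈ cl [z, f, g, v * g, x, x * s, t] :=
        (mul_mem_cancel_right (mem_cl (by simp) : g ∈ _)).1 (mem_cl (by simp))
      have : s ∈ cl [z, f, g, v * g, x, x * s, t] :=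
        (mul_mem_cancel_left (mem_cl (by simp) : x ∈ _)).1 (mem_cl (by simp))
      simp [mem_cl, *]))
  have k : Ab tbK (val [z, f, g, v * g, x, x * s, t]) := ⟨h.toKT, rfl, wf, p,
    p.ind_of_card wf le_rfl (by rw [H_val]; exact e7 ▸ h.card), by
      rw [H_val, H_val]; exact e7 ▸ e4 ▸ h.syl, by decide +kernel, by decide +kernel⟩
  obtain ⟨S, hS, l⟩ := k.exS
  exact Ab.fin hS (fun n hn => norJ k hS l hn) (bound k hS l)

end H36.S3.E4
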