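import Cfsg.Agent.H85.S3Kit
import Cfsg.Agent.H30.DZL

/-! S3-Z1: `F = Z₄²` inverted by `t`; the conjugates of `t` in `C_P(V)` lie in `F ⟨t⟩`. -/

set_option autoImplicit false
set_option linter.unusedSectionVars false

namespace H36.S3

export H85.FZ (cl)

open Subgroup Cfsg H98 H1.Gold H85.FZ H49.D8 H85.S3

universe u

variable {G : Type u} [Group G] [Finite G] {t z v f g s σ a b e r x y n : G} {P : Subgroup G}

theorem wf : (tbF true).wf = true := by decide +kernel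

/-- The square of `y t y⁻¹ t⁻¹`. -/
def q (t y : G) : G := y * t * y⁻¹ * t⁻¹ * (y * t * y⁻¹ * t⁻¹)

theorem q_cj (k : n * t * n⁻¹ = t) (y : G) : q t (n * y * n⁻¹) = n * q t y * n⁻¹ := by
  conv_lhs => rw [← k]
  simp only [q]; group

section

variable (h : SF true t z v f g s σ)
include h

theorem ind : Ind (val [z, v, f, g, t, s]) 6 :=
  h.pres.ind_of_card wf le_rfl (by rw [H_val]; exact h.card)

theorem eq {w w' : List ℕ} (k : (tbF true).same w w' = true := by decide +kernel) :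
    W (val [z, v, f, g, t, s]) w = W (val [z, v, f, g, t, s]) w' := h.pres.W_eq k

theorem ne {w w' : List ℕ} (k : (tbF true).eqv w w' = false := by decide +kernel) :
    W (val [z, v, f, g, t, s]) w ≠ W (val [z, v, f, g, t, s]) w' := h.pres.ne (ind h) k

theorem wd (ha : a ∈ cl [z, v, f, g]) : ∃ w ∈ subs 4, a = W (val [z, v, f, g, t, s]) w :=
  h.pres.mem_cl wf 4 (by decide) ha

theorem zz : z * z = 1 := by simpa using eq h (w := [0, 0]) (w' := [])
theorem vv : v * v = 1 := by simpa using eq h (w := [1, 1]) (w' := [])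
theorem tt : t * t = 1 := by simpa using eq h (w := [4, 4]) (w' := [])
theorem ff : f * f = z := by simpa using eq h (w := [2, 2]) (w' := [0])
theorem gg : g * g = v := by simpa using eq h (w := [3, 3]) (w' := [1])
theorem fgfg : f * g * (f * g) = v * z := by
  simpa [mul_assoc] using eq h (w := [2, 3, 2, 3]) (w' := [1, 0])
theorem z1 : z ≠ 1 := by simpa using ne h (w := [0]) (w' := [])
theorem v1 : v ≠ 1 := by simpa using ne h (w := [1]) (w' := [])
theorem vz1 : v * z ≠ 1 := by simpa using ne h (w := [1, 0]) (w' := [])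

omit h in
theorem VF : cl [z, v] ≤ cl [z, v, f, g] := cl_mono (by simp)
omit h in
theorem FR : cl [z, v, f, g] ≤ cl [z, v, f, g, t] := cl_mono (by simp)
omit h in
theorem fF : f ∈ cl [z, v, f, g] := mem_cl (by simp)
omit h in
theorem gF : g ∈ cl [z, v, f, g] := mem_cl (by simp)
omit h in
theorem tR : t ∈ cl [z, v, f, g, t] := mem_cl (by simp)

theorem comm (ha : a ∈ cl [z, v, f, g]) (hb : b ∈ cl [z, v, f, g]) : a * b = b * a := by
  obtain ⟨w, hw, rfl⟩ := wd h ha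
  obtain ⟨w', hw', rfl⟩ := wd h hb
  rw [← W_append, ← W_append]
  exact eq h ((by decide +kernel : ∀ w ∈ subs 4, ∀ w' ∈ subs 4,
    (tbF true).same (w ++ w') (w' ++ w) = true) w hw w' hw')

theorem tinv (ha : a ∈ cl [z, v, f, g]) : t * a * t⁻¹ = a⁻¹ := by
  obtain ⟨w, hw, rfl⟩ := wd h ha
  have := eq h ((by decide +kernel : ∀ w ∈ subs 4, (tbF true).same (w ++ 4 :: w) [4] = true) w hw)
  simp only [W_append, W_cons, W_nil, mul_one] at this
  change _ * (t * _) = t at this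
  rw [eq_inv_iff_mul_eq_one, ← eq_inv_iff_mul_eq_one, mul_inv_eq_iff_eq_mul, eq_inv_mul_iff_mul_eq]
  exact this

theorem memV (he : e ∈ cl [z, v]) : e = 1 ∨ e = z ∨ e = v ∨ e = v * z := by
  obtain ⟨w, hw, rfl⟩ := h.pres.mem_cl wf 2 (by decide) he
  simp only [subs, List.map_cons, List.map_nil, List.cons_append, List.nil_append, List.mem_cons,
    List.not_mem_nil, or_false] at hw
  rcases hw with rfl | rfl | rfl | rfl <;> simp

theorem sqV (ha : a ∈ cl [z, v, f, g]) : a * a ∈ cl [z, v] := by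
  obtain ⟨w, hw, rfl⟩ := wd h ha
  obtain ⟨w', k1, k2⟩ := (by decide +kernel : ∀ w ∈ subs 4, ∃ w' ∈ subs 2,
    (tbF true).same (w ++ w) w' = true ∧ w'.all (· < 2) = true) w hw
  rw [← W_append, eq h k2.1]
  exact W_mem_cl [z, v, f, g, t, s] 2 k2.2

theorem ofsq (ha : a ∈ cl [z, v, f, g]) (k : a * a = 1) : a ∈ cl [z, v] := by
  obtain ⟨w, hw, rfl⟩ := wd h ha
  rw [← W_append] at k
  rcases (by decide +kernel : ∀ w ∈ subs 4, (tbF true).eqv (w ++ w) [] = false ∨
    w.all (· < 2) = true) w hw with m | m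
  exacts [absurd k (ne h m), W_mem_cl [z, v, f, g, t, s] 2 m]

theorem root (he : e ∈ cl [z, v]) : ∃ a ∈ cl [z, v, f, g], a * a = e := by
  rcases memV h he with rfl | rfl | rfl | rfl
  exacts [⟨1, one_mem _, mul_one _⟩, ⟨f, fF, ff h⟩, ⟨g, gF, gg h⟩, ⟨_, mul_mem fF gF, fgfg h⟩]

theorem zv : z * v = v * z := comm h (VF (m1 _ _)) (VF (m2 _ _))

theorem V2 (he : e ∈ cl [z, v]) : e * e = 1 := by
  rcases memV h he with rfl | rfl | rfl | rfl
  exacts [mul_one _, zz h, vv h, by rw [mul_assoc, ← mul_assoc z, zv h, mul_assoc, zz h, mul_one, vv h]]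

theorem memR (hr : r ∈ cl [z, v, f, g, t]) : r ∈ cl [z, v, f, g] ∨ t⁻¹ * r ∈ cl [z, v, f, g] := by
  have := h.pres.mem_succ wf (k := 4) (by decide) (g := r) (by rwa [H_val])
  rwa [H_val] at this

theorem tF : t ∉ cl [z, v, f, g] := fun k => ind h 4 (by decide) (by rwa [H_val])

/-- An element of `R` outside `F` inverts `F`. -/
theorem Rinv (hr : r ∈ cl [z, v, f, g, t]) :
    r ∈ cl [z, v, f, g] ∨ r * r = 1 ∧ r * f * r⁻¹ = f⁻¹ := by
  refine (memR h hr).imp_right fun k => ?_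
  obtain ⟨c, rfl⟩ : ∃ c, r = t * c := ⟨t⁻¹ * r, by group⟩
  rw [inv_mul_cancel_left] at k
  refine ⟨?_, ?_⟩
  · rw [show t * c * (t * c) = t * c * t⁻¹ * (t * t) * c by group, tinv h k, tt h]; group
  · rw [show t * c * f * (t * c)⁻¹ = t * (c * f * c⁻¹) * t⁻¹ by group, comm h k fF,
      mul_inv_cancel_right, tinv h fF]

theorem cenF (hr : r ∈ cl [z, v, f, g, t]) (k : r * f = f * r) : r ∈ cl [z, v, f, g] :=
  (Rinv h hr).resolve_right fun m => z1 h (by
    have := m.2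
    rw [k, mul_inv_cancel_right, eq_inv_iff_mul_eq_one] at this
    rw [← ff h, this])

theorem norF (hn : n ∈ nor (cl [z, v, f, g, t])) : n ∈ nor (cl [z, v, f, g]) := by
  have k : ∀ a ∈ cl [z, v, f, g], a * a ≠ 1 → n * a * n⁻¹ ∈ cl [z, v, f, g] := fun a ha e =>
    (Rinv h ((mem_normalizer_iff.1 hn a).1 (FR ha))).resolve_right fun m => e (by
      have := m.1
      rwa [conj_mul, conj_eq_one_iff] at this)
  have k1 := k f fF (ff h ▸ z1 h)
  have k2 := k g gF (gg h ▸ v1 h)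
  refine nor_cl (by
    simp only [List.forall_mem_cons, List.not_mem_nil, false_imp_iff, implies_true, and_true]
    exact ⟨by rw [← ff h, ← conj_mul, ff h]; exact mul_mem k1 k1,
      by rw [← gg h, ← conj_mul, gg h]; exact mul_mem k2 k2, k1, k2⟩)

theorem norV (hn : n ∈ nor (cl [z, v, f, g, t])) : n ∈ nor (cl [z, v]) := by
  have k : ∀ e ∈ cl [z, v], n * e * n⁻¹ ∈ cl [z, v] := fun e he => by
    obtain ⟨a, ha, rfl⟩ := root h he
    rw [← conj_mul]
    exact sqV h ((mem_normalizer_iff.1 (norF h hn) a).1 ha)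
  exact nor_cl fun e he => k e (mem_cl he)

theorem thF (hn : n ∈ nor (cl [z, v, f, g, t])) : n * t * n⁻¹ * t⁻¹ ∈ cl [z, v, f, g] := by
  rcases memR h ((mem_normalizer_iff.1 hn t).1 tR) with k | k
  · exact absurd ((mem_normalizer_iff.1 (norF h hn) t).2 k) (tF h)
  · have := tinv h k
    rw [mul_inv_cancel_left] at this
    exact this ▸ inv_mem k

/-- An element of `N(R)` that centralizes `V` is trivial on `F / V`. -/
theorem trF (hn : n ∈ nor (cl [z, v, f, g, t])) (hc : n ∈ cen (cl [z, v])) (ha : a ∈ cl [z, v, f, g]) :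
    n * a * n⁻¹ * a⁻¹ ∈ cl [z, v] := by
  have k := (mem_normalizer_iff.1 (norF h hn) a).1 ha
  refine ofsq h (mul_mem k (inv_mem ha)) ?_
  have e1 : n * a * n⁻¹ * (n * a * n⁻¹) = a * a := by
    rw [conj_mul, ← mcen.1 hc _ (sqV h ha), mul_inv_cancel_right]
  generalize n * a * n⁻¹ = b at k e1
  rw [mul_assoc, ← mul_assoc a⁻¹, comm h (inv_mem ha) k, mul_assoc, ← mul_assoc, e1]; group

theorem qV (hn : n ∈ nor (cl [z, v, f, g, t])) : q t n ∈ cl [z, v] := sqV h (thF h hn)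

theorem q_mul (hn : n ∈ nor (cl [z, v, f, g, t])) (hc : n ∈ cen (cl [z, v]))
    (hy : y ∈ nor (cl [z, v, f, g, t])) : q t (n * y) = q t y * q t n := by
  have k1 := thF h hn
  have k2 := thF h hy
  have k3 := (mem_normalizer_iff.1 (norF h hn) _).1 k2
  have e : n * y * t * (n * y)⁻¹ * t⁻¹ =
      n * (y * t * y⁻¹ * t⁻¹) * n⁻¹ * (n * t * n⁻¹ * t⁻¹) := by group
  have e1 : n * (y * t * y⁻¹ * t⁻¹) * n⁻¹ * (n * (y * t * y⁻¹ * t⁻¹) * n⁻¹) = q t y := by
    rw [conj_mul, ← q, ← mcen.1 hc _ (qV h hy), mul_inv_cancel_right]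
  rw [← e1, q, q, e]
  generalize n * (y * t * y⁻¹ * t⁻¹) * n⁻¹ = b at k3
  generalize n * t * n⁻¹ * t⁻¹ = c at k1
  rw [mul_assoc, ← mul_assoc c, comm h k1 k3]; group

theorem q_F (ha : a ∈ cl [z, v, f, g]) : q t a = 1 := by
  have : a * t * a⁻¹ * t⁻¹ = a * a := by
    rw [show a * t * a⁻¹ * t⁻¹ = a * (t * a⁻¹ * t⁻¹) by group, tinv h (inv_mem ha), inv_inv]
  rw [q, this, V2 h (sqV h ha)]

theorem xx (hx : IsConj t x) : x * x = 1 := by
  obtain ⟨c, rfl⟩ := isConj_iff.1 hx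
  rw [conj_mul, tt h]; group

theorem xF (hx : IsConj t x) : x ∉ cl [z, v, f, g] := fun k => by
  obtain ⟨a, -, e⟩ := root h (ofsq h k (xx h hx))
  exact h.nsq a (e ▸ hx)

/-- (SC) for `⟨x, V⟩`. -/
theorem sc (hP : IsPGroup 2 P) (hx : IsConj t x) (hc : x ∈ cen (cl [z, v])) (hy : y ∈ P)
    (yc : y ∈ cen (cl [z, v])) (yx : x * y = y * x) : y ∈ cl [z, v] ∨ x⁻¹ * y ∈ cl [z, v] := by
  have p : Pres (Tb.of 3 []) (val [z, v, x]) := by
    refine ⟨fun i hi k hk => ?_, fun i hi => ?_⟩ <;> change i < 3 at hi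
    · interval_cases i <;> interval_cases k <;> wsimp
      exacts [zv h, mcen.1 hc _ (m1 _ _), mcen.1 hc _ (m2 _ _)]
    · interval_cases i <;> wsimp
      exacts [zz h, vv h, xx h hx]
  have I : Ind (val [z, v, x]) 3 := Ind.snoc (l := [z, v]) (fun k hk => by
    have := ind h k (by change k < 2 at hk; omega)
    change k < 2 at hk
    interval_cases k <;> rw [H_val] at this ⊢ <;> exact this) fun k => xF h hx (VF k)
  have c := p.card rfl (k := 3) le_rfl I
  rw [H_val] at c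
  have := h.sc x hx (cl [z, v, x]) (mem_cl (by simp)) (fun e he => by
    obtain ⟨w, hw, rfl⟩ := p.mem_cl rfl 3 le_rfl he
    rw [← W_append]
    exact p.W_eq ((by decide +kernel : ∀ w ∈ subs 3, (Tb.of 3 []).same (w ++ w) [] = true) w hw)) c
    (zpowers y) (zpowers_le.2 (cen_cl.2 (by
      simp [mcen.1 yc _ (m1 _ _), mcen.1 yc _ (m2 _ _), yx]))) (hP.to_le (zpowers_le.2 hy))
    (mem_zpowers y)
  have := p.mem_succ rfl (k := 2) (by decide) (g := y) (by rwa [H_val])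
  rwa [H_val] at this

theorem tV : t ∈ cen (cl [z, v]) := mcen.2 fun e he => by
  have := tinv h (VF (f := f) (g := g) he)
  rw [inv_eq_of_mul_eq_one_right (V2 h he), mul_inv_eq_iff_eq_mul] at this
  exact this.symm

theorem FV (ha : a ∈ cl [z, v, f, g]) : a ∈ cen (cl [z, v]) := mcen.2 fun _ he => comm h (VF he) ha

/-- `q y = 1` forces `y ∈ R`. -/
theorem of_q (hP : IsPGroup 2 P) (RP : cl [z, v, f, g, t] ≤ P) (hy : y ∈ P)
    (hn : y ∈ nor (cl [z, v, f, g, t])) (yc : y ∈ cen (cl [z, v])) (k : q t y = 1) :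
    y ∈ cl [z, v, f, g, t] := by
  obtain ⟨a, ha, e⟩ := root h (ofsq h (thF h hn) k)
  have e1 : t * (a⁻¹ * y) = a⁻¹ * y * t := by
    calc t * (a⁻¹ * y) = a⁻¹ * (a * (t * a⁻¹ * t⁻¹)) * t * y := by group
      _ = _ := by rw [tinv h (inv_mem ha), inv_inv, e]; group
  rcases sc h hP (IsConj.refl t) (tV h) (mul_mem (inv_mem (RP (FR ha))) hy)
    (mul_mem (inv_mem (FV h ha)) yc) e1 with m | m
  · exact (mul_mem_cancel_left (inv_mem (FR ha))).1 (FR (VF m))
  · exact (mul_mem_cancel_left (inv_mem (FR ha))).1 ((mul_mem_cancel_left (inv_mem tR)).1 (FR (VF m)))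

/-- The element of order three modulo `C(R)` may be chosen to normalize `C_P(V)`. -/
theorem tau (hS : IsSyl 2 P (nor (cl [z, v, f, g, t]))) :
    ∃ c ∈ cen (cl [z, v, f, g, t]), c * σ ∈ nor (P ⊓ cen (cl [z, v])) := by
  have two : IsPGroup 2 (cl [z, v, f, g, t]) := by
    have := h.pres.isPGroup wf (k := 5) (by decide)
    rwa [H_val] at this
  obtain ⟨K, k1, k2, k3⟩ := H30.DZ.jobL.stab G [cl [z, v], cl [z, v, f, g]] (cl [z, v, f, g, t])
    (by simp [VF, FR]) two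
  have nK : nor (cl [z, v, f, g, t]) ≤ nor K := fun n hn => k3 n (by simp [norV h hn, norF h hn, hn])
  obtain ⟨R', r1, r2, r3, r4⟩ := H30.DZ.jobL.lift0 G _ K P k1 hS.isPGroup (hS.le.trans nK)
  have e : R' = P ⊓ cen (cl [z, v]) := by
    refine le_antisymm (le_inf (hS.le_of_le_normalizer r1.isPGroup (r1.le.trans k1.le) r2)
      fun y hy => mcen.2 fun e he => ?_) fun y hy => r3 ⟨hy.1, (k2 y).2 ⟨fun e he => ?_,
        fun a ha => trF h (hS.le hy.1) hy.2 ha, fun r hr => ?_, trivial⟩⟩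
    · have := mem_bot.1 (((k2 y).1 (r1.le hy)).1 e he)
      rw [mul_inv_eq_one, mul_inv_eq_iff_eq_mul] at this
      exact this.symm
    · rw [← mcen.1 hy.2 e he]; simp
    · have nF := mem_normalizer_iff.1 (norF h (hS.le hy.1))
      rcases memR h hr with k | k
      · exact mul_mem ((nF r).1 k) (inv_mem k)
      · obtain ⟨c, rfl⟩ : ∃ c, r = t * c := ⟨t⁻¹ * r, by group⟩
        rw [inv_mul_cancel_left] at k
        rw [show y * (t * c) * y⁻¹ * (t * c)⁻¹ =
          y * t * y⁻¹ * t⁻¹ * (t * (y * c * y⁻¹ * c⁻¹) * t⁻¹) by group,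
          tinv h (mul_mem ((nF c).1 k) (inv_mem k))]
        exact mul_mem (thF h (hS.le hy.1)) (inv_mem (mul_mem ((nF c).1 k) (inv_mem k)))
  have hσ : σ ∈ nor (cl [z, v, f, g, t]) := nor_cl (by
    simp only [List.forall_mem_cons, List.not_mem_nil, false_imp_iff, implies_true, and_true,
      h.σz, h.σv, h.σf, h.σg, h.σt]
    exact ⟨FR (VF (m2 _ _)), FR (VF (mul_mem (m2 _ _) (m1 _ _))), FR gF,
      FR (inv_mem (mul_mem fF gF)), tR⟩)
  exact e ▸ r4 σ (nK hσ)

/-- The action of an element on `F` from its action on `f` and `g`. -/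
theorem act (yc : y ∈ cen (cl [z, v])) {α β : List ℕ}
    (k1 : y * f * y⁻¹ = W (val [z, v, f, g, t, s]) α) (k2 : y * g * y⁻¹ = W (val [z, v, f, g, t, s]) β) :
    Act (val [z, v, f, g, t, s]) y [0, 1, 2, 3] [(2, α), (3, β)] := by
  intro r hr
  simp only [List.mem_cons, List.not_mem_nil, or_false] at hr
  rcases hr with rfl | rfl | rfl | rfl <;> wsimp
  exacts [by rw [← mcen.1 yc _ (m1 _ _), mul_inv_cancel_right],
    by rw [← mcen.1 yc _ (m2 _ _), mul_inv_cancel_right], k1, k2]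

omit h in
theorem all4 : ∀ w ∈ subs 4, w.all (· ∈ [0, 1, 2, 3]) = true := by decide +kernel

variable (hS : IsSyl 2 P (nor (cl [z, v, f, g, t]))) (hT : cl [z, v, f, g, t, s] ≤ P)
include hS hT

theorem RP : cl [z, v, f, g, t] ≤ P := (cl_mono (by simp)).trans hT

/-- Case (a): `x` and `y` invert `F`. -/
theorem caseA (xP : x ∈ P) (xc : x ∈ cen (cl [z, v])) (yP : y ∈ P) (yc : y ∈ cen (cl [z, v]))
    (x2 : x * x = 1) (y2 : y * y = 1) (qx : q t x = z) (qy : q t y = v)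
    (ix : ∀ a ∈ cl [z, v, f, g], x * a * x⁻¹ = a⁻¹) (iy : ∀ a ∈ cl [z, v, f, g], y * a * y⁻¹ = a⁻¹) :
    False := by
  have tP := RP h hS hT tR
  have uP : t * s ∈ P := mul_mem tP (hT (mem_cl (by simp)))
  have ut : t * s * t * (t * s)⁻¹ = t := by
    rw [mul_inv_eq_iff_eq_mul]; simpa [mul_assoc] using eq h (w := [4, 5, 4]) (w' := [4, 4, 5])
  have uu : t * s * (t * s) = 1 := by simpa [mul_assoc] using eq h (w := [4, 5, 4, 5]) (w' := [])
  have uv : t * s * v * (t * s)⁻¹ = v * z := by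
    rw [mul_inv_eq_iff_eq_mul]; simpa [mul_assoc] using eq h (w := [4, 5, 1]) (w' := [1, 0, 4, 5])
  have hu := h.ts
  generalize t * s = u at uP ut uu uv hu
  have ti : t⁻¹ = t := inv_eq_of_mul_eq_one_right (tt h)
  have cF : ∀ {x}, (∀ a ∈ cl [z, v, f, g], x * a * x⁻¹ = a⁻¹) → x * t ∈ cen (cl [z, v, f, g]) :=
    fun {x} k => mcen.2 fun a ha => by
      rw [← mul_inv_eq_iff_eq_mul.1 (show x * t * a * (x * t)⁻¹ = a by
        rw [show x * t * a * (x * t)⁻¹ = x * (t * a * t⁻¹) * x⁻¹ by group, tinv h ha,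
          k _ (inv_mem ha), inv_inv])]
  have iv : ∀ {x}, x * x = 1 → t * (x * t) * t⁻¹ = (x * t)⁻¹ := fun {x} k => by
    rw [mul_inv_rev, inv_eq_of_mul_eq_one_right k, ti, mul_assoc, mul_assoc, tt h, mul_one]
  have qt : ∀ {x}, x ∈ P → x ∈ cen (cl [z, v]) → q t (x * t) = q t x := fun {x} k1 k2 => by
    rw [q_mul h (hS.le k1) k2 (le_normalizer tR)]; simp [q]
  have p2 : x * t * (x * t) * (x * t * (x * t)) = z := by
    rw [← qx, q, inv_eq_of_mul_eq_one_right x2, ti]; group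
  have pP := mul_mem xP tP
  have p1 := cF ix
  have p3 := iv x2
  have p4 := (qt xP xc).trans qx
  have yP' := mul_mem yP tP
  have y1 := cF iy
  have y3 := iv y2
  have y4 := (qt yP yc).trans qy
  clear qt iv cF ix iy
  generalize x * t = p at *
  generalize y * t = k at *
  have cV : cen (cl [z, v, f, g]) ≤ cen (cl [z, v]) := centralizer_le VF
  have wP : u * k * u⁻¹ ∈ P := mul_mem (mul_mem uP yP') (inv_mem uP)
  have w1 : u * k * u⁻¹ ∈ cen (cl [z, v, f, g]) := mcen.2 fun a ha => by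
    have := mcen.1 y1 _ ((mem_normalizer_iff''.1 (norF h (hS.le uP)) a).1 ha)
    calc a * (u * k * u⁻¹) = u * (u⁻¹ * a * u * k) * u⁻¹ := by group
      _ = _ := by rw [this]; group
  have w3 : t * (u * k * u⁻¹) * t⁻¹ = (u * k * u⁻¹)⁻¹ := by
    conv_lhs => rw [← ut]
    rw [show u * t * u⁻¹ * (u * k * u⁻¹) * (u * t * u⁻¹)⁻¹ = u * (t * k * t⁻¹) * u⁻¹ by group, y3]
    group
  have w4 : q t (u * k * u⁻¹) = v * z := by rw [q_cj ut, y4, uv]
  have wu : u * (u * k * u⁻¹) * u⁻¹ = k := by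
    rw [show u * (u * k * u⁻¹) * u⁻¹ = u * u * k * (u * u)⁻¹ by group, uu]; group
  have uw : u * k * u⁻¹ = u * k * u⁻¹ := rfl
  generalize hw : u * k * u⁻¹ = w at wP w1 w3 w4 wu
  have qi : q t p⁻¹ = z := by
    have := q_mul h (hS.le pP) (cV p1) (hS.le (inv_mem pP))
    rw [mul_inv_cancel, q_F h (one_mem _), p4, eq_comm, mul_eq_one_iff_eq_inv,
      inv_eq_of_mul_eq_one_right (zz h)] at this
    exact this
  have c1 : p⁻¹ * (k * w) ∈ cen (cl [z, v, f, g]) := mul_mem (inv_mem p1) (mul_mem y1 w1)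
  have cP : p⁻¹ * (k * w) ∈ P := mul_mem (inv_mem pP) (mul_mem yP' wP)
  have cF : p⁻¹ * (k * w) ∈ cl [z, v, f, g] := cenF h (of_q h hS.isPGroup (RP h hS hT) cP (hS.le cP)
    (cV c1) (by
      rw [q_mul h (hS.le (inv_mem pP)) (cV (inv_mem p1)) (hS.le (mul_mem yP' wP)),
        q_mul h (hS.le yP') (cV y1) (hS.le wP), w4, y4, qi, mul_assoc v, zv h, ← mul_assoc, vv h,
        one_mul, zz h])) (mcen.1 c1 f fF).symm
  obtain ⟨c, e⟩ : ∃ c, k * w = p * c := ⟨p⁻¹ * (k * w), by group⟩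
  rw [e, inv_mul_cancel_left] at cF
  have pc : c * p = p * c := mcen.1 p1 c cF
  have i1 : t * (k * w) * t⁻¹ = (k * w)⁻¹ := by
    rw [e, ← conj_mul, p3, tinv h cF, ← pc, mul_inv_rev]
  have kw : k * w = w * k := by
    rw [← conj_mul, y3, w3, ← mul_inv_rev, inv_inj] at i1
    exact i1.symm
  have Y4 : (k * w) ^ 4 = z := by
    rw [e, (show Commute p c from pc.symm).mul_pow, show p ^ 4 = p * p * (p * p) by
      simp [pow_succ, mul_assoc], show c ^ 4 = c * c * (c * c) by simp [pow_succ, mul_assoc], p2,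
      V2 h (sqV h cF), mul_one]
  refine z1 h (Y4 ▸ h.no8 u hu t (mc1.2 (mul_inv_eq_iff_eq_mul.1 ut).symm) (k * w) (mc1.2 ?_) (tt h)
    i1 (by rw [show 8 = 4 * 2 by rfl, pow_mul, Y4, pow_two, zz h]))
  rw [eq_comm, ← mul_inv_eq_iff_eq_mul, ← conj_mul, hw, wu, kw]

/-- Case (b). -/
theorem caseB (hx : IsConj t x) (xP : x ∈ P) (xc : x ∈ cen (cl [z, v])) (yP : y ∈ P)
    (yc : y ∈ cen (cl [z, v])) (y2 : y * y = 1) (qx : q t x = z) (qy : q t y = v)
    (xf : x * f * x⁻¹ = f * z) (xg : x * g * x⁻¹ = g * (v * z)) (yf : y * f * y⁻¹ = f * (v * z))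
    (yg : y * g * y⁻¹ = g * v) : False := by
  have x2 := xx h hx
  have ax := act h xc (α := [2, 0]) (β := [3, 1, 0]) (by simpa using xf) (by simpa using xg)
  have ay := act h yc (α := [2, 1, 0]) (β := [3, 1]) (by simpa using yf) (by simpa using yg)
  have pP := mul_mem xP yP
  have pc := mul_mem xc yc
  have pf : x * y * f * (x * y)⁻¹ = f * v := by
    have := (ax.mul ay (w := [2]) rfl rfl).trans (eq h (w' := [2, 1]))
    simpa using this
  have pg : x * y * g * (x * y)⁻¹ = g * z := by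
    have := (ax.mul ay (w := [3]) rfl rfl).trans (eq h (w' := [3, 0]))
    simpa using this
  have ap := act h pc (α := [2, 1]) (β := [3, 0]) (by simpa using pf) (by simpa using pg)
  have kF : x * y * (x * y) ∈ cl [z, v, f, g] := cenF h (of_q h hS.isPGroup (RP h hS hT)
    (mul_mem pP pP) (hS.le (mul_mem pP pP)) (mul_mem pc pc) (by
      rw [q_mul h (hS.le pP) pc (hS.le pP), V2 h (qV h (hS.le pP))])) (by
      have := (ap.mul ap (w := [2]) rfl rfl).trans (eq h (w' := [2]))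
      rw [← mul_inv_eq_iff_eq_mul]
      simpa using this)
  have kV : x * y * (x * y) ∈ cl [z, v] := by
    obtain ⟨w, hw, e⟩ := wd h kF
    have := ap.w (all4 w hw)
    rw [← e, show x * y * (x * y * (x * y)) * (x * y)⁻¹ = x * y * (x * y) by group, e] at this
    rcases (by decide +kernel : ∀ w ∈ subs 4, (tbF true).eqv w (app [(2, [2, 1]), (3, [3, 0])] w) =
      false ∨ w.all (· < 2) = true) w hw with m | m
    exacts [absurd this (ne h m), e ▸ W_mem_cl [z, v, f, g, t, s] 2 m]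
  obtain ⟨c, cF, e⟩ : ∃ c ∈ cl [z, v, f, g], x * c * x⁻¹ = c * (x * y * (x * y)) := by
    rcases memV h kV with k | k | k | k <;> rw [k]
    · exact ⟨1, one_mem _, by group⟩
    · exact ⟨f, fF, xf⟩
    · exact ⟨f * g, mul_mem fF gF, by
        simpa [mul_assoc] using (ax.w (w := [2, 3]) rfl).trans (eq h (w' := [2, 3, 1]))⟩
    · exact ⟨g, gF, xg⟩
  have cP := RP h hS hT (FR cF)
  have e1 : x * (c * y) = c * y * x := by
    calc x * (c * y) = x * c * x⁻¹ * x * y := by group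
      _ = c * (x * y * (x * y) * x) * y := by rw [e]; group
      _ = c * (x * x) * y * x * (y * y) := by rw [mcen.1 xc _ kV]; group
      _ = _ := by rw [x2, y2]; group
  have qc : q t (c * y) = v := by
    rw [q_mul h (hS.le cP) (FV h cF) (hS.le yP), qy, q_F h cF, mul_one]
  rcases sc h hS.isPGroup hx xc (mul_mem cP yP) (mul_mem (FV h cF) yc) e1 with m | m
  · exact v1 h (qc ▸ q_F h (VF m))
  · have := q_F h (VF (f := f) (g := g) m)
    rw [inv_eq_of_mul_eq_one_right x2, q_mul h (hS.le xP) xc (hS.le (mul_mem cP yP)), qc, qx] at this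
    exact vz1 h this

/-- The case `q x = z`. -/
theorem core {τ : G} (hτ : τ ∈ nor (P ⊓ cen (cl [z, v]))) (τt : τ * t * τ⁻¹ = t) (τz : τ * z * τ⁻¹ = v)
    (τv : τ * v * τ⁻¹ = v * z) (τf : τ * f * τ⁻¹ = g) (τg : τ * g * τ⁻¹ = (f * g)⁻¹)
    (hx : IsConj t x) (xP : x ∈ P) (xc : x ∈ cen (cl [z, v])) (qx : q t x = z) : False := by
  have x2 := xx h hx
  have xn := hS.le xP
  obtain ⟨yP, yc⟩ := (mem_normalizer_iff.1 hτ x).1 ⟨xP, xc⟩
  have y2 : τ * x * τ⁻¹ * (τ * x * τ⁻¹) = 1 := by rw [conj_mul, x2]; group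
  have qy : q t (τ * x * τ⁻¹) = v := by rw [q_cj τt, qx, τz]
  have nc : ∀ a ∈ cl [z, v, f, g], x * a * x⁻¹ = a → a * a = 1 := fun a ha k => by
    rcases sc h hS.isPGroup hx xc (RP h hS hT (FR ha)) (FV h ha) (mul_inv_eq_iff_eq_mul.1 k) with m | m
    · exact V2 h m
    · exact absurd (inv_mem_iff.1 ((mul_mem_cancel_right ha).1 (VF m))) (xF h hx)
  have xf : x * f * x⁻¹ = f * z := by
    have aF := thF h xn
    have e1 : x * (x * t * x⁻¹ * t⁻¹) * x⁻¹ = (x * t * x⁻¹ * t⁻¹)⁻¹ := by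
      rw [show x * (x * t * x⁻¹ * t⁻¹) * x⁻¹ = x * x * t * x⁻¹ * t⁻¹ * x⁻¹ by group, x2,
        inv_eq_of_mul_eq_one_right x2]
      simp [inv_eq_of_mul_eq_one_right x2, mul_assoc]
    rw [q] at qx
    generalize x * t * x⁻¹ * t⁻¹ = a at aF e1 qx
    have eV : a⁻¹ * f ∈ cl [z, v] := ofsq h (mul_mem (inv_mem aF) fF) (by
      rw [mul_assoc, ← mul_assoc f, comm h fF (inv_mem aF), mul_assoc, ff h, ← qx]; group)
    calc x * f * x⁻¹ = x * a * x⁻¹ * (x * (a⁻¹ * f) * x⁻¹) := by group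
      _ = (a * a)⁻¹ * f := by rw [e1, ← mcen.1 xc _ eV]; group
      _ = _ := by rw [qx, inv_eq_of_mul_eq_one_right (zz h), comm h (VF (m1 _ _)) fF]
  have aτ : Act (val [z, v, f, g, t, s]) τ [0, 1, 2, 3] [(0, [1]), (1, [1, 0]), (2, [3]), (3, [3, 2, 1, 0])] := by
    intro r hr
    simp only [List.mem_cons, List.not_mem_nil, or_false] at hr
    rcases hr with rfl | rfl | rfl | rfl <;> wsimp
    exacts [τz, τv, τf, by
      rw [τg, inv_eq_iff_mul_eq_one]
      simpa [mul_assoc] using eq h (w := [2, 3, 3, 2, 1, 0]) (w' := [])]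
  have tr : ∀ w w' : List ℕ, w.all (· ∈ [0, 1, 2, 3]) = true → w'.all (· ∈ [0, 1, 2, 3]) = true →
      x * W (val [z, v, f, g, t, s]) w * x⁻¹ = W (val [z, v, f, g, t, s]) w' →
      τ * x * τ⁻¹ * W (val [z, v, f, g, t, s])
        (app [(0, [1]), (1, [1, 0]), (2, [3]), (3, [3, 2, 1, 0])] w) * (τ * x * τ⁻¹)⁻¹ =
        W (val [z, v, f, g, t, s]) (app [(0, [1]), (1, [1, 0]), (2, [3]), (3, [3, 2, 1, 0])] w') :=
    fun w w' k k' e => by rw [← aτ.w k, ← aτ.w k', ← e]; group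
  have xg : ∀ e, x * g * x⁻¹ * g⁻¹ = e → x * g * x⁻¹ = g * e := fun e k => by
    rw [comm h gF (k ▸ VF (trF h xn xc gF)), ← k]; group
  have inv : ∀ {y}, Act (val [z, v, f, g, t, s]) y [0, 1, 2, 3] [(2, [2, 0]), (3, [3, 1])] →
      ∀ a ∈ cl [z, v, f, g], y * a * y⁻¹ = a⁻¹ := fun k a ha => by
    obtain ⟨w, hw, rfl⟩ := wd h ha
    rw [k.w (all4 w hw), eq_inv_iff_mul_eq_one, ← W_append]
    exact eq h ((by decide +kernel : ∀ w ∈ subs 4,
      (tbF true).same (app [(2, [2, 0]), (3, [3, 1])] w ++ w) [] = true) w hw)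
  rcases memV h (trF h xn xc gF) with k | k | k | k <;> replace k := xg _ k
  · exact v1 h (gg h ▸ nc g gF (by simpa using k))
  · have ax := act h xc (α := [2, 0]) (β := [3, 0]) (by simpa using xf) (by simpa using k)
    exact vz1 h (fgfg h ▸ nc _ (mul_mem fF gF) (by
      simpa using (ax.w (w := [2, 3]) rfl).trans (eq h (w' := [2, 3]))))
  · have ax := act h xc (α := [2, 0]) (β := [3, 1]) (by simpa using xf) (by simpa using k)
    refine caseA h hS hT xP xc yP yc x2 y2 qx qy (inv ax) (inv (act h yc ?_ ?_))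
    · have := tr [3, 2, 1, 0] _ rfl rfl (ax.w rfl)
      rw [eq h (w' := [2]), eq h (w := app _ (app _ _)) (w' := [2, 0])] at this
      simpa using this
    · have := tr [2] _ rfl rfl (ax.w rfl)
      rw [eq h (w' := [3]), eq h (w := app _ (app _ _)) (w' := [3, 1])] at this
      simpa using this
  · have ax := act h xc (α := [2, 0]) (β := [3, 1, 0]) (by simpa using xf) (by simpa using k)
    refine caseB h hS hT hx xP xc yP yc y2 qx qy xf k ?_ ?_
    · have := tr [3, 2, 1, 0] _ rfl rfl (ax.w rfl)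
      rw [eq h (w' := [2]), eq h (w := app _ (app _ _)) (w' := [2, 1, 0])] at this
      simpa using this
    · have := tr [2] _ rfl rfl (ax.w rfl)
      rw [eq h (w' := [3]), eq h (w := app _ (app _ _)) (w' := [3, 1])] at this
      simpa using this

end

theorem jobZ1 : JobZ1.{u} := by
  intro G _ _ t z v f g s σ h P hS hT x xP xz xv hx
  have xc : x ∈ cen (cl [z, v]) := cen_cl.2 (by simp [xz, xv])
  obtain ⟨c, hc, hτ⟩ := tau h hS
  have k : ∀ a b, σ * a * σ⁻¹ = b → b ∈ cl [z, v, f, g, t] → c * σ * a * (c * σ)⁻¹ = b :=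
    fun a b e hb => by
      rw [show c * σ * a * (c * σ)⁻¹ = c * (σ * a * σ⁻¹) * c⁻¹ by group, e, ← mcen.1 hc b hb,
        mul_inv_cancel_right]
  have τt := k _ _ h.σt tR
  have τz := k _ _ h.σz (FR (VF (m2 _ _)))
  have τv := k _ _ h.σv (FR (VF (mul_mem (m2 _ _) (m1 _ _))))
  have key := fun x => core h hS hT (x := x) hτ τt τz τv (k _ _ h.σf (FR gF))
    (k _ _ h.σg (FR (inv_mem (mul_mem fF gF))))
  generalize c * σ = τ at hτ τt τz τv
  have st : ∀ x, IsConj t x → x ∈ P → x ∈ cen (cl [z, v]) → IsConj t (τ * x * τ⁻¹) ∧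
      τ * x * τ⁻¹ ∈ P ∧ τ * x * τ⁻¹ ∈ cen (cl [z, v]) := fun x a b c =>
    ⟨a.trans (isConj_iff.2 ⟨τ, rfl⟩), (mem_normalizer_iff.1 hτ x).1 ⟨b, c⟩⟩
  have k3 : ∀ x, IsConj t x → x ∈ P → x ∈ cen (cl [z, v]) → q t x ≠ v * z := fun x a b c e => by
    obtain ⟨a, b, c⟩ := st x a b c
    exact key _ a b c (by rw [q_cj τt, e, ← conj_mul, τv, τz, mul_assoc, zv h, ← mul_assoc, vv h,
      one_mul])
  rcases memV h (qV h (hS.le xP)) with e | e | e | e
  · exact of_q h hS.isPGroup (RP h hS hT) xP (hS.le xP) xc e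
  · exact (key x hx xP xc e).elim
  · obtain ⟨a, b, c⟩ := st x hx xP xc
    exact (k3 _ a b c (by rw [q_cj τt, e, τv])).elim
  · exact (k3 x hx xP xc e).elim

end H36.S3
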