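import Cfsg.Agent.H36.S3Z1

/-! S3-Z2: a Sylow `2`-subgroup of `N(F ⟨t⟩)` is Sylow in `G`. -/

set_option autoImplicit false
set_option linter.unusedSectionVars false

namespace H36.S3

open Subgroup Cfsg H98 H1.Gold H85.FZ H49.D8 H85.S3

universe u

variable {G : Type u} [Group G] [Finite G] {t z v f g s σ a b e r x y n : G} {P Q X Z : Subgroup G}

theorem card_le_cen (k : ∀ a ∈ X, a * t * a⁻¹ * t⁻¹ ∈ Z) :
    Nat.card X ≤ Nat.card Z * Nat.card (X ⊓ cen1 t : Subgroup G) := by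
  rw [card_eq_card_quotient_mul_card_subgroup ((cen1 t).subgroupOf X), ← inf_subgroupOf_left,
    Nat.card_congr (subgroupOfEquivOfLe (inf_le_left (a := X) (b := cen1 t))).toEquiv]
  refine Nat.mul_le_mul_right _ (Nat.card_le_card_of_injective
    (fun c => (⟨_, k c.out c.out.2⟩ : Z)) fun c d e => ?_)
  rw [← c.out_eq', ← d.out_eq', QuotientGroup.eq, mem_subgroupOf]
  have e1 : c.out * t * c.out.1⁻¹ = d.out * t * d.out.1⁻¹ := mul_right_cancel (congrArg Subtype.val e)
  refine mem_inf.2 ⟨mul_mem (inv_mem c.out.2) d.out.2, mc1.2 ?_⟩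
  calc _ = c.out.1⁻¹ * (d.out * t * d.out.1⁻¹) * d.out := by simp [mul_assoc]
    _ = _ := by rw [← e1]; simp [mul_assoc]

section

variable {β : Bool} (h : SF β t z v f g s σ)
include h

theorem wf' : (tbF β).wf = true := by cases β <;> decide +kernel

theorem ind' : Ind (val [z, v, f, g, t, s]) 6 :=
  h.pres.ind_of_card (wf' h) le_rfl (by rw [H_val]; exact h.card)

theorem pres4 : Pres (Tb.of 4 [(3, 1, [1, 0])]) (val [z, v, t, s]) :=
  h.pres.derive' _ [(2, [4]), (3, [5])] (fun i hi => by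
    change i < 4 at hi
    interval_cases i <;> wsimp) rfl (by cases β <;> decide +kernel)

theorem ind4 : Ind (val [z, v, t, s]) 4 := by
  have I := ind' h
  refine Ind.snoc (l := [z, v, t]) (Ind.snoc (l := [z, v]) (fun k hk => ?_) fun k => I 4 (by decide) ?_)
    fun k => I 5 (by decide) ?_
  · have := I k (by change k < 2 at hk; omega)
    change k < 2 at hk
    interval_cases k <;> rw [H_val] at this ⊢ <;> exact this
  · rw [H_val]; exact cl_mono (l := [z, v]) (by simp) k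
  · rw [H_val]; exact cl_mono (l := [z, v, t]) (by simp) k

theorem card4 : Nat.card (cl [z, v, t, s]) = 16 := by
  have := (pres4 h).card rfl (k := 4) le_rfl (ind4 h)
  rwa [H_val] at this

theorem card3 : Nat.card (cl [z, v, t]) = 8 := by
  have := (pres4 h).card rfl (k := 3) (by decide) ((ind4 h).mono (by decide))
  rwa [H_val] at this

theorem el3 : ∀ e ∈ cl [z, v, t], e * e = 1 := fun e he => by
  obtain ⟨w, hw, rfl⟩ := (pres4 h).mem_cl rfl 3 (by decide) he
  rw [← W_append]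
  exact (pres4 h).W_eq ((by decide +kernel : ∀ w ∈ subs 3,
    (Tb.of 4 [(3, 1, [1, 0])]).same (w ++ w) [] = true) w hw)

theorem le4 : cl [z, v, t, s] ≤ cen1 t ⊓ nor (cl [z, v, t]) := fun y hy => by
  refine ⟨mc1.2 ?_, ?_⟩
  · obtain ⟨w, hw, rfl⟩ := (pres4 h).mem_cl rfl 4 le_rfl hy
    simpa using (pres4 h).W_eq ((by decide +kernel : ∀ w ∈ subs 4,
      (Tb.of 4 [(3, 1, [1, 0])]).same (w ++ [2]) (2 :: w) = true) w hw)
  · have := (pres4 h).x_nor rfl (k := 3) (by decide)
    rw [H_val] at this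
    exact (cl_le (K := nor (cl [z, v, t]))).2 (by
      simp only [List.forall_mem_cons, List.not_mem_nil, false_imp_iff, implies_true, and_true]
      exact ⟨le_normalizer (mem_cl (by simp)), le_normalizer (mem_cl (by simp)),
        le_normalizer (mem_cl (by simp)), this⟩) hy

/-- `⟨t, v, s⟩` is Sylow in `C(t) ⊓ N(A)`. -/
theorem cenT (hQ : IsPGroup 2 Q) (l : cl [z, v, t, s] ≤ Q) (hy : y ∈ Q) (yt : y * t = t * y)
    (yn : y ∈ nor (cl [z, v, t])) : y ∈ cl [z, v, t, s] := by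
  have := h.n16 t (IsConj.refl t) _ (mem_cl (by simp)) (el3 h) (card3 h)
    (Q ⊓ (cen1 t ⊓ nor (cl [z, v, t]))) inf_le_right (hQ.to_le inf_le_left)
  rw [eq_of_le_of_card_ge (le_inf l (le4 h)) (by rw [card4 h]; exact this)]
  exact ⟨hy, mc1.2 yt, yn⟩

end

section

variable (h : SF true t z v f g s σ)
include h

theorem tinv' (ha : a ∈ cl [z, v, f, g]) : t⁻¹ * a * t = a⁻¹ := by
  rw [← tinv h ha, inv_eq_of_mul_eq_one_right (tt h)]

theorem norA (hn : n ∈ nor (cl [z, v])) (k : n * t * n⁻¹ * t⁻¹ ∈ cl [z, v]) :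
    n ∈ nor (cl [z, v, t]) := by
  have l : cl [z, v] ≤ cl [z, v, t] := cl_mono (by simp)
  refine nor_cl ?_
  simp only [List.forall_mem_cons, List.not_mem_nil, false_imp_iff, implies_true, and_true]
  exact ⟨l ((mem_normalizer_iff.1 hn _).1 (m1 _ _)), l ((mem_normalizer_iff.1 hn _).1 (m2 _ _)),
    (mul_mem_cancel_right (inv_mem (mem_cl (by simp)))).1 (l k)⟩

theorem tD (ha : a ∈ cl [z, v, f, g]) (hb : b ∈ cl [z, v, f, g]) (k : a * a = b * b)
    (c : IsConj t (t * a)) : IsConj t (t * b) := by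
  obtain ⟨d, hd, e⟩ := root h (ofsq h (mul_mem (inv_mem ha) hb) (by
    rw [mul_assoc, ← mul_assoc b, comm h hb (inv_mem ha), mul_assoc, ← k]; group))
  refine c.trans (isConj_iff.2 ⟨d⁻¹, ?_⟩)
  calc d⁻¹ * (t * a) * d⁻¹⁻¹ = t * (t⁻¹ * d⁻¹ * t) * a * d := by group
    _ = t * (d * a) * d := by
      rw [← tinv h hd]; group
    _ = _ := by rw [comm h hd ha, mul_assoc, mul_assoc, e]; group

theorem tD3 (ha : a ∈ cl [z, v, f, g]) (k : a * a ≠ 1) (c : IsConj t (t * a)) :
    IsConj t (t * f) ∧ IsConj t (t * g) := by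
  have s1 : ∀ a, IsConj t (t * a) → IsConj t (t * (σ * a * σ⁻¹)) := fun a c =>
    c.trans (isConj_iff.2 ⟨σ, by rw [← conj_mul, h.σt]⟩)
  have k1 : IsConj t (t * f) → IsConj t (t * g) := fun c => h.σf ▸ s1 f c
  have k2 : IsConj t (t * g) → IsConj t (t * (f * g)⁻¹) := fun c => h.σg ▸ s1 g c
  have k3 : IsConj t (t * (f * g)⁻¹) → IsConj t (t * f) := fun c => by
    have := s1 _ c
    rwa [← conj_inv, ← conj_mul, h.σf, h.σg, show (g * (f * g)⁻¹)⁻¹ = f * g * g⁻¹ by group,
      mul_inv_cancel_right] at this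
  have : IsConj t (t * f) := by
    rcases memV h (sqV h ha) with e | e | e | e
    · exact absurd e k
    · exact tD h ha fF (e.trans (ff h).symm) c
    · exact k3 (k2 (tD h ha gF (e.trans (gg h).symm) c))
    · exact k3 (tD h ha (inv_mem (mul_mem fF gF)) (by
        rw [e, ← mul_inv_rev, fgfg h, eq_inv_iff_mul_eq_one]
        exact V2 h (mul_mem (m2 _ _) (m1 _ _))) c)
  exact ⟨this, k1 this⟩

variable (hS : IsSyl 2 P (nor (cl [z, v, f, g, t]))) (hT : cl [z, v, f, g, t, s] ≤ P)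
include hS hT

theorem cenP (hy : y ∈ P) (yt : y * t = t * y) : y ∈ cl [z, v, t, s] :=
  cenT h hS.isPGroup ((cl_mono (by simp)).trans hT) hy yt
    (norA h (norV h (hS.le hy)) (by rw [yt]; simp))

theorem cardP : Nat.card P ≤ 256 := by
  have c : Nat.card (cl [z, v, f, g]) = 16 := by
    have := h.pres.card wf (k := 4) (by decide) ((ind h).mono (by decide))
    rwa [H_val] at this
  have := card_le_cen (X := P) fun a ha => thF h (hS.le ha)
  have := card_le_of_le (show P ⊓ cen1 t ≤ _ from fun y hy => cenP h hS hT hy.1 (mc1.1 hy.2))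
  rw [card4 h] at this
  rw [c] at *
  omega

theorem zen (hy : y ∈ P) (k : y ∈ cen P) : y = 1 ∨ y = z := by
  have c : ∀ i < 6, W (val [z, v, f, g, t, s]) [i] * y = y * W (val [z, v, f, g, t, s]) [i] :=
    fun i hi => mcen.1 k _ (hT (W_mem_cl [z, v, f, g, t, s] 6 (by simpa using hi)))
  obtain ⟨w, hw, rfl⟩ := h.pres.mem_cl wf 6 le_rfl (cl_mono (l := [z, v, t, s]) (by simp)
    (cenP h hS hT hy (mcen.1 k t (RP h hS hT tR)).symm))
  simp only [← W_append] at c
  rcases (by decide +kernel : ∀ w ∈ subs 6, (∃ i < 6, (tbF true).eqv ([i] ++ w) (w ++ [i]) = false) ∨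
    w = [] ∨ w = [0]) w hw with ⟨i, hi, e⟩ | rfl | rfl
  · exact absurd (c i hi) (ne h e)
  all_goals simp

theorem zP : z ∈ cen P := by
  obtain ⟨e, e1, e2, -, e3⟩ := H14.exists_central_orderOf_eq (p := 2) (Q := cl [z, v]) (R := P)
    (hS.isPGroup.to_le (VF.trans (FR.trans (RP h hS hT)))) hS.isPGroup (fun y hy => norV h (hS.le hy))
    fun k => z1 h (mem_bot.1 (k ▸ m1 z v))
  rcases zen h hS hT (RP h hS hT (FR (VF e1))) e3 with k | k
  · simp [k] at e2
  · exact k ▸ e3

theorem norV' (hn : n ∈ nor P) : n ∈ nor (cl [z, v]) := by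
  have RP := RP h hS hT
  have m := mem_normalizer_iff.1 hn
  have m' := mem_normalizer_iff''.1 hn
  have nz : n * z * n⁻¹ = z := (zen h hS hT ((m z).1 (RP (FR (VF (m1 _ _))))) (mcen.2 fun y hy => by
    have := mcen.1 (zP h hS hT) _ ((m' y).1 hy)
    calc y * (n * z * n⁻¹) = n * (n⁻¹ * y * n * z) * n⁻¹ := by group
      _ = _ := by rw [this]; group)).resolve_left fun k => z1 h (conj_eq_one_iff.1 k)
  have uP := (m v).1 (RP (FR (VF (m2 _ _))))
  have u2 : n * v * n⁻¹ * (n * v * n⁻¹) = 1 := by rw [conj_mul, vv h]; group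
  have c : ∀ y ∈ P, y * (n * v * n⁻¹) * y⁻¹ = n * v * n⁻¹ ∨
      y * (n * v * n⁻¹) * y⁻¹ = n * v * n⁻¹ * z := fun y hy => by
    have y' := (m' y).1 hy
    have e : y * (n * v * n⁻¹) * y⁻¹ = n * (n⁻¹ * y * n * v * (n⁻¹ * y * n)⁻¹) * n⁻¹ := by group
    rcases memV h ((mem_normalizer_iff.1 (norV h (hS.le y')) v).1 (m2 _ _)) with k | k | k | k
    · exact absurd (conj_eq_one_iff.1 k) (v1 h)
    · rw [mul_inv_eq_iff_eq_mul, ← mcen.1 (zP h hS hT) _ y', mul_right_inj] at k
      exact absurd (by rw [← k, vv h]) (vz1 h)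
    · exact Or.inl (by rw [e, k])
    · exact Or.inr (by rw [e, k, ← conj_mul, nz])
  generalize hu : n * v * n⁻¹ = u at uP u2 c
  have uv : u * v = v * u := by
    have gz := mcen.1 (zP h hS hT) g (RP (FR gF))
    rw [eq_comm, ← mul_inv_eq_iff_eq_mul, ← gg h,
      show g * g * u * (g * g)⁻¹ = g * (g * u * g⁻¹) * g⁻¹ by group]
    rcases c g (RP (FR gF)) with k | k <;> rw [k]
    · exact k
    · rw [← conj_mul, k, gz, mul_inv_cancel_right, mul_assoc, zz h, mul_one]
  have u1 : u ∈ cl [z, v, f, g, t, s] := by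
    have l : cl [z, v, t, s] ≤ cl [z, v, f, g, t, s] := cl_mono (by simp)
    rcases c t (RP tR) with k | k
    · exact l (cenP h hS hT uP (mul_inv_eq_iff_eq_mul.1 k).symm)
    · refine (mul_mem_cancel_left (mem_cl (by simp) : f ∈ _)).1
        (l (cenP h hS hT (mul_mem (RP (FR fF)) uP) ?_))
      have uz := mcen.1 (zP h hS hT) u uP
      calc f * u * t = f⁻¹ * (z * u) * t := by rw [← ff h]; group
        _ = t * f * t⁻¹ * (t * u * t⁻¹) * t := by rw [tinv h fF, k, uz]
        _ = _ := by group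
  have uV : u ∈ cl [z, v] := by
    obtain ⟨w, hw, rfl⟩ := h.pres.mem_cl wf 6 le_rfl u1
    have := c g (RP (FR gF))
    simp only [mul_inv_eq_iff_eq_mul] at this
    rcases (by decide +kernel : ∀ w ∈ subs 6, (tbF true).eqv (w ++ w) [] = false ∨
      (tbF true).eqv (w ++ [1]) (1 :: w) = false ∨ ((tbF true).eqv (3 :: w) (w ++ [3]) = false ∧
      (tbF true).eqv (3 :: w) (w ++ [0, 3]) = false) ∨ w.all (· < 2) = true) w hw with k | k | k | k
    · exact absurd (by simpa using u2) (ne h k)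
    · exact absurd (by simpa using uv) (ne h k)
    · exact (this.elim (fun e => ne h k.1 (by simpa using e))
        fun e => ne h k.2 (by simpa [mul_assoc] using e)).elim
    · exact W_mem_cl [z, v, f, g, t, s] 2 k
  exact nor_cl (by simp [nz, hu, uV, m1])

end

theorem jobZ2 : JobZ2.{u} := by
  intro G _ _ t z v f g s σ h hZ
  have l : cl [z, v, f, g, t, s] ≤ nor (cl [z, v, f, g, t]) := by
    have := h.pres.x_nor wf (k := 5) (by decide)
    rw [H_val] at this
    refine cl_le.2 ?_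
    simp only [List.forall_mem_cons, List.not_mem_nil, false_imp_iff, implies_true, and_true]
    exact ⟨le_normalizer (mem_cl (by simp)), le_normalizer (mem_cl (by simp)),
      le_normalizer (mem_cl (by simp)), le_normalizer (mem_cl (by simp)), le_normalizer tR, this⟩
  obtain ⟨P, hS, hT⟩ := exists_isSyl_le (IsPGroup.of_card (p := 2) (n := 6) h.card) l
  refine bd_of_syl (syl_of_nor hS.isPGroup fun Q hQ PQ n nQ hn => ?_) ((cardP h hS hT).trans (by decide))
  have RP := RP h hS hT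
  have nV := norV' h hS hT hn
  have key : ∀ x ∈ cl [z, v, f, g, t], x ∈ cen (cl [z, v]) → IsConj t x →
      n * x * n⁻¹ ∈ cl [z, v, f, g, t] := fun x hx xc c => by
    have k : ∀ e ∈ cl [z, v], n * x * n⁻¹ * e = e * (n * x * n⁻¹) := fun e he => by
      have := mcen.1 xc _ ((mem_normalizer_iff''.1 nV e).1 he)
      calc n * x * n⁻¹ * e = n * (x * (n⁻¹ * e * n)) * n⁻¹ := by group
        _ = _ := by rw [← this]; group
    exact hZ P hS hT _ ((mem_normalizer_iff.1 hn x).1 (RP hx)) (k _ (m1 _ _)) (k _ (m2 _ _))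
      (c.trans (isConj_iff.2 ⟨n, rfl⟩))
  have kt := key t tR (tV h) (IsConj.refl t)
  have c : IsConj t (n * t * n⁻¹) := isConj_iff.2 ⟨n, rfl⟩
  have aF := (memR h kt).resolve_left (xF h c)
  by_cases a2 : t⁻¹ * (n * t * n⁻¹) * (t⁻¹ * (n * t * n⁻¹)) = 1
  · obtain ⟨d, hd, e⟩ := root h (ofsq h aF a2)
    have e1 : d * n * t = t * (d * n) := by
      calc d * n * t = d * t * (t⁻¹ * (n * t * n⁻¹)) * n := by group
        _ = t * (t⁻¹ * d * t) * d * (d * n) := by rw [← e]; group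
        _ = _ := by rw [tinv' h hd]; group
    have dP := RP (FR hd)
    exact (mul_mem_cancel_left dP).1 (hT (cl_mono (l := [z, v, t, s]) (by simp) (cenT h hQ
      ((cl_mono (by simp)).trans (hT.trans PQ)) (mul_mem (PQ dP) nQ) e1
      (norA h (mul_mem (norV h (hS.le dP)) nV) (by rw [e1, mul_inv_cancel_right]; simp)))))
  · obtain ⟨k1, k2⟩ := tD3 h aF a2 (by rwa [mul_inv_cancel_left])
    have k : ∀ a ∈ cl [z, v, f, g], IsConj t (t * a) → n * a * n⁻¹ ∈ cl [z, v, f, g, t] :=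
      fun a ha c => (mul_mem_cancel_left kt).1 (by
        rw [conj_mul]; exact key _ (mul_mem tR (FR ha)) (mul_mem (tV h) (FV h ha)) c)
    have nR : n ∈ nor (cl [z, v, f, g, t]) := nor_cl (by
      simp only [List.forall_mem_cons, List.not_mem_nil, false_imp_iff, implies_true, and_true]
      exact ⟨FR (VF ((mem_normalizer_iff.1 nV _).1 (m1 _ _))),
        FR (VF ((mem_normalizer_iff.1 nV _).1 (m2 _ _))), k f fF k1, k g gF k2, kt⟩)
    rw [← hS.eq_of_le (hQ.to_le (inf_le_left (b := nor (cl [z, v, f, g, t])))) (le_inf PQ hS.le)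
      inf_le_right]
    exact ⟨nQ, nR⟩

end H36.S3
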