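import Cfsg.Agent.H51.TESpec

/-! S1308, tower TE: two involutions of a 2-group. -/

set_option autoImplicit false

namespace H36.TE2Red

open Subgroup H98
open scoped commutatorElement

universe u

theorem aux {G : Type u} [Group G] {d e : G} {P : Subgroup G} (he : e * e = 1) (eP : e ∈ P) (k : ℕ) :
    ∀ x : G, (x = d ∨ ∃ g : G, x = g * e * g⁻¹) → x ∈ P → x * x = 1 → x * e ≠ e * x →
      (x * e) ^ 2 ^ k = 1 → ∃ x : G, (x = d ∨ ∃ g : G, x = g * e * g⁻¹) ∧ x ∈ P ∧
        ⁅x, e⁆ ≠ 1 ∧ ⁅x, e⁆ * x = x * ⁅x, e⁆ ∧ ⁅x, e⁆ * e = e * ⁅x, e⁆ := by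
  have ie : e⁻¹ = e := inv_eq_of_mul_eq_one_right he
  have e2 : ∀ a, e * (e * a) = a := fun a => by rw [← mul_assoc, he, one_mul]
  induction k with
  | zero =>
    intro x _ _ _ h3 h4
    rw [pow_zero, pow_one, mul_eq_one_iff_eq_inv, ie] at h4
    exact absurd (by rw [h4]) h3
  | succ k ih =>
    intro x h0 h1 h2 h3 h4
    have ix : x⁻¹ = x := inv_eq_of_mul_eq_one_right h2
    have x2 : ∀ a, x * (x * a) = a := fun a => by rw [← mul_assoc, h2, one_mul]
    by_cases h5 : x * e * x⁻¹ * e = e * (x * e * x⁻¹)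
    · refine ⟨x, h0, h1, fun h => h3 (commutatorElement_eq_one_iff_mul_comm.1 h), ?_, ?_⟩
      · rw [commutatorElement_def, ie, h5]
        conv_rhs => rw [← h5]
        rw [ix]
        simp only [mul_assoc, x2, h2, mul_one]
      · rw [commutatorElement_def, ie]
        conv_rhs => rw [h5]
        simp only [mul_assoc, e2, he, mul_one]
    · refine ih (x * e * x⁻¹) (.inr ⟨x, rfl⟩) (mul_mem (mul_mem h1 eP) (inv_mem h1)) ?_ h5 ?_
      · rw [ix]; simp only [mul_assoc, x2, e2, h2]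
      · rw [← h4, pow_succ', pow_mul, ix, pow_two, mul_assoc (x * e)]

theorem job : H51.TE.RED.{u} := by
  intro G _ _ d e P hd he hP dP eP h
  obtain ⟨k, hk⟩ := isPGroup_iff_forall.1 hP _ (mul_mem dP eP)
  exact aux he eP k d (.inl rfl) dP hd h hk

end H36.TE2Red
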