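import Cfsg.Agent.H57.U2CSpec

/-! S3275, chapter U2F: counting for a family of dihedral pairs. -/

set_option autoImplicit false

namespace H36.U2C

open Cfsg H98 H96 H57.U2C

universe u

theorem cn : CN.{u} := by
  intro W _ _ F B d a x _ hf hp
  let φ : W →+ (Fin d → W) := AddMonoidHom.pi fun i => dl (a i)
  have hφ : ∀ w i, φ w i = dl (a i) w := fun _ _ => rfl
  let S : AddSubgroup W :=
    { carrier := {w | ∃ h : Fin d → W, (∀ i, h i ∈ Wx (x i)) ∧ w = ∑ i, h i}
      zero_mem' := ⟨0, fun _ => zero_mem _, by simp⟩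
      add_mem' := by
        rintro _ _ ⟨h, h1, rfl⟩ ⟨k, k1, rfl⟩
        exact ⟨h + k, fun i => add_mem (h1 i) (k1 i), by simp [Finset.sum_add_distrib]⟩
      neg_mem' := by
        rintro _ ⟨h, h1, rfl⟩
        exact ⟨-h, fun i => neg_mem (h1 i), by simp⟩ }
  have key : ∀ h : Fin d → W, (∀ i, h i ∈ Wx (x i)) → ∀ i, dl (a i) (∑ j, h j) = dl (a i) (h i) :=
    fun h h1 i => by
      rw [map_sum]
      exact Finset.sum_eq_single i (fun j _ hj => dl_eq_zero.2 (hf.f1 j i hj _ (h1 j)))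
        fun e => absurd (Finset.mem_univ i) e
  have hm : ∀ f : Fin d → W, f ∈ S.map φ ↔ ∀ i, f i ∈ dl (a i) '' (Wx (x i) : Set W) := fun f => by
    constructor
    · rintro ⟨_, ⟨h, h1, rfl⟩, rfl⟩ i
      exact ⟨h i, h1 i, (key h h1 i).symm⟩
    · intro h
      choose k k1 k2 using h
      exact ⟨_, ⟨k, k1, rfl⟩, funext fun i => (key k k1 i).trans (k2 i)⟩
  have hc : Nat.card (S.map φ) = ∏ i, nI (a i) (x i) := by
    rw [Nat.card_congr ((Equiv.subtypeEquivRight hm).trans Equiv.subtypePiEquivPi), Nat.card_pi]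
    exact Finset.prod_congr rfl fun i _ => (hp i).img
  refine ⟨fun N hN => ?_, fun h i w => ?_⟩
  · have h1 : N ⊓ S ≤ φ.ker := by
      rintro _ ⟨h1, h, h2, rfl⟩
      refine funext fun i => dl_eq_zero.2 (hN _ h1 i ?_)
      rw [key h h2 i, dl_apply]
      exact sub_mem ((hp i).mem _ (h2 i)) (h2 i)
    rw [← hc, ← AddSubgroup.relIndex_ker, ← AddSubgroup.relIndex_top_right]
    refine (AddSubgroup.relIndex_le_of_le_left h1 AddSubgroup.index_ne_zero_of_finite).trans ?_
    rw [AddSubgroup.inf_relIndex_right]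
    exact AddSubgroup.relIndex_le_of_le_right le_top AddSubgroup.index_ne_zero_of_finite
  · have h1 : fx W B ≤ φ.ker := fun v hv => funext fun j => dl_eq_zero.2 (hv _ (hf.aB j))
    have h2 : Nat.card φ.range ≤ Nat.card (S.map φ) := by
      rw [hc, ← AddSubgroup.index_ker]
      exact (AddSubgroup.index_antitone h1).trans h
    have h3 := AddSubgroup.eq_of_le_of_card_ge (AddSubgroup.map_le_range φ S) h2
    obtain ⟨k, k1, k2⟩ := (hm (φ w)).1 (h3.ge ⟨w, rfl⟩) i
    exact ⟨k, k1, k2.symm⟩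

end H36.U2C
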